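import Cfsg.Agent.Lib.MaxClassDefect.Members
import Mathlib

/-!
# The case of a central involution
-/

set_option autoImplicit false
set_option linter.unusedSectionVars false
set_option linter.style.haveILetI false

namespace Cfsg.Agent.Lib.MaxClassDefect

open Cfsg
open Cfsg.Agent.Lib
open Cfsg.Agent.Lib.BrauerPairs
open Cfsg.Agent.Lib.NilBlock (bu bu_fst)
open Subgroup (zpowers mem_zpowers)
open scoped ComplexConjugate

universe u

attribute [local instance] Classical.propDecidable

variable {G : Type u} [Group G] [Fintype G] {M : Ideal AlgInt} [M.IsPrime]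
  {B : Set (IrrCharacter G)} {b : BrauerPairIdx G} {x y : G} {m a : ℕ}

/-- The sign by which the involution acts. -/
noncomputable def centSign (x : G) (m : ℕ) (χ : IrrCharacter G) : ℤ :=
  if (χ : G → ℂ) (invo x m) = (χ : G → ℂ) 1 then 1 else -1

theorem centSign_sq (x : G) (m : ℕ) (χ : IrrCharacter G) :
    centSign x m χ = 1 ∨ centSign x m χ = -1 := by
  rw [centSign]; split_ifs <;> simp

namespace Setting

variable (A : Setting M B b x y m a)
include A

theorem centSign_spec (hz : invo x m ∈ Subgroup.center G) (χ : IrrCharacter G) :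
    (χ : G → ℂ) (invo x m) = (centSign x m χ : ℂ) * (χ : G → ℂ) 1 := by
  have hne := Chars.irr_apply_one_ne_zero χ
  have h := Blocks.CentralKernel.irr_mul_central χ hz (invo x m)
  rw [show invo x m * invo x m = 1 by
    rw [← sq, ← A.orderOf_invo, pow_orderOf_eq_one]] at h
  rw [centSign]
  split_ifs with e
  · rw [e]; simp
  · rw [eq_div_iff hne] at h
    push_cast
    rw [neg_one_mul]
    exact (mul_self_eq_mul_self_iff.1 h.symm).resolve_left e

theorem secMat_invo (hz : invo x m ∈ Subgroup.center G) {χ : IrrCharacter G} (hχ : χ ∈ B)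
    (ψ : IrrCharacter G) :
    secMat 2 M b (invo x m) χ ψ =
      (centSign x m χ : ℂ) * centSign x m ψ * BrauerFeit.regCoef 2 χ ψ := by
  haveI := Fact.mk Nat.prime_two
  have h := NilBlock.wt_of_mem_center A.modular A.max A.invo_mem hz hχ ψ
  have htop : Subgroup.centralizer ({invo x m} : Set G) = ⊤ := (Subgroup.eq_top_iff' _).2 fun g =>
    Subgroup.mem_centralizer_singleton_iff.2 (Subgroup.mem_center_iff.1 hz g)
  rw [A.centSign_spec hz, A.centSign_spec hz,
    mul_div_cancel_right₀ _ (Chars.irr_apply_one_ne_zero χ),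
    mul_div_cancel_right₀ _ (Chars.irr_apply_one_ne_zero ψ), map_intCast, NilBlock.wt, htop,
    show (b.1 ⊓ (⊤ : Subgroup G)) = b.1 from inf_top_eq _] at h
  refine mul_left_cancel₀ (Chars.natCard_ne_zero (G := b.1)) (h.trans ?_)
  ring

theorem secMat_invo_self (hz : invo x m ∈ Subgroup.center G) {χ : IrrCharacter G} (hχ : χ ∈ B) :
    secMat 2 M b (invo x m) χ χ = BrauerFeit.regCoef 2 χ χ := by
  rw [A.secMat_invo hz hχ]
  rcases centSign_sq x m χ with e | e <;> rw [e] <;> simp

theorem blockRank_invo (hz : invo x m ∈ Subgroup.center G) :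
    blockRank 2 (bu 2 M b (invo x m)).2 = blockRank 2 B := by
  haveI := Fact.mk Nat.prime_two
  have h : ((blockRank 2 (bu 2 M b (invo x m)).2 : ℕ) : ℂ) = (blockRank 2 B : ℕ) := by
    rw [← sum_secMat_self A.modular A.max A.invo_mem,
      BrauerFeit.blockRank_eq_sum_regCoef A.modular A.max.1.2.1]
    exact Finset.sum_congr rfl fun χ hχ => A.secMat_invo_self hz (Set.mem_toFinset.1 hχ)
  exact_mod_cast h

/-- The regular elements cut by the involution have trace zero. -/
theorem sum_sign_reg (hz : invo x m ∈ Subgroup.center G) :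
    ∑ χ ∈ B.toFinset, (centSign x m χ : ℂ) * BrauerFeit.regCoef 2 χ χ = 0 := by
  haveI := Fact.mk Nat.prime_two
  have hne : ¬ Fused 2 M b 1 (invo x m) := by
    rintro ⟨g, hg, -⟩
    exact A.invo_ne_one (by rw [← hg, mul_one, mul_inv_cancel])
  have horth : ∀ χ ∈ B.toFinset, ∑ φ ∈ B.toFinset, BrauerFeit.regCoef 2 χ φ *
      ((centSign x m φ : ℂ) * BrauerFeit.regCoef 2 φ χ) = 0 := by
    intro χ hχ
    have h := secMat_orth A.modular A.max (one_mem _) A.invo_mem hne χ χ
    rw [Finset.sum_congr rfl fun φ hφ => by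
      rw [secMat_one A.modular A.max (Set.mem_toFinset.1 hχ),
        A.secMat_invo hz (Set.mem_toFinset.1 hφ)]] at h
    have hs : (centSign x m χ : ℂ) ≠ 0 := by
      rcases centSign_sq x m χ with e | e <;> rw [e] <;> norm_num
    refine (mul_eq_zero.1 (show (centSign x m χ : ℂ) * _ = 0 from ?_)).resolve_left hs
    rw [← h, Finset.mul_sum]
    exact Finset.sum_congr rfl fun φ _ => by ring
  calc ∑ χ ∈ B.toFinset, (centSign x m χ : ℂ) * BrauerFeit.regCoef 2 χ χ
      = ∑ χ ∈ B.toFinset, ∑ φ ∈ B.toFinset, BrauerFeit.regCoef 2 φ χ *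
          ((centSign x m χ : ℂ) * BrauerFeit.regCoef 2 χ φ) := by
        refine Finset.sum_congr rfl fun χ hχ => ?_
        rw [← BrauerFeit.sum_toFinset_regCoef_mul (BrauerFeit.regOrth A.modular) A.max.1.2.1
          (Set.mem_toFinset.1 hχ), Finset.mul_sum]
        exact Finset.sum_congr rfl fun φ _ => by ring
    _ = _ := by
        rw [Finset.sum_comm]
        exact Finset.sum_eq_zero horth

variable [NeZero (2 * m)]

/-- A translate by the involution of a rotation. -/
theorem secMat_shift (hz : invo x m ∈ Subgroup.center G) {i : ZMod (2 * m)} (h0 : i ≠ 0)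
    (hm : i ≠ (m : ZMod (2 * m))) (χ ψ : IrrCharacter G) :
    secMat 2 M b (rot x (i + (m : ZMod (2 * m)))) χ ψ =
      (centSign x m χ : ℂ) * centSign x m ψ * secMat 2 M b (rot x i) χ ψ := by
  have hM := A.modular
  have him0 : i + (m : ZMod (2 * m)) ≠ 0 := fun e =>
    hm (by rw [← A.mc.neg_m]; exact eq_neg_of_add_eq_zero_left e)
  have himm : i + (m : ZMod (2 * m)) ≠ (m : ZMod (2 * m)) := fun e => h0 (by
    linear_combination e)
  have hzmem : ∀ k : ZMod (2 * m), k ≠ 0 → k ≠ (m : ZMod (2 * m)) → invo x m ∈ zpowers (rot x k) := by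
    intro k k0 km
    have h := pow_mem (A.four_mem_zpowers k0 km) 2
    rwa [A.mc.rot_natCast, ← pow_mul, Nat.div_mul_cancel A.mc.even_m, ← A.mc.rot_natCast] at h
  have hmul : rot x (i + (m : ZMod (2 * m))) = rot x i * invo x m := A.mc.rot_add _ _
  have hzp : zpowers (rot x i) = zpowers (rot x (i + (m : ZMod (2 * m)))) := by
    refine le_antisymm (Subgroup.zpowers_le.2 ?_) (Subgroup.zpowers_le.2 ?_)
    · have h : rot x i = rot x (i + (m : ZMod (2 * m))) * (invo x m)⁻¹ := by
        rw [hmul, mul_inv_cancel_right]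
      rw [h]
      exact mul_mem (mem_zpowers _) (inv_mem (hzmem _ him0 himm))
    · rw [hmul]
      exact mul_mem (mem_zpowers _) (hzmem i h0 hm)
  have hbu : bu 2 M b (rot x (i + (m : ZMod (2 * m)))) = bu 2 M b (rot x i) :=
    NilBlock.eq_bu hM A.max.1.1 (A.mc.rot_mem i) (NilBlock.bu_le hM A.max.1.1 (A.mc.rot_mem _))
      ((bu_fst _).trans hzp.symm)
  set p := bu 2 M b (rot x i) with hp
  have hsec : ∀ (φ : IrrCharacter G) (ξ : IrrCharacter (Subgroup.centralizer (p.1 : Set G))),
      secFun (rot x i * invo x m) (φ : G → ℂ) p ξ =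
        (centSign x m φ : ℂ) * secFun (rot x i) (φ : G → ℂ) p ξ := by
    intro φ ξ
    rw [secFun, secFun, ← Chars.classInner_smul_left]
    congr 1
    funext c
    simp only [Pi.smul_apply, BrauerFeit.pRegularPart_apply, smul_eq_mul]
    split_ifs
    · rw [mul_zero]
    · rw [mul_assoc, ← Subgroup.mem_center_iff.1 hz (c : G), ← mul_assoc,
        Blocks.CentralKernel.irr_mul_central φ hz, A.centSign_spec hz,
        ← mul_assoc, mul_div_cancel_right₀ _ (Chars.irr_apply_one_ne_zero φ), mul_comm]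
  rw [secMat, secMat, hbu, hmul, con_eq_conFun, con_eq_conFun, conFun, conFun, Finset.mul_sum]
  refine Finset.sum_congr rfl fun ξ _ => ?_
  rw [hsec, hsec, map_mul, map_intCast]
  ring

variable {L : IrrCharacter G → ZMod (2 * m) → ℕ} (hL : Cols M b x m a L)
include hL

theorem colFun_shift (hz : invo x m ∈ Subgroup.center G) {h : IrrCharacter G} (hh : PureCol m L h)
    {i : ZMod (2 * m)} (h0 : i ≠ 0) (hm : i ≠ (m : ZMod (2 * m))) (χ : IrrCharacter G) :
    colFun L χ (i + (m : ZMod (2 * m))) =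
      ((centSign x m χ * centSign x m h : ℤ) : ℂ) * colFun L χ i := by
  obtain ⟨k, t, hk, ht, hF⟩ := hh
  have him0 : i + (m : ZMod (2 * m)) ≠ 0 := fun e =>
    hm (by rw [← A.mc.neg_m]; exact eq_neg_of_add_eq_zero_left e)
  have himm : i + (m : ZMod (2 * m)) ≠ (m : ZMod (2 * m)) := fun e => h0 (by
    linear_combination e)
  have hsame : colFun L h (i + (m : ZMod (2 * m))) = colFun L h i := by
    rw [hF _ him0 himm, hF i h0 hm, mul_add, show k * (m : ZMod (2 * m)) = 0 by
      rcases hk with rfl | rfl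
      · exact zero_mul _
      · exact A.mc.m_mul_m, add_zero]
  have hne : conj (colFun L h i) ≠ 0 := by
    rw [map_ne_zero, hF i h0 hm]
    refine mul_ne_zero ?_ ((ZMod.stdAddChar : AddChar (ZMod (2 * m)) ℂ).val_isUnit _).ne_zero
    rcases ht with rfl | rfl <;> norm_num
  refine mul_right_cancel₀ hne ?_
  have e := hL.form _ him0 himm χ h
  rw [hsame, A.secMat_shift hz h0 hm, mul_left_comm, hL.form i h0 hm] at e
  rw [← e]
  push_cast
  ring

/-- The sign is fixed by any variation. -/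
theorem sign_of_ne (hz : invo x m ∈ Subgroup.center G) {h : IrrCharacter G} (hh : PureCol m L h)
    {j k : ZMod (2 * m)} (hjk : j * (m : ZMod (2 * m)) = k * m) {χ : IrrCharacter G}
    (hne : (L χ j : ℤ) ≠ L χ k) :
    ((centSign x m χ * centSign x m h : ℤ) : ℂ) = ZMod.stdAddChar (j * (m : ZMod (2 * m))) := by
  set s : ℂ := ((centSign x m χ * centSign x m h : ℤ) : ℂ) with hs
  set e : ℂ := ZMod.stdAddChar (j * (m : ZMod (2 * m))) with he
  set g : ZMod (2 * m) → ℂ := fun i =>
    (ZMod.stdAddChar (-(j * i)) : ℂ) - ZMod.stdAddChar (-(k * i)) with hg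
  have hgs : ∀ i, g (i + (m : ZMod (2 * m))) = e * g i := by
    intro i
    simp only [hg, he]
    have hneg : -(j * (m : ZMod (2 * m))) = j * m := by rw [neg_mul_eq_mul_neg, A.mc.neg_m]
    rw [mul_sub, ← AddChar.map_add_eq_mul, ← AddChar.map_add_eq_mul, mul_add, mul_add, neg_add,
      neg_add, ← hjk, hneg, add_comm (j * (m : ZMod (2 * m))), add_comm (j * (m : ZMod (2 * m)))]
  have hg0 : g 0 = 0 := by simp [hg]
  have hgm : g (m : ZMod (2 * m)) = 0 := by simp [hg, hjk]
  have hsum : ∑ i, colFun L χ i * g i = (s * e) * ∑ i, colFun L χ i * g i := by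
    rw [Finset.mul_sum]
    refine (Equiv.sum_comp (Equiv.addRight (m : ZMod (2 * m)))
      (fun i => colFun L χ i * g i)).symm.trans (Finset.sum_congr rfl fun i _ => ?_)
    simp only [Equiv.coe_addRight]
    rw [hgs]
    by_cases h0 : i = 0
    · rw [h0, hg0]; ring
    by_cases hm : i = (m : ZMod (2 * m))
    · rw [hm, hgm]; ring
    rw [A.colFun_shift hL hz hh h0 hm, ← hs]
    ring
  rw [← A.two_m_mul_sub hL j k χ] at hsum
  have hD : (2 * m : ℂ) * (((L χ j : ℤ) - L χ k : ℤ) : ℂ) ≠ 0 :=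
    mul_ne_zero (A.two_m_ne hL) (Int.cast_ne_zero.2 (sub_ne_zero.2 hne))
  have hse : s * e = 1 := mul_right_cancel₀ hD (hsum.symm.trans (one_mul _).symm)
  have hee : e * e = 1 := by
    rw [he, ← AddChar.map_add_eq_mul, ← two_mul, mul_left_comm, A.mc.cast_two_m, mul_zero,
      AddChar.map_zero_eq_one]
  calc s = s * (e * e) := by rw [hee, mul_one]
    _ = (s * e) * e := by ring
    _ = e := by rw [hse, one_mul]

theorem sign_dl (hz : invo x m ∈ Subgroup.center G) {h : IrrCharacter G} (hh : PureCol m L h)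
    {χ : IrrCharacter G} (hne : dl L χ ≠ 0) : centSign x m χ * centSign x m h = 1 := by
  have e := A.sign_of_ne hL hz hh (j := 0) (k := (m : ZMod (2 * m)))
    (by rw [zero_mul, A.mc.m_mul_m]) (sub_ne_zero.1 hne)
  rw [zero_mul, AddChar.map_zero_eq_one] at e
  exact_mod_cast e

theorem sign_wv (hz : invo x m ∈ Subgroup.center G) {h : IrrCharacter G} (hh : PureCol m L h)
    {χ : IrrCharacter G} {i : ZMod (2 * m)} (hi : i ∈ evenReps m a) (hne : wv L i χ ≠ 0) :
    centSign x m χ * centSign x m h = 1 := by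
  have e := A.sign_of_ne hL hz hh (j := 0) (k := i)
    (by rw [zero_mul, (A.mem_evenReps.1 hi).2]) (sub_ne_zero.1 hne)
  rw [zero_mul, AddChar.map_zero_eq_one] at e
  exact_mod_cast e

theorem sign_ov (hz : invo x m ∈ Subgroup.center G) {h : IrrCharacter G} (hh : PureCol m L h)
    {χ : IrrCharacter G} {p q : ZMod (2 * m)} (hp : p ∈ oddReps m a) (hq : q ∈ oddReps m a)
    (hne : ov L p χ ≠ ov L q χ) : centSign x m χ * centSign x m h = -1 := by
  have e := A.sign_of_ne hL hz hh (j := p) (k := q)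
    (by rw [(A.mem_oddReps.1 hp).2, (A.mem_oddReps.1 hq).2]) hne
  rw [(A.mem_oddReps.1 hp).2, A.mc.stdAddChar_m] at e
  exact_mod_cast e

theorem sign_flat (hz : invo x m ∈ Subgroup.center G) {h : IrrCharacter G} (hh : h ∈ zeroSet B)
    {χ : IrrCharacter G} (hχ : χ ∈ B) (hf : Flat m a L χ) :
    centSign x m χ * centSign x m h = -1 := by
  obtain ⟨σ, h1, -, h4, -, -⟩ := A.flat_row hL hχ hf
  have e := A.flat_secMat_invo hL hχ hf h
  rw [A.secMat_invo hz hχ, if_neg fun (e : χ = h) => A.flat_notMem hL hf (e.symm ▸ hh)] at e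
  have hne : BrauerFeit.regCoef 2 χ h ≠ 0 := fun e0 => by
    have := h4 h hh
    rw [e0, mul_zero] at this
    rcases h1 h hh with e' | e' <;> rw [e'] at this <;> norm_num at this
  have : ((centSign x m χ * centSign x m h : ℤ) : ℂ) = -1 := by
    push_cast
    exact mul_right_cancel₀ hne (by linear_combination e)
  exact_mod_cast this

/-- One orbit is moved by the involution as by the twist. -/
theorem card_half :
    ((orbitReps m a).filter fun i : ZMod (2 * m) =>
      (a : ZMod (2 * m)) * i = i + (m : ZMod (2 * m))).card = 1 := by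
  have hm2 := A.mc.two_le
  set h : ZMod (2 * m) := ((m / 2 : ℕ) : ZMod (2 * m)) with hh
  have h2 : 2 * h = (m : ZMod (2 * m)) := by
    have e := congrArg (Nat.cast : ℕ → ZMod (2 * m)) (Nat.mul_div_cancel' A.mc.even_m)
    rw [Nat.cast_mul] at e
    exact e
  have hh0 : h ≠ 0 := fun e => A.mc.m_ne_zero (by rw [← h2, e, mul_zero])
  have hhm : h ≠ (m : ZMod (2 * m)) := fun e => A.mc.m_ne_zero (by
    rw [← h2, e, A.mc.cast_two_m])
  have hah := A.mc.twist_half h2
  obtain ⟨c, hc⟩ := A.mc.exists_unit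
  have hchar : ∀ i : ZMod (2 * m), (a : ZMod (2 * m)) * i = i + (m : ZMod (2 * m)) ↔
      i = h ∨ i = (a : ZMod (2 * m)) * h := by
    intro i
    refine ⟨fun e => ?_, ?_⟩
    · have e1 : 2 * ((c : ZMod (2 * m)) * i) = 2 * ((c : ZMod (2 * m)) * h) := by
        linear_combination -e + hah - (i - h) * hc
      have e2 : 2 * ((c : ZMod (2 * m)) * (i - h)) = 0 := by linear_combination e1
      rcases A.mc.two_mul_eq_zero.1 e2 with e3 | e3
      · exact Or.inl (sub_eq_zero.1 ((IsUnit.mul_right_eq_zero c.isUnit).1 e3))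
      · right
        have e4 : (c : ZMod (2 * m)) * (i - h - m) = 0 := by
          have hcm : (c : ZMod (2 * m)) * (m : ZMod (2 * m)) = m := by
            rcases A.mc.two_mul_eq_zero.1 (show 2 * ((c : ZMod (2 * m)) * m) = 0 by
              rw [mul_left_comm, A.mc.cast_two_m, mul_zero]) with e | e
            · exact absurd ((IsUnit.mul_right_eq_zero c.isUnit).1 e) A.mc.m_ne_zero
            · exact e
          linear_combination e3 - hcm
        rw [hah]
        linear_combination (IsUnit.mul_right_eq_zero c.isUnit).1 e4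
    · rintro (rfl | rfl)
      · exact hah
      · rw [A.mc.twist_twist, hah, add_assoc, ← two_mul, A.mc.cast_two_m, add_zero]
  rw [Finset.card_eq_one]
  rcases A.orbit_cases hh0 hhm with hJ | hJ
  · refine ⟨h, Finset.eq_singleton_iff_unique_mem.2 ⟨Finset.mem_filter.2 ⟨hJ, hah⟩, fun i hi => ?_⟩⟩
    obtain ⟨hiJ, hi⟩ := Finset.mem_filter.1 hi
    exact ((hchar i).1 hi).resolve_right fun e => A.twist_notMem hJ (e ▸ hiJ)
  · refine ⟨_, Finset.eq_singleton_iff_unique_mem.2
      ⟨Finset.mem_filter.2 ⟨hJ, (hchar _).2 (Or.inr rfl)⟩, fun i hi => ?_⟩⟩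
    obtain ⟨hiJ, hi⟩ := Finset.mem_filter.1 hi
    refine ((hchar i).1 hi).resolve_left fun e => A.twist_notMem hJ ?_
    rwa [A.mc.twist_twist, ← e]

/-- The trace of the involution. -/
theorem sum_sign (hz : invo x m ∈ Subgroup.center G) {h : IrrCharacter G} (hh : PureCol m L h) :
    ∑ χ ∈ B.toFinset, centSign x m χ * centSign x m h = 1 + (outReps M b x y).card := by
  haveI := Fact.mk Nat.prime_two
  obtain ⟨hZeq, hZ4⟩ := A.zeroSet_eq hL
  have key : ∀ χ ∈ B.toFinset, ((centSign x m χ * centSign x m h : ℤ) : ℂ) =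
      ((centSign x m χ * centSign x m h : ℤ) : ℂ) * ∑ s ∈ A.reps, secMat 2 M b s χ χ := by
    intro χ hχ
    rw [sum_secMat A.modular A.max A.isReps (Set.mem_toFinset.1 hχ), if_pos rfl, mul_one]
  have h1 : ∑ χ ∈ B.toFinset, ((centSign x m χ * centSign x m h : ℤ) : ℂ) *
      secMat 2 M b 1 χ χ = 0 := by
    rw [Finset.sum_congr rfl fun χ hχ => by
      rw [secMat_one A.modular A.max (Set.mem_toFinset.1 hχ), Int.cast_mul, mul_right_comm],
      ← Finset.sum_mul, A.sum_sign_reg hz, zero_mul]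
  have h2 : ∑ χ ∈ B.toFinset, ((centSign x m χ * centSign x m h : ℤ) : ℂ) *
      secMat 2 M b (invo x m) χ χ = 0 := by
    rw [Finset.sum_congr rfl fun χ hχ => by
      rw [A.secMat_invo_self hz (Set.mem_toFinset.1 hχ), Int.cast_mul, mul_right_comm],
      ← Finset.sum_mul, A.sum_sign_reg hz, zero_mul]
  have h3 : ∀ i ∈ orbitReps m a, ∑ χ ∈ B.toFinset,
      ((centSign x m χ * centSign x m h : ℤ) : ℂ) * secMat 2 M b (rot x i) χ χ =
      if (a : ZMod (2 * m)) * i = i + (m : ZMod (2 * m)) then 1 else 0 := by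
    intro i hi
    obtain ⟨h0, hm⟩ := A.orbitReps_ne hi
    have him0 : i + (m : ZMod (2 * m)) ≠ 0 := fun e =>
      hm (by rw [← A.mc.neg_m]; exact eq_neg_of_add_eq_zero_left e)
    have himm : i + (m : ZMod (2 * m)) ≠ (m : ZMod (2 * m)) := fun e => h0 (by
      linear_combination e)
    rw [Finset.sum_congr rfl fun χ _ => by
      rw [A.secMat_rot_eq hL hi, mul_left_comm, ← mul_assoc
        ((centSign x m χ * centSign x m h : ℤ) : ℂ), ← A.colFun_shift hL hz hh h0 hm],
      ← Finset.mul_sum, A.sum_col_mul hL him0 himm h0 hm, ← mul_assoc,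
      inv_mul_cancel₀ (A.two_m_ne hL), one_mul,
      if_neg (fun e : i = i + (m : ZMod (2 * m)) => A.mc.m_ne_zero (left_eq_add.1 e)), zero_add]
    refine if_congr ⟨fun e => ?_, fun e => ?_⟩ rfl rfl
    · rw [mul_add, A.mc.twist_m] at e
      linear_combination -e - A.mc.cast_two_m
    · rw [mul_add, A.mc.twist_m, e]
      linear_combination -A.mc.cast_two_m
  have h4 : ∀ u ∈ outReps M b x y, ∑ χ ∈ B.toFinset,
      ((centSign x m χ * centSign x m h : ℤ) : ℂ) * secMat 2 M b u χ χ = 1 := by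
    intro u hu
    obtain ⟨hd, hz0⟩ := A.out_support hZ4 hu
    rw [← Finset.sum_subset (s₁ := zeroSet B) (Finset.filter_subset _ _) fun χ _ hχ => by
      rw [hz0 χ hχ, mul_zero],
      Finset.sum_congr rfl (g := fun _ => (1 / 4 : ℂ)) fun χ hχ => ?_, Finset.sum_const, hZ4]
    · norm_num
    · have hne : dl L χ ≠ 0 := by
        rw [hZeq] at hχ
        exact (Finset.mem_filter.1 hχ).2
      rw [A.sign_dl hL hz hh hne, Int.cast_one, one_mul]
      linear_combination (1 / 4 : ℂ) * hd χ hχ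
  have htot : ((∑ χ ∈ B.toFinset, centSign x m χ * centSign x m h : ℤ) : ℂ) =
      ((1 + (outReps M b x y).card : ℤ) : ℂ) := by
    rw [Int.cast_sum, Finset.sum_congr rfl key]
    simp only [A.sum_reps, mul_add, Finset.sum_add_distrib, Finset.mul_sum]
    rw [h1, h2, Finset.sum_comm, Finset.sum_congr rfl h3, Finset.sum_comm, Finset.sum_congr rfl h4,
      Finset.sum_boole, A.card_half hL, Finset.sum_const, nsmul_one]
    push_cast
    ring
  exact_mod_cast htot

theorem pureCol_of {h : IrrCharacter G} (hh : h ∈ zeroSet B)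
    (hw : (∀ i ∈ evenReps m a, wv L i h = 0) ∨ ∀ i ∈ evenReps m a, wv L i h = dl L h)
    (hl : ∀ p ∈ oddReps m a, ∀ q ∈ oddReps m a, ov L p h = ov L q h) : PureCol m L h := by
  obtain ⟨hhB, hh0⟩ := mem_zeroSet.1 hh
  obtain ⟨v, hv⟩ := A.exists_val hhB hh0
  have hd : dl L h = 1 ∨ dl L h = -1 := by
    have h1 := (A.gram hL hv).delta_unit (Set.mem_toFinset.2 hhB)
    have h2 := A.odd_dl hL hhB hh0
    rw [Int.odd_iff] at h2
    omega
  rcases A.colFun_pure hL hw hl with hF | hF
  · exact ⟨0, dl L h, Or.inl rfl, hd, fun i h0 hm => by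
      rw [hF i h0 hm, zero_mul, AddChar.map_zero_eq_one, mul_one]⟩
  · exact ⟨(m : ZMod (2 * m)), -dl L h, Or.inr rfl, by omega, fun i h0 hm => by
      rw [hF i h0 hm]; push_cast; ring⟩

/-- In the regular configuration the two ranks and the outer classes sum to three. -/
theorem rank_of_regular (hz : invo x m ∈ Subgroup.center G)
    (hR : Regular B.toFinset (evenReps m a) (oddReps m a) (dl L) (wv L) (ov L)) :
    blockRank 2 B + (outReps M b x y).card = 3 := by
  obtain ⟨hZeq, hZ4⟩ := A.zeroSet_eq hL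
  obtain ⟨h₀, hh₀⟩ := Finset.card_pos.1 (show 0 < (zeroSet B).card by omega)
  obtain ⟨hB₀, hz₀⟩ := mem_zeroSet.1 hh₀
  obtain ⟨v, hv⟩ := A.exists_val hB₀ hz₀
  have S := A.gram hL hv
  obtain ⟨hpure, E, idx, sg, hEsub, hE0, hEc, hEv, hrest⟩ := hR
  have hh₀' : h₀ ∈ B.toFinset ∧ dl L h₀ ≠ 0 := by
    rw [hZeq] at hh₀
    exact Finset.mem_filter.1 hh₀
  have hP₀ := A.pureCol_of hL hh₀ (hpure h₀ hh₀'.1 hh₀'.2).1 (hpure h₀ hh₀'.1 hh₀'.2).2
  set κ : IrrCharacter G → ℤ := fun χ => centSign x m χ * centSign x m h₀ with hκ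
  set X := B.toFinset \ (zeroSet B ∪ E) with hX
  have hdZE : Disjoint (zeroSet B) E := Finset.disjoint_left.2 fun χ h hE => by
    rw [hZeq] at h
    exact (Finset.mem_filter.1 h).2 (hE0 χ hE)
  have hsub : zeroSet B ∪ E ⊆ B.toFinset := Finset.union_subset (Finset.filter_subset _ _) hEsub
  have hsum := A.sum_sign hL hz hP₀
  rw [← Finset.sum_sdiff hsub, Finset.sum_union hdZE, ← hX] at hsum
  have hsX : ∑ χ ∈ X, κ χ = -(X.card : ℤ) := by
    rw [Finset.sum_congr rfl (g := fun _ => (-1 : ℤ)) fun χ hχ => ?_, Finset.sum_const, nsmul_eq_mul,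
      mul_neg_one]
    obtain ⟨hχT, hn⟩ := Finset.mem_sdiff.1 hχ
    rw [Finset.mem_union, not_or] at hn
    have hd : dl L χ = 0 := by_contra fun h => hn.1 (by
      rw [hZeq]; exact Finset.mem_filter.2 ⟨hχT, h⟩)
    exact A.sign_flat hL hz hh₀ (Set.mem_toFinset.1 hχT) ⟨hd, hrest χ hχT hd hn.2⟩
  have hsZ : ∑ χ ∈ zeroSet B, κ χ = 4 := by
    rw [Finset.sum_congr rfl (g := fun _ => (1 : ℤ)) fun χ hχ => A.sign_dl hL hz hP₀ (by
      rw [hZeq] at hχ; exact (Finset.mem_filter.1 hχ).2), Finset.sum_const, hZ4]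
    rfl
  -- the number of members at an even representative
  have hone : ∀ i ∈ evenReps m a, (E.filter fun χ => idx χ = i).card = 1 := by
    intro i hi
    have hself := S.self i hi
    have hcross := S.cross i hi
    rw [← Finset.sum_sdiff hsub, Finset.sum_union hdZE, ← hX] at hself hcross
    have hXw : ∀ χ ∈ X, wv L i χ = 0 := by
      intro χ hχ
      obtain ⟨hχT, hn⟩ := Finset.mem_sdiff.1 hχ
      rw [Finset.mem_union, not_or] at hn
      exact (hrest χ hχT (by_contra fun h => hn.1 (by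
        rw [hZeq]; exact Finset.mem_filter.2 ⟨hχT, h⟩)) hn.2).1 i hi
    rw [Finset.sum_eq_zero (s := X) (fun χ hχ => by rw [hXw χ hχ, zero_mul]), zero_add] at hself hcross
    rw [Finset.sum_eq_zero (s := E) (fun χ hχ => by rw [hE0 χ hχ, mul_zero]), add_zero] at hcross
    have hZw : ∑ χ ∈ zeroSet B, wv L i χ * wv L i χ = 2 := by
      rw [← hcross]
      refine Finset.sum_congr rfl fun χ hχ => ?_
      rw [hZeq] at hχ
      obtain ⟨hχT, hd⟩ := Finset.mem_filter.1 hχ
      rcases (hpure χ hχT hd).1 with e | e <;> rw [e i hi] <;> simp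
    rw [hZw] at hself
    have hEw : ∑ χ ∈ E, wv L i χ * wv L i χ = ((E.filter fun χ => idx χ = i).card : ℤ) := by
      rw [← Finset.sum_boole]
      refine Finset.sum_congr rfl fun χ hχ => ?_
      obtain ⟨-, hsg, hw, -⟩ := hEv χ hχ
      rw [hw i hi]
      by_cases e : i = idx χ
      · rw [if_pos e, if_pos e.symm]
        rcases hsg with e' | e' <;> rw [e'] <;> rfl
      · rw [if_neg e, if_neg (Ne.symm e), mul_zero]
    omega
  have heven : (E.filter fun χ => idx χ ∈ evenReps m a).card = (evenReps m a).card := by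
    rw [Finset.card_eq_sum_card_fiberwise (f := idx) (t := evenReps m a)
      (fun χ h => Finset.mem_coe.2 (Finset.mem_filter.1 (Finset.mem_coe.1 h)).2),
      Finset.sum_congr rfl (g := fun _ => 1) fun i hi => ?_, Finset.sum_const, smul_eq_mul, mul_one]
    rw [Finset.filter_filter, ← hone i hi]
    congr 1
    exact Finset.filter_congr fun χ _ => ⟨fun h => h.2, fun h => ⟨h ▸ hi, h⟩⟩
  have hsE : ∑ χ ∈ E, κ χ = ((evenReps m a).card : ℤ) -
      (if (oddReps m a).card ≤ 1 then (0 : ℤ) else ((oddReps m a).card : ℤ)) := by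
    rw [← Finset.sum_filter_add_sum_filter_not E fun χ => idx χ ∈ evenReps m a,
      Finset.sum_congr (s₁ := E.filter fun χ => idx χ ∈ evenReps m a) rfl (g := fun _ => (1 : ℤ))
        fun χ hχ => ?_,
      Finset.sum_congr (s₁ := E.filter fun χ => ¬ idx χ ∈ evenReps m a) rfl (g := fun _ => (-1 : ℤ))
        fun χ hχ => ?_, Finset.sum_const,
      Finset.sum_const, heven, nsmul_one, nsmul_eq_mul, mul_neg_one, sub_eq_add_neg]
    · congr 2
      have h1 := Finset.card_filter_add_card_filter_not (s := E) fun χ => idx χ ∈ evenReps m a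
      rw [heven, hEc] at h1
      split_ifs at h1 ⊢ <;> omega
    · obtain ⟨hχE, hn⟩ := Finset.mem_filter.1 hχ
      obtain ⟨hj, hsg, -, hl⟩ := hEv χ hχE
      have hodd := hj.resolve_left hn
      by_cases h2 : 1 < (oddReps m a).card
      · obtain ⟨q, hq, hqne⟩ := Finset.exists_mem_ne h2 (idx χ)
        refine A.sign_ov hL hz hP₀ hodd hq fun e => ?_
        have := hl _ hodd q hq
        rw [e, sub_self, if_pos rfl, if_neg hqne, sub_zero] at this
        omega
      · exfalso
        have h1 := Finset.card_filter_add_card_filter_not (s := E) fun χ => idx χ ∈ evenReps m a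
        rw [heven, hEc, if_pos (not_lt.1 h2)] at h1
        have hmem : χ ∈ E.filter fun χ => ¬ idx χ ∈ evenReps m a := hχ
        have := Finset.card_pos.2 ⟨χ, hmem⟩
        omega
    · obtain ⟨hχE, he⟩ := Finset.mem_filter.1 hχ
      obtain ⟨-, hsg, hw, -⟩ := hEv χ hχE
      refine A.sign_wv hL hz hP₀ he ?_
      rw [hw _ he, if_pos rfl]
      omega
  rw [hsX, hsZ, hsE] at hsum
  have hk := A.card_block
  rw [Nat.card_eq_fintype_card, ← Set.toFinset_card, A.blockRank_invo hz] at hk
  have hcT := Finset.card_sdiff_add_card_eq_card hsub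
  rw [Finset.card_union_of_disjoint hdZE, hZ4, ← hX, hEc, hk] at hcT
  obtain ⟨hJ, hJm⟩ := A.card_evenReps
  split_ifs at hsum hcT <;> omega

/-- The exceptional configuration leaves few members of the sign one. -/
theorem special_central (hz : invo x m ∈ Subgroup.center G)
    (hS : Special B.toFinset (evenReps m a) (oddReps m a) (dl L) (wv L) (ov L)) :
    m = 8 ∧ ∀ c : ℤ, (B.toFinset.filter fun χ => centSign x m χ = c).card ≤ 5 := by
  obtain ⟨hno, ⟨h, hhT, hhd, hw, hl⟩, hsupp, halt⟩ := hS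
  obtain ⟨hZeq, -⟩ := A.zeroSet_eq hL
  have hhZ : h ∈ zeroSet B := hZeq.symm ▸ Finset.mem_filter.2 ⟨hhT, hhd⟩
  have hP := A.pureCol_of hL hhZ hw hl
  rcases halt with ⟨χ, -, hχd, p, hp, q, hq, hne⟩ | ⟨hJ4, S, hST, hS5, hS1, hS2⟩
  · have h1 := A.sign_dl hL hz hP hχd
    have h2 := A.sign_ov hL hz hP hp hq hne
    omega
  obtain ⟨hJ, hJm⟩ := A.card_evenReps
  refine ⟨by omega, ?_⟩
  have hall : (B.toFinset.filter fun χ => dl L χ ≠ 0 ∨ (∃ i ∈ evenReps m a, wv L i χ ≠ 0) ∨
      ∃ p ∈ oddReps m a, ∃ q ∈ oddReps m a, ov L p χ ≠ ov L q χ) = B.toFinset := by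
    refine Finset.filter_true_of_mem fun χ hχ => ?_
    by_contra hn
    simp only [not_or, not_exists, not_and, not_not] at hn
    exact A.not_flat hL hno (Set.mem_toFinset.1 hχ) ⟨hn.1, hn.2.1, hn.2.2⟩
  rw [hall] at hsupp
  have h9 : B.toFinset.card = 9 := by omega
  have hplus : ∀ χ ∈ S, centSign x m χ * centSign x m h = 1 := by
    intro χ hχ
    rcases hS1 χ hχ with e | ⟨i, hi, e⟩
    · exact A.sign_dl hL hz hP e
    · exact A.sign_wv hL hz hP hi e
  have hminus : ∀ χ ∈ B.toFinset, χ ∉ S → centSign x m χ * centSign x m h = -1 := by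
    intro χ hχ hn
    have hm := hall.symm ▸ hχ
    obtain ⟨p, hp, q, hq, e⟩ := hS2 χ hχ hn (Finset.mem_filter.1 hm).2
    exact A.sign_ov hL hz hP hp hq e
  intro c
  by_cases hc : c = centSign x m h
  · refine (Finset.card_le_card fun χ hχ => ?_).trans hS5.le
    obtain ⟨hχT, e⟩ := Finset.mem_filter.1 hχ
    by_contra hn
    have h' := hminus χ hχT hn
    rcases centSign_sq x m h with e' | e' <;> rw [e, hc, e'] at h' <;> norm_num at h'
  · refine (Finset.card_le_card (t := B.toFinset \ S) fun χ hχ => ?_).trans (by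
      rw [Finset.card_sdiff_of_subset hST, h9, hS5]; norm_num)
    obtain ⟨hχT, e⟩ := Finset.mem_filter.1 hχ
    refine Finset.mem_sdiff.2 ⟨hχT, fun hmem => hc ?_⟩
    have h' := hplus χ hmem
    rcases centSign_sq x m h with e' | e' <;> rw [e, e'] at h' <;> omega

end Setting

end Cfsg.Agent.Lib.MaxClassDefect
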