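import Cfsg.Agent.Lib.BrauerPairs.LocalInertial
import Cfsg.Agent.Lib.BrauerPairs.CentricNilpotent
import Cfsg.Agent.Lib.BrauerPairs.Local
import Cfsg.Agent.Lib.NilBlock.Main
import Mathlib

/-!
# The pairs of a local block and the pairs of the group
-/

set_option autoImplicit false
set_option linter.unusedSectionVars false
set_option linter.style.haveILetI false

namespace Cfsg.Agent.Lib.MaxClassDefect

open Cfsg
open Cfsg.Agent.Lib
open Cfsg.Agent.Lib.BrauerPairs
open Cfsg.Agent.Lib.NilBlock (bu bu_fst)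

universe u

variable {G : Type u} [Group G] [Finite G]

/-- A pair of `H` whose centralizer lies in `H`, as a pair of `G`. -/
noncomputable abbrev upPair {H : Subgroup G} (a : BrauerPairIdx H)
    (hC : Subgroup.centralizer ((a.1.map H.subtype : Subgroup G) : Set G) ≤ H) : BrauerPairIdx G :=
  ⟨a.1.map H.subtype,
    Chars.irrCongr (KernelCore.centEquivSub (rfl : a.1.map H.subtype = a.1.map H.subtype) hC) '' a.2⟩

theorem centralizer_up_le {H : Subgroup G} {a c : BrauerPairIdx H} (hle : a.1 ≤ c.1)
    (hC : Subgroup.centralizer ((a.1.map H.subtype : Subgroup G) : Set G) ≤ H) :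
    Subgroup.centralizer ((c.1.map H.subtype : Subgroup G) : Set G) ≤ H :=
  (BrauerMap.centralizer_anti (Subgroup.map_mono hle)).trans hC

variable {M : Ideal AlgInt} [M.IsPrime] {p : ℕ}

theorem subgroupBlockCoeff_up {H : Subgroup G} (a : BrauerPairIdx H)
    (hC : Subgroup.centralizer ((a.1.map H.subtype : Subgroup G) : Set G) ≤ H) (t : H) :
    subgroupBlockCoeff (Subgroup.centralizer ((upPair a hC).1 : Set G)) (upPair a hC).2 (t : G) =
      subgroupBlockCoeff (Subgroup.centralizer (a.1 : Set H)) a.2 t := by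
  show subgroupBlockCoeff (Subgroup.centralizer ((a.1.map H.subtype : Subgroup G) : Set G))
    (Chars.irrCongr (KernelCore.centEquivSub rfl hC) '' a.2) (t : G) = _
  rw [← CentricNilpotent.subgroupBlockCoeff_transport (rfl : a.1.map H.subtype = _) hC]
  congr 1
  rw [Set.image_image]
  refine (Set.image_congr fun ξ _ => Subtype.ext (funext fun c => ?_)).trans (Set.image_id _)
  simp only [BrauerMap.irrCongr_apply, MulEquiv.apply_symm_apply, id]

theorem isPair_up {H : Subgroup G} {a : BrauerPairIdx H} (ha : IsPair p M a)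
    (hC : Subgroup.centralizer ((a.1.map H.subtype : Subgroup G) : Set G) ≤ H) :
    IsPair p M (upPair a hC) :=
  ⟨ha.1.map _, BrauerMap.isPBlock_image_irrCongr _ ha.2⟩

theorem normalSubpairRel_up {H : Subgroup G} {a c : BrauerPairIdx H}
    (h : NormalSubpairRel p M a c)
    (hC : Subgroup.centralizer ((a.1.map H.subtype : Subgroup G) : Set G) ≤ H)
    (hC' : Subgroup.centralizer ((c.1.map H.subtype : Subgroup G) : Set G) ≤ H) :
    NormalSubpairRel p M (upPair a hC) (upPair c hC') := by
  obtain ⟨ha, hc, hle, hN, hst, hω⟩ := h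
  refine ⟨isPair_up ha hC, isPair_up hc hC', Subgroup.map_mono hle, ?_, ?_, ?_⟩
  · rintro _ ⟨r, hr, rfl⟩
    refine map_conj_eq_iff_mem_normalizer.1 ?_
    show (a.1.map H.subtype).map _ = a.1.map H.subtype
    rw [Subgroup.map_map,
      show (MulAut.conj (H.subtype r)).toMonoidHom.comp H.subtype =
        H.subtype.comp (MulAut.conj r).toMonoidHom from MonoidHom.ext fun y => rfl,
      ← Subgroup.map_map, map_conj_eq_iff_mem_normalizer.2 (hN hr)]
  · rintro _ ⟨r, hr, rfl⟩
    obtain ⟨-, hst'⟩ := hst r hr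
    have hnz : (r : G) ∈ Subgroup.normalizer ((upPair a hC).1 : Set G) := by
      refine map_conj_eq_iff_mem_normalizer.1 ?_
      show (a.1.map H.subtype).map _ = a.1.map H.subtype
      rw [Subgroup.map_map,
        show (MulAut.conj (r : G)).toMonoidHom.comp H.subtype =
          H.subtype.comp (MulAut.conj r).toMonoidHom from MonoidHom.ext fun y => rfl,
        ← Subgroup.map_map, map_conj_eq_iff_mem_normalizer.2 (hN hr)]
    refine ⟨BrauerMap.normalizer_le_normalizer_centralizer' _ hnz, ?_⟩
    rintro _ ⟨χ, hχ, rfl⟩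
    obtain ⟨χ', hχ', hcc⟩ := hst' χ hχ
    refine ⟨_, ⟨χ', hχ', rfl⟩, fun k k' hk => ?_⟩
    rw [BrauerMap.irrCongr_apply, BrauerMap.irrCongr_apply]
    exact hcc _ _ (Subtype.ext hk)
  · rintro _ ⟨ξ, hξ, rfl⟩
    refine (show brauerOmega _ (subgroupBlockCoeff
        (Subgroup.centralizer ((upPair a hC).1 : Set G)) (upPair a hC).2) _ =
      brauerOmega c.1 (subgroupBlockCoeff (Subgroup.centralizer (a.1 : Set H)) a.2) ξ.1 from ?_) ▸
        hω ξ hξ
    unfold brauerOmega
    refine finsum_eq_of_bijective _ (KernelCore.centEquivSub rfl hC').bijective fun x => ?_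
    rw [BrauerMap.irrCongr_apply, BrauerMap.irrCongr_apply, map_one]
    have e := subgroupBlockCoeff_up a hC
      ((KernelCore.centEquivSub rfl hC' x : Subgroup.centralizer (c.1 : Set H)) : H)
    rw [← e]
    rfl

theorem pairLE_up {H : Subgroup G} {a c : BrauerPairIdx H} (h : PairLE p M a c)
    (hC : Subgroup.centralizer ((a.1.map H.subtype : Subgroup G) : Set G) ≤ H)
    (hC' : Subgroup.centralizer ((c.1.map H.subtype : Subgroup G) : Set G) ≤ H) :
    PairLE p M (upPair a hC) (upPair c hC') := by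
  induction h with
  | refl => exact Relation.ReflTransGen.refl
  | tail hab hbc ih =>
    exact Relation.ReflTransGen.tail (ih (centralizer_up_le (pairLE_fst_le hab) hC))
      (normalSubpairRel_up hbc (centralizer_up_le (pairLE_fst_le hab) hC) hC')

/-- A normal step inside the centralizer gives a pair of the local block. -/
theorem isBrauerPairOf_pull (hM : IsPModular p M) {Q R : Subgroup G}
    {f : Set (IrrCharacter (Subgroup.centralizer (Q : Set G)))}
    {e : Set (IrrCharacter (Subgroup.centralizer (R : Set G)))}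
    (h : NormalSubpairRel p M ⟨Q, f⟩ ⟨R, e⟩) (hRC : R ≤ Subgroup.centralizer (Q : Set G))
    (hQR : Q ≤ R) :
    IsBrauerPairOf p M f (R.subgroupOf (Subgroup.centralizer (Q : Set G)))
      (LocalInertial.subBlock hRC hQR e) := by
  obtain ⟨hQ, hR, -, -, -, hω⟩ := h
  refine ⟨⟨hR.1.of_equiv (Subgroup.subgroupOfEquivOfLe hRC).symm,
    BrauerMap.isPBlock_image_irrCongr _ hR.2⟩, hQ.2, ?_⟩
  rintro _ ⟨ξ, hξ, rfl⟩
  refine (show brauerOmega R (subgroupBlockCoeff (Subgroup.centralizer (Q : Set G)) f) ξ.1 =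
      brauerOmega (R.subgroupOf (Subgroup.centralizer (Q : Set G))) (blockCoeff f)
        (Chars.irrCongr (LocalInertial.sub hRC hQR).symm ξ).1 from ?_) ▸ hω ξ hξ
  unfold brauerOmega
  refine finsum_eq_of_bijective _ (LocalInertial.sub hRC hQR).bijective fun x => ?_
  rw [BrauerMap.irrCongr_apply, BrauerMap.irrCongr_apply, map_one, MulEquiv.symm_apply_apply]
  have e : subgroupBlockCoeff (Subgroup.centralizer (Q : Set G)) f (x : G) =
      blockCoeff f ((LocalInertial.sub hRC hQR x : _) : Subgroup.centralizer (Q : Set G)) :=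
    BrauerMap.subgroupBlockCoeff_of_mem (Subgroup.centralizer (Q : Set G)) f
      ((LocalInertial.sub hRC hQR x : _) : Subgroup.centralizer (Q : Set G))
  rw [e]

/-- Pushing up a pulled pair gives it back. -/
theorem upPair_pull {Q R : Subgroup G} (e : Set (IrrCharacter (Subgroup.centralizer (R : Set G))))
    (hRC : R ≤ Subgroup.centralizer (Q : Set G)) (hQR : Q ≤ R)
    (hC : Subgroup.centralizer (((R.subgroupOf (Subgroup.centralizer (Q : Set G))).map
      (Subgroup.centralizer (Q : Set G)).subtype : Subgroup G) : Set G) ≤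
        Subgroup.centralizer (Q : Set G)) :
    upPair (⟨R.subgroupOf (Subgroup.centralizer (Q : Set G)),
      LocalInertial.subBlock hRC hQR e⟩ : BrauerPairIdx (Subgroup.centralizer (Q : Set G))) hC =
      ⟨R, e⟩ := by
  have key : ∀ (R' : Subgroup G) (hR' : (R.subgroupOf (Subgroup.centralizer (Q : Set G))).map
      (Subgroup.centralizer (Q : Set G)).subtype = R')
      (hC' : Subgroup.centralizer (R' : Set G) ≤ Subgroup.centralizer (Q : Set G)),
      (KernelCore.pushPair hR' hC' (LocalInertial.subBlock hRC hQR e) : BrauerPairIdx G) =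
        upPair (⟨R.subgroupOf (Subgroup.centralizer (Q : Set G)),
          LocalInertial.subBlock hRC hQR e⟩ : BrauerPairIdx _) hC := by
    rintro R' rfl hC'
    rfl
  rw [← key R (Subgroup.map_subgroupOf_eq_of_le hRC) (BrauerMap.centralizer_anti hQR)]
  refine Sigma.ext rfl (heq_of_eq ?_)
  show Chars.irrCongr _ '' (Chars.irrCongr (LocalInertial.sub hRC hQR).symm '' e) = e
  rw [Set.image_image]
  refine (Set.image_congr fun ξ _ => Subtype.ext (funext fun c => ?_)).trans (Set.image_id _)
  simp only [BrauerMap.irrCongr_apply, id]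
  rfl

variable {b : BrauerPairIdx G}

theorem mem_centralizer_zpowers_self (z : G) :
    z ∈ Subgroup.centralizer (Subgroup.zpowers z : Set G) :=
  NilBlock.zpowers_le_centralizer z (Subgroup.mem_zpowers z)

theorem centralizer_up_zpowers {u : G}
    {w : Subgroup.centralizer (Subgroup.zpowers u : Set G)}
    (huw : u ∈ Subgroup.zpowers (w : G)) {a : BrauerPairIdx _} (ha : w ∈ a.1) :
    Subgroup.centralizer ((a.1.map (Subgroup.centralizer (Subgroup.zpowers u : Set G)).subtype :
        Subgroup G) : Set G) ≤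
      Subgroup.centralizer (Subgroup.zpowers u : Set G) :=
  BrauerMap.centralizer_anti ((Subgroup.zpowers_le.2 huw).trans (Subgroup.zpowers_le.2
    (Subgroup.mem_map_of_mem _ ha)))

/-- The pairs below the pulled pair are pulled from the pairs below `b`. -/
theorem bu_up (hM : IsPModular p M) (hb : IsPair p M b) {u : G}
    {b' : BrauerPairIdx (Subgroup.centralizer (Subgroup.zpowers u : Set G))}
    (hb' : IsPair p M b')
    (hC : Subgroup.centralizer ((b'.1.map (Subgroup.centralizer (Subgroup.zpowers u : Set G)).subtype :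
        Subgroup G) : Set G) ≤ Subgroup.centralizer (Subgroup.zpowers u : Set G))
    (hle : PairLE p M (upPair b' hC) b)
    {w : Subgroup.centralizer (Subgroup.zpowers u : Set G)} (hw : w ∈ b'.1)
    (huw : u ∈ Subgroup.zpowers (w : G)) :
    upPair (bu p M b' w) (centralizer_up_zpowers huw (a := bu p M b' w)
      (by rw [bu_fst]; exact Subgroup.mem_zpowers w)) = bu p M b (w : G) := by
  refine NilBlock.eq_bu hM hb (pairLE_fst_le hle ⟨w, hw, rfl⟩)
    ((pairLE_up (NilBlock.bu_le hM hb' hw) _ hC).trans hle) ?_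
  show (bu p M b' w).1.map _ = _
  rw [bu_fst, MonoidHom.map_zpowers]

/-- The local block at an element with a maximal pair under `b`. -/
theorem exists_local [Fintype G] {B : Set (IrrCharacter G)} (hM : IsPModular p M)
    (hmax : IsMaximalBrauerPair p M B b.1 b.2) {u : G} (hu : u ∈ b.1)
    (hcard : ∀ x : G, x * u * x⁻¹ ∈ b.1 → conjPair x (bu p M b u) = bu p M b (x * u * x⁻¹) →
      Nat.card ↥(b.1 ⊓ Subgroup.centralizer ({x * u * x⁻¹} : Set G)) ≤
        Nat.card ↥(b.1 ⊓ Subgroup.centralizer ({u} : Set G))) :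
    ∃ (f : Set (IrrCharacter (Subgroup.centralizer (Subgroup.zpowers u : Set G))))
      (b' : BrauerPairIdx (Subgroup.centralizer (Subgroup.zpowers u : Set G))),
      bu p M b u = ⟨Subgroup.zpowers u, f⟩ ∧
      IsBrauerPairOf p M B (Subgroup.zpowers u) f ∧
      b'.1 = (b.1 ⊓ Subgroup.centralizer ({u} : Set G)).subgroupOf _ ∧
      IsMaximalBrauerPair p M f b'.1 b'.2 ∧
      blockRank p f = blockRank p (bu p M b u).2 ∧
      ∃ hC, PairLE p M (upPair b' hC) b := by
  haveI := Fact.mk hM.1
  haveI := Fintype.ofFinite (Subgroup.centralizer (Subgroup.zpowers u : Set G))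
  have hle := NilBlock.bu_le hM hmax.1.1 hu
  have haB := NilBlock.isBrauerPairOf_bu hM hmax hu
  obtain ⟨Q, f, hQf⟩ : ∃ Q f, bu p M b u = ⟨Q, f⟩ := ⟨_, _, rfl⟩
  have hQ : Q = Subgroup.zpowers u := (congrArg Sigma.fst hQf).symm.trans (bu_fst u)
  subst hQ
  rw [hQf] at hle haB
  have hCeq : Subgroup.centralizer (Subgroup.zpowers u : Set G) =
      Subgroup.centralizer ({u} : Set G) := centralizer_zpowers u
  let R := b.1 ⊓ Subgroup.centralizer (Subgroup.zpowers u : Set G)
  have hRu : R = b.1 ⊓ Subgroup.centralizer ({u} : Set G) := by simp only [R, hCeq]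
  have hQR : Subgroup.zpowers u ≤ R :=
    le_inf (Subgroup.zpowers_le.2 hu) (NilBlock.zpowers_le_centralizer u)
  obtain ⟨e, he, heb⟩ := exists_normal_between hM hmax.1.1 hle (R := R) hQR inf_le_left
    (inf_le_right.trans (Subgroup.centralizer_le_normalizer _))
  have hRC : R ≤ Subgroup.centralizer (Subgroup.zpowers u : Set G) := inf_le_right
  have hpull := isBrauerPairOf_pull hM he hRC hQR
  have hdef : IsDefectGroup p M f (R.subgroupOf (Subgroup.centralizer (Subgroup.zpowers u : Set G))) := by
    refine (isDefectGroup_inf_centralizer_iff hM hmax (a := ⟨Subgroup.zpowers u, f⟩) hle).2 ?_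
    intro x hx
    have hfst : (conjPair x (⟨Subgroup.zpowers u, f⟩ : BrauerPairIdx G)).1 =
        Subgroup.zpowers (x * u * x⁻¹) := by
      rw [conjPair_fst, MonoidHom.map_zpowers]
      rfl
    rw [hfst, centralizer_zpowers, centralizer_zpowers]
    have hmem : x * u * x⁻¹ ∈ b.1 := pairLE_fst_le hx (hfst ▸ Subgroup.mem_zpowers _)
    exact hcard x hmem (hQf.symm ▸ NilBlock.eq_bu hM hmax.1.1 hmem hx hfst)
  refine ⟨f, ⟨R.subgroupOf (Subgroup.centralizer (Subgroup.zpowers u : Set G)), LocalInertial.subBlock hRC hQR e⟩, hQf, haB, by rw [← hRu], ?_, ?_, ?_⟩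
  · exact KernelCore.isMaximal_of_defectGroup hM (a := ⟨_, _⟩) hpull hdef
  · rw [hQf]
  · refine ⟨BrauerMap.centralizer_anti (hQR.trans
      (Subgroup.map_subgroupOf_eq_of_le hRC).ge), ?_⟩
    rw [upPair_pull]
    exact heb

end Cfsg.Agent.Lib.MaxClassDefect
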