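import Cfsg.Agent.Lib.NilBlock.Coef
import Mathlib

/-!
# Sums over the subsections of a block, through representatives of its fusion classes
-/

set_option autoImplicit false
set_option linter.unusedSectionVars false
set_option linter.style.haveILetI false

namespace Cfsg.Agent.Lib.MaxClassDefect

open Cfsg
open Cfsg.Agent.Lib
open Cfsg.Agent.Lib.BrauerPairs
open Cfsg.Agent.Lib.NilBlock (bu bu_fst con coef pElems mem_pElems)
open scoped ComplexConjugate

universe u

attribute [local instance] Classical.propDecidable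

variable {G : Type u} [Group G] [Fintype G] {p : ℕ} {M : Ideal AlgInt} [Fact p.Prime] [M.IsPrime]
  {B : Set (IrrCharacter G)} {b : BrauerPairIdx G}

/-- Two elements of the maximal pair fused by the block. -/
def Fused (p : ℕ) (M : Ideal AlgInt) (b : BrauerPairIdx G) (u v : G) : Prop :=
  ∃ g : G, g * u * g⁻¹ = v ∧ conjPair g (bu p M b u) = bu p M b v

/-- The subsection matrix of an element of the maximal pair. -/
noncomputable def secMat (p : ℕ) (M : Ideal AlgInt) (b : BrauerPairIdx G) (u : G)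
    (χ ψ : IrrCharacter G) : ℂ :=
  con p u (bu p M b u) χ ψ

/-- Representatives of the fusion classes. -/
structure IsReps (p : ℕ) (M : Ideal AlgInt) (b : BrauerPairIdx G) (S : Finset G) : Prop where
  mem : ∀ s ∈ S, s ∈ b.1
  cover : ∀ u ∈ b.1, ∃ s ∈ S, Fused p M b s u
  irred : ∀ s ∈ S, ∀ t ∈ S, Fused p M b s t → s = t

variable (hM : IsPModular p M) (hmax : IsMaximalBrauerPair p M B b.1 b.2)
include hM hmax

theorem isPBlock_bu {u : G} (hu : u ∈ b.1) : IsPBlock M (bu p M b u).2 :=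
  (NilBlock.isBrauerPairOf_bu hM hmax hu).1.2

theorem fused_refl {u : G} (hu : u ∈ b.1) : Fused p M b u u :=
  ⟨1, by group, conjPair_one (isPBlock_bu hM hmax hu)⟩

theorem Fused.symm {u v : G} (hu : u ∈ b.1) (h : Fused p M b u v) : Fused p M b v u := by
  obtain ⟨g, h1, h2⟩ := h
  exact ⟨g⁻¹, by rw [← h1]; group, by rw [← h2, conjPair_inv_cancel (isPBlock_bu hM hmax hu)]⟩

theorem Fused.trans {u v w : G} (hu : u ∈ b.1) (h : Fused p M b u v) (h' : Fused p M b v w) :
    Fused p M b u w := by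
  obtain ⟨g, h1, h2⟩ := h
  obtain ⟨g', h1', h2'⟩ := h'
  exact ⟨g' * g, by rw [← h1', ← h1]; group,
    by rw [← conjPair_mul (isPBlock_bu hM hmax hu), h2, h2']⟩

theorem fused_of_mem {u x : G} (hu : u ∈ b.1) (hx : x ∈ b.1) :
    Fused p M b u (x * u * x⁻¹) :=
  ⟨x, rfl, NilBlock.conjPair_bu hM hmax hu hx⟩

theorem secMat_eq_of_fused {u v : G} (h : Fused p M b u v) (χ ψ : IrrCharacter G) :
    secMat p M b v χ ψ = secMat p M b u χ ψ := by
  obtain ⟨g, h1, h2⟩ := h
  rw [secMat, secMat, ← h1, ← NilBlock.con_conj u g (bu p M b u) χ ψ]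
  rw [← h1] at h2
  rw [h2]

theorem secMat_one {χ : IrrCharacter G} (hχ : χ ∈ B) (ψ : IrrCharacter G) :
    secMat p M b 1 χ ψ = BrauerFeit.regCoef p χ ψ := by
  have h := NilBlock.wt_one hM hmax hχ ψ
  rw [NilBlock.wt, show Nat.card (b.1 ⊓ Subgroup.centralizer ({(1 : G)} : Set G) : Subgroup G) =
    Nat.card b.1 by
      rw [inf_eq_left.2 fun g _ => Subgroup.mem_centralizer_singleton_iff.2 (by simp)]] at h
  exact mul_left_cancel₀ Chars.natCard_ne_zero h

theorem secMat_eq_zero {u : G} (hu : u ∈ b.1) {χ : IrrCharacter G} (hχ : χ ∉ B)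
    (ψ : IrrCharacter G) : secMat p M b u χ ψ = 0 := by
  rw [secMat, con, Contrib.contrib, Finset.sum_eq_zero]
  intro ξ hξ
  rw [NilBlock.secCoef_eq_zero hM (NilBlock.exists_orderOf_eq hM hmax hu) (bu_fst u)
    (NilBlock.isBrauerPairOf_bu hM hmax hu) hχ (Set.mem_toFinset.1 hξ), zero_mul]

omit hM hmax in
theorem conj_secMat (u : G) (χ ψ : IrrCharacter G) :
    conj (secMat p M b u χ ψ) = secMat p M b u ψ χ := by
  simp only [secMat, con, Contrib.contrib_conj]

theorem secMat_idem {u : G} (hu : u ∈ b.1) (χ ψ : IrrCharacter G) :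
    ∑ φ ∈ B.toFinset, secMat p M b u χ φ * secMat p M b u φ ψ = secMat p M b u χ ψ :=
  Contrib.sum_contrib_mul hM (NilBlock.exists_orderOf_eq hM hmax hu) (NilBlock.centralizer_bu u)
    (NilBlock.isInducedBlock_bu hM hmax hu) χ ψ

theorem sum_secMat_self {u : G} (hu : u ∈ b.1) :
    ∑ χ ∈ B.toFinset, secMat p M b u χ χ = (blockRank p (bu p M b u).2 : ℂ) :=
  Contrib.sum_contrib_self hM (NilBlock.exists_orderOf_eq hM hmax hu) (NilBlock.centralizer_bu u)
    (NilBlock.isInducedBlock_bu hM hmax hu)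

theorem secMat_orth {u v : G} (hu : u ∈ b.1) (hv : v ∈ b.1) (hne : ¬ Fused p M b u v)
    (χ ψ : IrrCharacter G) :
    ∑ φ ∈ B.toFinset, secMat p M b u χ φ * secMat p M b v φ ψ = 0 := by
  by_cases hg : IsConj v u
  · obtain ⟨g, hg⟩ := isConj_iff.1 hg
    have hg' : g⁻¹ * u * (g⁻¹)⁻¹ = v := by rw [← hg]; group
    set a := conjPair g⁻¹ (bu p M b u) with ha
    have haB : IsBrauerPairOf p M B a.1 a.2 :=
      isBrauerPairOf_conj (NilBlock.isBrauerPairOf_bu hM hmax hu) _
    have ha1 : a.1 = Subgroup.zpowers v := by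
      rw [ha, conjPair_fst, bu_fst, MonoidHom.map_zpowers, ← hg']
      rfl
    simp only [secMat]
    rw [Finset.sum_congr rfl fun φ _ => by
      rw [← NilBlock.con_conj u g⁻¹ (bu p M b u) χ φ, hg']]
    exact NilBlock.sum_con_mul_con_of_ne hM (NilBlock.exists_orderOf_eq hM hmax hv) ha1 (bu_fst v)
      (fun h => hne ⟨g⁻¹, hg', h⟩) haB (isPBlock_bu hM hmax hv) χ ψ
  · exact NilBlock.sum_con_mul_con_of_not_isConj hM (NilBlock.exists_orderOf_eq hM hmax hu)
      (NilBlock.exists_orderOf_eq hM hmax hv) hg (bu_fst u) (bu_fst v)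
      (NilBlock.isBrauerPairOf_bu hM hmax hu) χ ψ

variable {S : Finset G} (hS : IsReps p M b S)
include hS

/-- The Brauer elements of the block, counted through representatives. -/
theorem sum_elements (K : G → BrauerPairIdx G → ℂ)
    (hK : ∀ (x v : G) (a : BrauerPairIdx G), a.1 = Subgroup.zpowers v → IsPBlock M a.2 →
      K (x * v * x⁻¹) (conjPair x a) = K v a)
    (hK0 : ∀ v ∈ pElems p G, ∀ a ∈ Star.pairsOn M (Subgroup.zpowers v),
      ¬ IsBrauerPairOf p M B a.1 a.2 → K v a = 0) :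
    ∑ v ∈ pElems p G,
        (Nat.card (Subgroup.centralizer (Subgroup.zpowers v : Set G)) : ℂ) *
          ∑ a ∈ Star.pairsOn M (Subgroup.zpowers v), K v a =
      (Nat.card G : ℂ) * ∑ s ∈ S, K s (bu p M b s) := by
  set T : Finset (Σ _ : G, BrauerPairIdx G) :=
    ((pElems p G).sigma fun v => Star.pairsOn M (Subgroup.zpowers v)).filter
      fun x => IsBrauerPairOf p M B x.2.1 x.2.2 with hT
  set Φ : G × S → (Σ _ : G, BrauerPairIdx G) := fun q =>
    ⟨q.1 * (q.2 : G) * q.1⁻¹, conjPair q.1 (bu p M b q.2)⟩ with hΦ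
  have hmaps : ∀ q : G × S, Φ q ∈ T := by
    intro q
    have hq := hS.mem _ q.2.2
    obtain ⟨k, hk⟩ := NilBlock.exists_orderOf_eq hM hmax hq
    refine Finset.mem_filter.2 ⟨Finset.mem_sigma.2 ⟨mem_pElems.2 ⟨k, ?_⟩,
      Star.mem_pairsOn.2 ⟨?_, isPBlock_conjPair (isPBlock_bu hM hmax hq) _⟩⟩,
      isBrauerPairOf_conj (NilBlock.isBrauerPairOf_bu hM hmax hq) _⟩
    · show orderOf ((MulAut.conj q.1) (q.2 : G)) = _
      rw [MulEquiv.orderOf_eq, hk]
    · show (bu p M b q.2).1.map (MulAut.conj q.1).toMonoidHom = _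
      rw [bu_fst, MonoidHom.map_zpowers]
      rfl
  have hfib : ∀ x ∈ T, ∑ q ∈ Finset.univ.filter (fun q : G × S => Φ q = x),
      K q.2 (bu p M b q.2) =
      (Nat.card (Subgroup.centralizer (Subgroup.zpowers x.1 : Set G)) : ℂ) * K x.1 x.2 := by
    rintro ⟨v, a⟩ hx
    simp only [hT, Finset.mem_filter, Finset.mem_sigma, Star.mem_pairsOn] at hx
    obtain ⟨g₀, u₀, hu₀, rfl, rfl⟩ := NilBlock.exists_conj_bu hM hmax hx.1.2.1 hx.2
    obtain ⟨s₀, hs₀, g₁, hg₁, hb₁⟩ := hS.cover u₀ hu₀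
    have hs₀' := hS.mem _ hs₀
    have hbs := isPBlock_bu hM hmax hs₀'
    set h₀ := g₀ * g₁ with hh₀
    set v := g₀ * u₀ * g₀⁻¹ with hv
    have hv0 : h₀ * s₀ * h₀⁻¹ = v := by rw [hv, ← hg₁, hh₀]; group
    have ha0 : conjPair h₀ (bu p M b s₀) = conjPair g₀ (bu p M b u₀) := by
      rw [hh₀, ← conjPair_mul hbs, hb₁]
    set D := Subgroup.centralizer (Subgroup.zpowers v : Set G) with hD
    have hmemD : ∀ {c : G}, c ∈ D ↔ c * v = v * c := fun {c} => by
      rw [hD, centralizer_zpowers, Subgroup.mem_centralizer_singleton_iff]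
    have hiff : ∀ q : G × S, Φ q = ⟨v, conjPair g₀ (bu p M b u₀)⟩ ↔
        (q.2 : G) = s₀ ∧ q.1 * h₀⁻¹ ∈ D := by
      intro q
      simp only [hΦ, Sigma.mk.injEq, heq_eq_eq]
      constructor
      · rintro ⟨h1, h2⟩
        have hsame : (q.2 : G) = s₀ := by
          refine (hS.irred s₀ hs₀ _ q.2.2 ⟨q.1⁻¹ * h₀, ?_, ?_⟩).symm
          · calc q.1⁻¹ * h₀ * s₀ * (q.1⁻¹ * h₀)⁻¹ = q.1⁻¹ * (h₀ * s₀ * h₀⁻¹) * q.1 := by group
              _ = q.1⁻¹ * (q.1 * (q.2 : G) * q.1⁻¹) * q.1 := by rw [hv0, h1]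
              _ = (q.2 : G) := by group
          · rw [← conjPair_mul hbs, ha0, ← h2,
              conjPair_inv_cancel (isPBlock_bu hM hmax (hS.mem _ q.2.2))]
        refine ⟨hsame, hmemD.2 ?_⟩
        rw [hsame] at h1
        calc q.1 * h₀⁻¹ * v = q.1 * s₀ * q.1⁻¹ * (q.1 * h₀⁻¹) := by rw [← hv0]; group
          _ = _ := by rw [h1]
      · rintro ⟨h1, h2⟩
        rw [h1]
        refine ⟨?_, ?_⟩
        · calc q.1 * s₀ * q.1⁻¹ = (q.1 * h₀⁻¹) * (h₀ * s₀ * h₀⁻¹) * (q.1 * h₀⁻¹)⁻¹ := by group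
            _ = v := by rw [hv0, hmemD.1 h2, mul_inv_cancel_right]
        · have hst : conjPair (q.1 * h₀⁻¹) (conjPair g₀ (bu p M b u₀)) =
              conjPair g₀ (bu p M b u₀) :=
            core_le_pairStab (isPBlock_conjPair (isPBlock_bu hM hmax hu₀) g₀)
              (Subgroup.mem_sup_right (by rw [hx.1.2.1]; exact h2))
          rw [← hst, ← ha0, conjPair_mul hbs, inv_mul_cancel_right]
    rw [Finset.filter_congr fun q _ => hiff q]
    rw [Finset.sum_congr rfl (g := fun _ => K v (conjPair g₀ (bu p M b u₀))) fun q hq => by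
      rw [(Finset.mem_filter.1 hq).2.1, ← ha0, ← hv0, hK h₀ s₀ _ (bu_fst _) hbs],
      Finset.sum_const, nsmul_eq_mul]
    congr 2
    rw [Nat.card_eq_fintype_card, ← Finset.card_univ]
    refine Finset.card_bij' (fun q hq => (⟨q.1 * h₀⁻¹, (Finset.mem_filter.1 hq).2.2⟩ : D))
      (fun c _ => ((c : G) * h₀, (⟨s₀, hs₀⟩ : S))) (fun _ _ => Finset.mem_univ _) ?_ ?_ ?_
    · intro c _
      exact Finset.mem_filter.2 ⟨Finset.mem_univ _, rfl, by simp⟩
    · intro q hq
      exact Prod.ext (inv_mul_cancel_right _ _) (Subtype.ext (Finset.mem_filter.1 hq).2.1.symm)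
    · intro c _
      exact Subtype.ext (mul_inv_cancel_right (c : G) h₀)
  have hsum := Finset.sum_fiberwise_of_maps_to (s := (Finset.univ : Finset (G × S))) (t := T)
    (g := Φ) (fun q _ => hmaps q) fun q => K q.2 (bu p M b q.2)
  rw [Finset.sum_congr rfl hfib, Fintype.sum_prod_type] at hsum
  simp only [Finset.sum_const, Finset.card_univ, nsmul_eq_mul, Fintype.card_eq_nat_card,
    ← Finset.mul_sum, Finset.sum_coe_sort S (fun s => K s (bu p M b s))] at hsum
  rw [← hsum, hT, Finset.sum_filter_of_ne, Finset.sum_sigma]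
  · exact Finset.sum_congr rfl fun v _ => by rw [Finset.mul_sum]
  · intro x hx hne
    by_contra hno
    obtain ⟨h1, h2⟩ := Finset.mem_sigma.1 hx
    exact hne (by rw [hK0 _ h1 _ h2 hno, mul_zero])

/-- The subsections add up to the identity. -/
theorem sum_secMat {χ : IrrCharacter G} (hχ : χ ∈ B) (ψ : IrrCharacter G) :
    ∑ s ∈ S, secMat p M b s χ ψ = if χ = ψ then 1 else 0 := by
  have h := sum_elements hM hmax hS (fun v a => con p v a χ ψ)
    (fun x v a _ _ => NilBlock.con_conj v x a χ ψ) fun v hv a ha hno => by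
      obtain ⟨ha1, ha2⟩ := Star.mem_pairsOn.1 ha
      exact NilBlock.con_eq_zero hM (mem_pElems.1 hv) ha1 ha2 hmax.1.2.1 hno hχ ψ
  have h' : ∑ v ∈ pElems p G, (Nat.card (Subgroup.centralizer (Subgroup.zpowers v : Set G)) : ℂ) *
      ∑ a ∈ Star.pairsOn M (Subgroup.zpowers v), con p v a χ ψ =
      (Nat.card G : ℂ) * if χ = ψ then 1 else 0 := by
    rw [← Chars.classInner_irr, NilBlock.inner_eq_sum_sections hM hmax]
    refine Finset.sum_congr rfl fun v _ => ?_
    rw [NilBlock.sum_con_pairsOn, ← mul_assoc, mul_inv_cancel₀ Chars.natCard_ne_zero, one_mul]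
  rw [h'] at h
  exact (mul_left_cancel₀ Chars.natCard_ne_zero h).symm

/-- The number of members is the sum of the ranks. -/
theorem card_eq_sum_rank : Nat.card B = ∑ s ∈ S, blockRank p (bu p M b s).2 := by
  have h : (Nat.card B : ℂ) = ∑ s ∈ S, (blockRank p (bu p M b s).2 : ℂ) := by
    rw [Finset.sum_congr rfl fun s hs => (sum_secMat_self hM hmax (hS.mem s hs)).symm,
      Finset.sum_comm, Finset.sum_congr rfl (g := fun _ => (1 : ℂ)) fun χ hχ => by
        rw [sum_secMat hM hmax hS (Set.mem_toFinset.1 hχ), if_pos rfl],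
      Finset.sum_const, nsmul_one, Set.toFinset_card, Nat.card_eq_fintype_card]
  exact_mod_cast h

omit hS in
theorem coef_eq_of_stable {θ : b.1 → ℂ}
    (hθ : ∀ u v : b.1, Fused p M b (u : G) (v : G) → θ u = θ v) {v g : G} {a : BrauerPairIdx G}
    (w : b.1) (hg : g * (w : G) * g⁻¹ = v) (ha : conjPair g (bu p M b w) = a) :
    coef p M b θ v a = θ w := by
  have h : ∃ g : G, ∃ w : b.1, g * (w : G) * g⁻¹ = v ∧ conjPair g (bu p M b w) = a :=
    ⟨g, w, hg, ha⟩
  rw [coef, dif_pos h]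
  obtain ⟨hg', ha'⟩ := h.choose_spec.choose_spec
  generalize h.choose = g', h.choose_spec.choose = w' at hg' ha' ⊢
  refine hθ w' w ⟨g⁻¹ * g', ?_, ?_⟩
  · calc g⁻¹ * g' * (w' : G) * (g⁻¹ * g')⁻¹ = g⁻¹ * (g' * (w' : G) * g'⁻¹) * g := by group
      _ = g⁻¹ * (g * (w : G) * g⁻¹) * g := by rw [hg', hg]
      _ = (w : G) := by group
  · rw [← conjPair_mul (isPBlock_bu hM hmax w'.2), ha', ← ha,
      conjPair_inv_cancel (isPBlock_bu hM hmax w.2)]

omit hS in
theorem coef_self_stable {θ : b.1 → ℂ}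
    (hθ : ∀ u v : b.1, Fused p M b (u : G) (v : G) → θ u = θ v) (w : b.1) :
    coef p M b θ w (bu p M b w) = θ w :=
  coef_eq_of_stable hM hmax hθ (g := 1) w (by group) (conjPair_one (isPBlock_bu hM hmax w.2))

omit hS in
theorem coef_conj_stable {θ : b.1 → ℂ}
    (hθ : ∀ u v : b.1, Fused p M b (u : G) (v : G) → θ u = θ v) (x v : G) {a : BrauerPairIdx G}
    (ha : IsPBlock M a.2) :
    coef p M b θ (x * v * x⁻¹) (conjPair x a) = coef p M b θ v a := by
  by_cases h : ∃ g : G, ∃ w : b.1, g * (w : G) * g⁻¹ = v ∧ conjPair g (bu p M b w) = a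
  · obtain ⟨g, w, hg, hga⟩ := h
    rw [coef_eq_of_stable hM hmax hθ w hg hga,
      coef_eq_of_stable hM hmax hθ (g := x * g) w (by rw [← hg]; group) (by
        rw [← conjPair_mul (isPBlock_bu hM hmax w.2), hga])]
  · rw [coef, coef, dif_neg h, dif_neg]
    rintro ⟨g, w, hg, hga⟩
    refine h ⟨x⁻¹ * g, w, ?_, ?_⟩
    · calc x⁻¹ * g * (w : G) * (x⁻¹ * g)⁻¹ = x⁻¹ * (g * (w : G) * g⁻¹) * x := by group
        _ = v := by rw [hg]; group
    · rw [← conjPair_mul (isPBlock_bu hM hmax w.2), hga, conjPair_inv_cancel ha]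

omit hS in
theorem isGeneralizedCharacter_starFun_stable {θ : b.1 → ℂ} (hθc : IsCharacter b.1 θ)
    (hθ : ∀ u v : b.1, Fused p M b (u : G) (v : G) → θ u = θ v) {χ : G → ℂ}
    (hχ : IsCharacter G χ) :
    IsGeneralizedCharacter G (Star.starFun M p (coef p M b θ) χ) := by
  refine Star.isGeneralizedCharacter_starFun hM (fun v a => ?_)
    (fun x u a _ ha => coef_conj_stable hM hmax hθ x u ha)
    (fun σ k hk hkK v a _ _ => ?_) (fun d hd => ?_) hχ
  · rw [coef]
    split_ifs
    · exact Chars.isCharacter_isIntegral hθc _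
    · exact isIntegral_zero
  · have hord : ∀ z : G, (orderOf z).Coprime k := fun z =>
      (Nat.Coprime.coprime_dvd_right (orderOf_dvd_natCard z) hk).symm
    have hconj : ∀ (g z : G) (n : ℕ), (g * z * g⁻¹) ^ n = g * z ^ n * g⁻¹ := fun g z n => conj_pow
    by_cases h : ∃ g : G, ∃ w : b.1, g * (w : G) * g⁻¹ = v ∧ conjPair g (bu p M b w) = a
    · obtain ⟨g, w, hg, hga⟩ := h
      rw [coef_eq_of_stable hM hmax hθ w hg hga,
        coef_eq_of_stable hM hmax hθ (g := g) (w ^ k) (by rw [← hg, hconj]; rfl) (by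
          rw [SubmonoidClass.coe_pow, NilBlock.bu_pow hM hmax.1.1 w.2 (hord _), hga])]
      exact hkK b.1 θ hθc w
    · rw [coef, coef, dif_neg h, dif_neg]
      · exact Star.maps_zero
      rintro ⟨g, w, hg, hga⟩
      obtain ⟨n, hn⟩ := exists_pow_eq_self_of_coprime (hord v).symm
      refine h ⟨g, w ^ n, by rw [SubmonoidClass.coe_pow, ← hconj, hg, hn], ?_⟩
      rw [SubmonoidClass.coe_pow, NilBlock.bu_pow hM hmax.1.1 w.2 ?_, hga]
      have hwv : orderOf (w : G) = orderOf v := by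
        rw [← ((hord v).orderOf_pow), ← hg]
        exact ((MulAut.conj g).orderOf_eq (w : G)).symm
      have h1 : orderOf (v ^ (k * n)) = orderOf v := by rw [pow_mul, hn]
      rw [hwv]
      rcases Nat.eq_zero_or_pos (k * n) with h0 | h0
      · rw [h0, pow_zero, orderOf_one] at h1
        rw [← h1]
        exact Nat.coprime_one_left _
      · rw [orderOf_pow' _ h0.ne'] at h1
        exact Nat.Coprime.coprime_dvd_right (dvd_mul_left n k)
          ((Nat.div_eq_self.1 h1).resolve_left (orderOf_pos v).ne')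
  · by_cases hdB : IsBrauerPairOf p M B d.1 d.2
    · obtain ⟨x, hx⟩ := exists_conj_pairLE_max (a := b) (b := d) hM hmax hdB
      have hmap : ∀ u ∈ d.1, x * u * x⁻¹ ∈ b.1 := fun u hu =>
        pairLE_fst_le hx (Subgroup.mem_map_of_mem (MulAut.conj x).toMonoidHom hu)
      let φ : d.1 →* b.1 :=
        { toFun := fun u => ⟨x * u * x⁻¹, hmap u u.2⟩
          map_one' := Subtype.ext (by simp)
          map_mul' := fun u v => Subtype.ext (by simp [mul_assoc]) }
      refine ⟨fun u => θ (φ u), Star.spn_comp φ (Star.spn_mono (Star.intRing_le_localRing M)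
        (Star.spn_of_isCharacter hθc)), fun u a ha hle => ?_⟩
      rw [← coef_conj_stable hM hmax hθ x u (IsPair.of_pairLE hd hle).2]
      have hfst : (conjPair x a).1 = Subgroup.zpowers (x * (u : G) * x⁻¹) := by
        rw [conjPair_fst, ha, MonoidHom.map_zpowers]
        rfl
      rw [NilBlock.eq_bu hM hmax.1.1 (hmap u u.2) ((pairLE_conj hle x).trans hx) hfst]
      exact (coef_self_stable hM hmax hθ (φ u)).symm
    · refine ⟨fun _ => 0, Star.spn_zero, fun u a _ hle => ?_⟩
      symm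
      by_contra hne
      exact hdB ((BrauerMap.isBrauerPairOf_iff_of_subpairLE hM hle hd hmax.1.2.1).2
        (NilBlock.isBrauerPairOf_of_coef_ne_zero hM hmax hne))

/-- A stable character weights the subsections to an integer matrix. -/
theorem exists_int_sum_secMat {θ : G → ℂ}
    (hθc : IsCharacter b.1 fun u : b.1 => θ u)
    (hθ : ∀ u ∈ b.1, ∀ v ∈ b.1, Fused p M b u v → θ u = θ v) {χ : IrrCharacter G} (hχ : χ ∈ B)
    (ψ : IrrCharacter G) : ∃ n : ℤ, ∑ s ∈ S, θ s * secMat p M b s χ ψ = n := by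
  set θ' : b.1 → ℂ := fun u => θ u
  have hθ' : ∀ u v : b.1, Fused p M b (u : G) (v : G) → θ' u = θ' v := fun u v h =>
    hθ u u.2 v v.2 h
  obtain ⟨n, hn⟩ := Chars.isGeneralizedCharacter_classInner_int
    (isGeneralizedCharacter_starFun_stable hM hmax hθc hθ' (Chars.irr_isCharacter χ))
    (Chars.isGeneralizedCharacter_of_isCharacter (Chars.irr_isCharacter ψ))
  refine ⟨n, ?_⟩
  rw [← hn]
  have h := sum_elements hM hmax hS (fun v a => coef p M b θ' v a * con p v a χ ψ)
    (fun x v a _ ha => by rw [coef_conj_stable hM hmax hθ' x v ha, NilBlock.con_conj])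
    fun v hv a ha hno => by
      obtain ⟨ha1, ha2⟩ := Star.mem_pairsOn.1 ha
      rw [NilBlock.con_eq_zero hM (mem_pElems.1 hv) ha1 ha2 hmax.1.2.1 hno hχ ψ, mul_zero]
  have h' : ∑ v ∈ pElems p G, (Nat.card (Subgroup.centralizer (Subgroup.zpowers v : Set G)) : ℂ) *
      ∑ a ∈ Star.pairsOn M (Subgroup.zpowers v), coef p M b θ' v a * con p v a χ ψ =
      (Nat.card G : ℂ) * classInner (Star.starFun M p (coef p M b θ') (χ : G → ℂ)) (ψ : G → ℂ) := by
    rw [NilBlock.inner_eq_sum_sections hM hmax]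
    refine Finset.sum_congr rfl fun v hv => ?_
    have hstar : ∀ c : Subgroup.centralizer (Subgroup.zpowers v : Set G), ¬ p ∣ orderOf c →
        Star.starFun M p (coef p M b θ') (χ : G → ℂ) (v * (c : G)) =
          ∑ a ∈ Star.pairsOn M (Subgroup.zpowers v),
            coef p M b θ' v a * Star.part a (χ : G → ℂ) (v * (c : G)) := fun c hc =>
      Star.starFun_apply (Blocks.Sections.isPPart_mul p (mem_pElems.1 hv)
        (Subgroup.mem_centralizer_iff.1 c.2 v (Subgroup.mem_zpowers v))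
        (by rwa [Subgroup.orderOf_coe]))
    rw [Finset.mul_sum]
    calc _ = ∑ a ∈ Star.pairsOn M (Subgroup.zpowers v), coef p M b θ' v a *
          ∑ c : Subgroup.centralizer (Subgroup.zpowers v : Set G),
            if p ∣ orderOf c then 0 else Star.part a (χ : G → ℂ) (v * (c : G)) *
              conj ((ψ : G → ℂ) (v * (c : G))) := by
          refine Finset.sum_congr rfl fun a ha => ?_
          obtain ⟨Q, f⟩ := a
          obtain ⟨rfl, ha2⟩ := Star.mem_pairsOn.1 ha
          rw [NilBlock.sum_part_mul_conj hM (a := ⟨Subgroup.zpowers v, f⟩) rfl ha2]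
          ring
      _ = _ := by
          simp only [Finset.mul_sum]
          rw [Finset.sum_comm]
          refine Finset.sum_congr rfl fun c _ => ?_
          by_cases hc : p ∣ orderOf c
          · simp [hc]
          · simp only [if_neg hc, hstar c hc, Finset.sum_mul, mul_assoc]
  rw [h'] at h
  rw [mul_left_cancel₀ Chars.natCard_ne_zero h]
  refine Finset.sum_congr rfl fun s hs => ?_
  rw [secMat, coef_self_stable hM hmax hθ' ⟨s, hS.mem s hs⟩]

end Cfsg.Agent.Lib.MaxClassDefect
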