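import Cfsg.Agent.Lib.MaxClassDefect.Group
import Cfsg.Agent.Lib.MaxClassDefect.Fus
import Cfsg.Agent.Lib.MaxClassDefect.Descent
import Cfsg.Agent.Lib.BrauerPairs.Saturation
import Cfsg.Agent.Lib.DihedralDefect.Group
import Mathlib

/-!
# The fusion classes of a block with quaternion or semidihedral defect group
-/

set_option autoImplicit false
set_option linter.unusedSectionVars false
set_option linter.style.haveILetI false

namespace Cfsg.Agent.Lib.MaxClassDefect

open Cfsg
open Cfsg.Agent.Lib
open Cfsg.Agent.Lib.BrauerPairs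
open Cfsg.Agent.Lib.NilBlock (bu bu_fst)
open Subgroup (zpowers mem_zpowers)

universe u

attribute [local instance] Classical.propDecidable

variable {G : Type u} [Group G] [Fintype G] {M : Ideal AlgInt} [M.IsPrime]
  {B : Set (IrrCharacter G)} {b : BrauerPairIdx G} {x y : G} {m a : ℕ}

/-- Elements of the same order in a cyclic subgroup generate the same subgroup. -/
theorem eq_of_card_eq_in_cyclic {u v w : G} (hu : u ∈ zpowers w) (hv : v ∈ zpowers w)
    (h : orderOf u = orderOf v) : zpowers u = zpowers v :=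
  DihedralDefect.zpowers_eq_of_orderOf hu hv h

omit [M.IsPrime] in
/-- An element of odd order normalising a cyclic `2`-group centralises it. -/
theorem mem_centralizer_of_odd_of_cyclic {Q : Subgroup G} (hQ : IsPGroup 2 Q) [IsCyclic Q] {g : G}
    (hg : g ∈ Subgroup.normalizer (Q : Set G)) (hodd : ¬ 2 ∣ orderOf g) :
    g ∈ Subgroup.centralizer (Q : Set G) := by
  haveI := Fact.mk Nat.prime_two
  set φ := Subgroup.normalizerMonoidHom Q with hφ
  have h1 : orderOf (φ ⟨g, hg⟩) ∣ orderOf g := by
    rw [← Subgroup.orderOf_mk g hg]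
    exact orderOf_map_dvd φ _
  have h2 : IsPGroup 2 (MulAut Q) := by
    obtain ⟨k, hk⟩ := IsPGroup.iff_card.1 hQ
    rcases k with _ | k
    · exact IsPGroup.of_card (n := 0) (by rw [IsCyclic.card_mulAut, hk]; simp)
    · exact IsPGroup.of_card (n := k) (by
        rw [IsCyclic.card_mulAut, hk, Nat.totient_prime_pow_succ Nat.prime_two]; simp)
  obtain ⟨k, hk⟩ := IsPGroup.iff_orderOf.1 h2 (φ ⟨g, hg⟩)
  have h3 : φ ⟨g, hg⟩ = 1 := by
    rw [← orderOf_eq_one_iff]
    rcases k with _ | k
    · exact hk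
    · exact absurd (dvd_trans (by rw [hk]; exact dvd_pow_self 2 (by omega)) h1) hodd
  refine Subgroup.mem_centralizer_iff.2 fun q hq => ?_
  have h := congrArg (fun f : MulAut Q => ((f ⟨q, hq⟩ : Q) : G)) h3
  have h' : g * q * g⁻¹ = q := h
  exact (mul_inv_eq_iff_eq_mul.1 h').symm

/-- A block is nilpotent when odd elements cannot act below its maximal pair. -/
theorem isNilpotentBlock_of_odd (hM : IsPModular 2 M) (hmax : IsMaximalBrauerPair 2 M B b.1 b.2)
    (h : ∀ Q : Subgroup G, Q ≤ b.1 → ∀ g : G, g ∈ Subgroup.normalizer (Q : Set G) →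
      ¬ 2 ∣ orderOf g → g ∈ Subgroup.centralizer (Q : Set G)) :
    IsNilpotentBlock 2 M B := by
  refine ⟨hmax.1.2.1, fun Q e he g hgN _ hreg => ?_⟩
  obtain ⟨c, hc⟩ := exists_conj_pairLE_max (a := b) (b := ⟨Q, e⟩) hM hmax he
  have hle : Q.map (MulAut.conj c).toMonoidHom ≤ b.1 := pairLE_fst_le hc
  have hN : c * g * c⁻¹ ∈ Subgroup.normalizer
      ((Q.map (MulAut.conj c).toMonoidHom : Subgroup G) : Set G) := by
    refine map_conj_eq_iff_mem_normalizer.1 ?_
    rw [map_conj_mul, inv_mul_cancel_right, ← map_conj_mul,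
      map_conj_eq_iff_mem_normalizer.2 hgN]
  have hodd : ¬ 2 ∣ orderOf (c * g * c⁻¹) := by
    rw [show orderOf (c * g * c⁻¹) = orderOf g from (MulAut.conj c).orderOf_eq g]
    exact hreg
  have h1 := h _ hle _ hN hodd
  refine Subgroup.mem_centralizer_iff.2 fun q hq => ?_
  have h2 := Subgroup.mem_centralizer_iff.1 h1 _ ⟨q, hq, rfl⟩
  simp only [MulEquiv.coe_toMonoidHom, MulAut.conj_apply] at h2
  rw [show c * q * c⁻¹ * (c * g * c⁻¹) = c * (q * g) * c⁻¹ by group,
    show c * g * c⁻¹ * (c * q * c⁻¹) = c * (g * q) * c⁻¹ by group] at h2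
  exact mul_left_cancel (mul_right_cancel h2)

theorem isNilpotentBlock_of_cyclic (hM : IsPModular 2 M)
    (hmax : IsMaximalBrauerPair 2 M B b.1 b.2) [IsCyclic b.1] : IsNilpotentBlock 2 M B :=
  isNilpotentBlock_of_odd hM hmax fun Q hQ g hg hodd => by
    haveI : IsCyclic Q :=
      isCyclic_of_injective (Subgroup.inclusion hQ) (Subgroup.inclusion_injective hQ)
    exact mem_centralizer_of_odd_of_cyclic (hmax.1.1.1.to_le hQ) hg hodd

/-- The coordinates of the Prelude and of this file. -/
structure Setting (M : Ideal AlgInt) (B : Set (IrrCharacter G)) (b : BrauerPairIdx G) (x y : G)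
    (m a : ℕ) : Prop where
  modular : IsPModular 2 M
  max : IsMaximalBrauerPair 2 M B b.1 b.2
  mc : MC b.1 x y m a

/-- The central involution. -/
def invo (x : G) (m : ℕ) : G := rot x (m : ZMod (2 * m))

/-- Representatives of the non-trivial orbits of the twist. -/
noncomputable def orbitReps (m a : ℕ) : Finset (ZMod (2 * m)) :=
  if h : NeZero (2 * m) then
    (Finset.univ : Finset (ZMod (2 * m))).filter
      fun i : ZMod (2 * m) => i.val < ((a : ZMod (2 * m)) * i).val
  else ∅

/-- An element fused to one in the cyclic subgroup. -/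
def ToRot (M : Ideal AlgInt) (b : BrauerPairIdx G) (x u : G) : Prop :=
  ∃ v ∈ zpowers x, Fused 2 M b v u

/-- Representatives of the fusion classes without a member in the cyclic subgroup. -/
noncomputable def outReps (M : Ideal AlgInt) (b : BrauerPairIdx G) (x y : G) : Finset G :=
  (if ToRot M b x y then ∅ else {y}) ∪
    (if ToRot M b x (x * y) ∨ Fused 2 M b y (x * y) then ∅ else {x * y})

namespace Setting

variable (A : Setting M B b x y m a)
include A

theorem invo_mem : invo x m ∈ b.1 := A.mc.rot_mem _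

theorem invo_ne_one : invo x m ≠ 1 := fun h =>
  A.mc.m_ne_zero (A.mc.rot_injective (h.trans A.mc.rot_zero.symm))

theorem orderOf_invo : orderOf (invo x m) = 2 := by
  refine orderOf_eq_prime ?_ A.invo_ne_one
  rw [invo, sq, ← A.mc.rot_add, ← two_mul, A.mc.cast_two_m, A.mc.rot_zero]

theorem mem_orbitReps {i : ZMod (2 * m)} :
    i ∈ orbitReps m a ↔ i.val < ((a : ZMod (2 * m)) * i).val := by
  haveI := A.mc.neZero
  simp [orbitReps, dif_pos A.mc.neZero]

theorem orbitReps_ne {i : ZMod (2 * m)} (h : i ∈ orbitReps m a) :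
    i ≠ 0 ∧ i ≠ (m : ZMod (2 * m)) := by
  have h' := A.mem_orbitReps.1 h
  constructor <;> rintro rfl <;> simp [A.mc.twist_m] at h'

theorem orbit_cases {i : ZMod (2 * m)} (h0 : i ≠ 0) (hm : i ≠ (m : ZMod (2 * m))) :
    i ∈ orbitReps m a ∨ (a : ZMod (2 * m)) * i ∈ orbitReps m a := by
  haveI := A.mc.neZero
  rw [A.mem_orbitReps, A.mem_orbitReps, A.mc.twist_twist]
  rcases lt_trichotomy i.val ((a : ZMod (2 * m)) * i).val with h | h | h
  · exact Or.inl h
  · exact absurd (A.mc.fixed_iff.1 (ZMod.val_injective _ h.symm)) (by rintro (e | e) <;> contradiction)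
  · exact Or.inr h

theorem twist_notMem {i : ZMod (2 * m)} (h : i ∈ orbitReps m a) :
    (a : ZMod (2 * m)) * i ∉ orbitReps m a := fun h' => by
  rw [A.mem_orbitReps] at h h'
  rw [A.mc.twist_twist] at h'
  omega

theorem twist_ne {i : ZMod (2 * m)} (h : i ∈ orbitReps m a) : (a : ZMod (2 * m)) * i ≠ i :=
  fun e => A.twist_notMem h (e.symm ▸ h)

/-- A symmetric sum over the residues. -/
theorem sum_orbits {β : Type*} [AddCommMonoid β] [Fintype (ZMod (2 * m))] (g : ZMod (2 * m) → β) :
    ∑ i : ZMod (2 * m), g i =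
      g 0 + g (m : ZMod (2 * m)) + ∑ i ∈ orbitReps m a, (g i + g ((a : ZMod (2 * m)) * i)) := by
  set J := orbitReps m a
  have hinj : Set.InjOn (fun i : ZMod (2 * m) => (a : ZMod (2 * m)) * i) J :=
    fun i _ j _ h => by simpa [A.mc.twist_twist] using congrArg ((a : ZMod (2 * m)) * ·) h
  have hU : (Finset.univ : Finset (ZMod (2 * m))) =
      insert 0 (insert (m : ZMod (2 * m)) (J ∪ J.image ((a : ZMod (2 * m)) * ·))) := by
    refine (Finset.eq_univ_of_forall fun i => ?_).symm
    simp only [Finset.mem_insert, Finset.mem_union, Finset.mem_image]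
    by_cases h0 : i = 0
    · exact Or.inl h0
    by_cases hm : i = (m : ZMod (2 * m))
    · exact Or.inr (Or.inl hm)
    exact Or.inr (Or.inr ((A.orbit_cases h0 hm).imp_right fun h => ⟨_, h, A.mc.twist_twist i⟩))
  have hdisj : Disjoint J (J.image ((a : ZMod (2 * m)) * ·)) := by
    rw [Finset.disjoint_left]
    intro i hi hi'
    obtain ⟨j, hj, rfl⟩ := Finset.mem_image.1 hi'
    exact A.twist_notMem hj hi
  have hne : ∀ i ∈ J ∪ J.image ((a : ZMod (2 * m)) * ·), i ≠ 0 ∧ i ≠ (m : ZMod (2 * m)) := by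
    intro i hi
    rcases Finset.mem_union.1 hi with hi | hi
    · exact A.orbitReps_ne hi
    · obtain ⟨j, hj, rfl⟩ := Finset.mem_image.1 hi
      obtain ⟨h1, h2⟩ := A.orbitReps_ne hj
      exact ⟨fun h => h1 (by rw [← A.mc.twist_twist j]; rw [h, mul_zero]),
        fun h => h2 (by rw [← A.mc.twist_twist j]; rw [h, A.mc.twist_m])⟩
  rw [hU, Finset.sum_insert, Finset.sum_insert (fun h => (hne _ h).2 rfl),
    Finset.sum_union hdisj, Finset.sum_image hinj, ← Finset.sum_add_distrib, add_assoc]
  simp only [Finset.mem_insert, not_or]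
  exact ⟨fun h => A.mc.m_ne_zero h.symm, fun h => (hne _ h).1 rfl⟩

theorem card_orbitReps : (orbitReps m a).card + 1 = m := by
  haveI := A.mc.neZero
  have h := A.sum_orbits (β := ℕ) (fun _ => 1)
  simp only [Finset.sum_const, Finset.card_univ, ZMod.card, smul_eq_mul, mul_one] at h
  omega

/-- Rotations fused by the block are conjugate in the defect group. -/
theorem fused_rot {i j : ZMod (2 * m)} (h0 : i ≠ 0) (hm : i ≠ (m : ZMod (2 * m)))
    (h : Fused 2 M b (rot x i) (rot x j)) : j = i ∨ j = (a : ZMod (2 * m)) * i := by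
  haveI := Fact.mk Nat.prime_two
  have hM := A.modular
  have hF := isBlockFusionSystemOn_blockSystem hM A.max
  set w := rot x i with hw
  have hwP : w ∈ b.1 := A.mc.rot_mem i
  obtain ⟨g, hg, hgb⟩ := h
  have hord : orderOf (rot x j) = orderOf w := hg ▸ (MulAut.conj g).orderOf_eq w
  have hz : zpowers (rot x j) = zpowers w := by
    haveI : IsCyclic (zpowers x) := inferInstance
    obtain ⟨j', hj'⟩ := A.mc.rot_mem_zpowers j
    exact eq_of_card_eq_in_cyclic (A.mc.rot_mem_zpowers j) (A.mc.rot_mem_zpowers i) hord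
  have hbu : bu 2 M b (rot x j) = bu 2 M b w :=
    NilBlock.eq_bu hM A.max.1.1 hwP (NilBlock.bu_le hM A.max.1.1 (A.mc.rot_mem j))
      ((bu_fst _).trans hz)
  rw [hbu] at hgb
  have hle := NilBlock.bu_le hM A.max.1.1 hwP
  have hblk : IsPBlock M (bu 2 M b w).2 := isPBlock_bu hM A.max hwP
  have hnorm : b.1 ≤ Subgroup.normalizer ((bu 2 M b w).1 : Set G) := by
    intro u hu
    refine map_conj_eq_iff_mem_normalizer.1 ?_
    rw [bu_fst, MonoidHom.map_zpowers]
    rcases A.mc.cases_mem hu with ⟨k, rfl⟩ | ⟨k, rfl⟩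
    · congr 1
      exact mul_inv_eq_iff_eq_mul.2 (A.mc.comm_rot k i)
    · show zpowers ((rot x k * y) * rot x i * (rot x k * y)⁻¹) = _
      rw [A.mc.out_conj_rot]
      exact eq_of_card_eq_in_cyclic (A.mc.rot_mem_zpowers _) (A.mc.rot_mem_zpowers _)
        (by rw [← A.mc.out_conj_rot k i]; exact (MulAut.conj _).orderOf_eq _)
  have hfn : (blockSystem hM A.max.1.1).IsFullyNormalized (bu 2 M b w).1 := by
    refine (isFullyNormalized_iff_pair hM hF hle).2 fun g' _ => ?_
    rw [inf_eq_left.2 hnorm]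
    exact Subgroup.card_le_of_le inf_le_left
  obtain ⟨-, hauto⟩ := centralized_automized_of_normalized hM hF hle hfn
  obtain ⟨-, hsyl⟩ := Fusion.isFullyAutomized_iff.1 hauto
  rw [autGroup_eq hM hF hle hblk] at hsyl
  have h2 : IsPGroup 2 (MulAut (bu 2 M b w).1) := by
    haveI : IsCyclic (bu 2 M b w).1 := by
      rw [Subgroup.isCyclic_iff_exists_zpowers_eq_top]
      exact ⟨w, (bu_fst w).symm⟩
    obtain ⟨k, hk⟩ := IsPGroup.iff_card.1 ((A.max.1.1.1).to_le (pairLE_fst_le hle))
    rcases k with _ | k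
    · exact IsPGroup.of_card (n := 0) (by rw [IsCyclic.card_mulAut, hk]; simp)
    · exact IsPGroup.of_card (n := k) (by
        rw [IsCyclic.card_mulAut, hk, Nat.totient_prime_pow_succ Nat.prime_two]; simp)
  have heq : autInducedBy b.1 (bu 2 M b w).1 = autInducedBy (pairStab hblk) (bu 2 M b w).1 := by
    refine le_antisymm hsyl.1 ?_
    rw [← Subgroup.relIndex_eq_one]
    set S' := autInducedBy (pairStab hblk) (bu 2 M b w).1
    have hd : (autInducedBy b.1 (bu 2 M b w).1).relIndex S' ∣ Nat.card S' := Subgroup.index_dvd_card _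
    obtain ⟨k, hk⟩ := IsPGroup.iff_card.1 (h2.to_subgroup S')
    rw [hk] at hd
    obtain ⟨l, -, hl⟩ := (Nat.dvd_prime_pow Nat.prime_two).1 hd
    rcases l with _ | l
    · rw [hl, pow_zero]
    · exact absurd (hl ▸ dvd_pow_self 2 (by omega)) hsyl.2.2
  have hgst : g ∈ pairStab hblk := hgb
  have hgN : g ∈ Subgroup.normalizer ((bu 2 M b w).1 : Set G) := ((mem_pairStab_iff hblk).1 hgst).1
  have hα : Subgroup.normalizerMonoidHom (bu 2 M b w).1 ⟨g, hgN⟩ ∈
      autInducedBy (pairStab hblk) (bu 2 M b w).1 :=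
    Fusion.mem_autInducedBy.2 ⟨g, hgst, fun _ => rfl⟩
  rw [← heq] at hα
  obtain ⟨u, hu, hval⟩ := Fusion.mem_autInducedBy.1 hα
  have h1 : rot x j = u * w * u⁻¹ := by
    rw [← hg]
    exact hval ⟨w, (bu_fst (p := 2) (M := M) (b := b) w).symm ▸ mem_zpowers w⟩
  rcases A.mc.cases_mem hu with ⟨k, rfl⟩ | ⟨k, rfl⟩
  · left
    rw [hw, A.mc.comm_rot, mul_inv_cancel_right] at h1
    exact A.mc.rot_injective h1
  · right
    rw [hw, A.mc.out_conj_rot] at h1
    exact A.mc.rot_injective h1

theorem orderOf_rot_eq_one_or {i : ZMod (2 * m)} (h : orderOf (rot x i) ∣ 2) :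
    i = 0 ∨ i = (m : ZMod (2 * m)) := by
  rw [← A.mc.two_mul_eq_zero]
  refine A.mc.rot_injective ?_
  rw [two_mul i, A.mc.rot_add, A.mc.rot_zero, ← sq, ← orderOf_dvd_iff_pow_eq_one]
  exact h

theorem fused_symm {u v : G} (hu : u ∈ b.1) (h : Fused 2 M b u v) : Fused 2 M b v u := by
  haveI := Fact.mk Nat.prime_two
  exact Fused.symm A.modular A.max hu h

theorem fused_trans {u v w : G} (hu : u ∈ b.1) (h : Fused 2 M b u v) (h' : Fused 2 M b v w) :
    Fused 2 M b u w := by
  haveI := Fact.mk Nat.prime_two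
  exact Fused.trans A.modular A.max hu h h'

theorem fused_inP {u g : G} (hu : u ∈ b.1) (hg : g ∈ b.1) : Fused 2 M b u (g * u * g⁻¹) := by
  haveI := Fact.mk Nat.prime_two
  exact fused_of_mem A.modular A.max hu hg

theorem xy_mem : x * y ∈ b.1 := mul_mem A.mc.x_mem A.mc.y_mem

theorem outReps_cases {u : G} (hu : u ∈ outReps M b x y) :
    (u = y ∨ u = x * y) ∧ ¬ ToRot M b x u ∧ ∃ i : ZMod (2 * m), rot x i * y = u := by
  rw [outReps, Finset.mem_union] at hu
  rcases hu with h | h
  · split_ifs at h with hc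
    · simp at h
    · obtain rfl := Finset.mem_singleton.1 h
      exact ⟨Or.inl rfl, hc, 0, by rw [A.mc.rot_zero, one_mul]⟩
  · split_ifs at h with hc
    · simp at h
    · obtain rfl := Finset.mem_singleton.1 h
      refine ⟨Or.inr rfl, fun e => hc (Or.inl e), 1, ?_⟩
      rw [show rot x (1 : ZMod (2 * m)) = x by rw [← Nat.cast_one, A.mc.rot_natCast, pow_one]]

theorem outReps_mem {u : G} (hu : u ∈ outReps M b x y) : u ∈ b.1 := by
  obtain ⟨-, -, i, rfl⟩ := A.outReps_cases hu
  exact A.mc.out_mem i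

/-- The representatives. -/
noncomputable def reps (_A : Setting M B b x y m a) : Finset G :=
  insert 1 (insert (invo x m) ((orbitReps m a).image (rot x) ∪ outReps M b x y))

theorem isReps : IsReps 2 M b A.reps := by
  haveI := Fact.mk Nat.prime_two
  have hrot : ∀ i, Fused 2 M b (rot x i) (rot x ((a : ZMod (2 * m)) * i)) := fun i => by
    have h := A.fused_inP (A.mc.rot_mem i) A.mc.y_mem
    rwa [A.mc.conj_rot] at h
  have hcases : ∀ {u}, u ∈ A.reps → u = 1 ∨ u = invo x m ∨
      (∃ i ∈ orbitReps m a, rot x i = u) ∨ u ∈ outReps M b x y := by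
    intro u hu
    simpa [reps] using hu
  have hmem : ∀ u ∈ A.reps, u ∈ b.1 := by
    intro u hu
    rcases hcases hu with rfl | rfl | ⟨i, -, rfl⟩ | h
    exacts [one_mem _, A.invo_mem, A.mc.rot_mem i, A.outReps_mem h]
  have hrotCover : ∀ v ∈ zpowers x, ∃ s ∈ A.reps, Fused 2 M b s v := by
    intro v hv
    obtain ⟨i, rfl⟩ := A.mc.exists_rot hv
    by_cases h0 : i = 0
    · refine ⟨1, by simp [reps], ?_⟩
      rw [h0, A.mc.rot_zero]
      exact fused_refl A.modular A.max (one_mem _)
    by_cases hm : i = (m : ZMod (2 * m))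
    · exact ⟨invo x m, by simp [reps], hm ▸ fused_refl A.modular A.max A.invo_mem⟩
    rcases A.orbit_cases h0 hm with h | h
    · exact ⟨rot x i, by simp [reps]; exact Or.inr (Or.inr (Or.inl ⟨i, h, rfl⟩)),
        fused_refl A.modular A.max (A.mc.rot_mem i)⟩
    · refine ⟨rot x ((a : ZMod (2 * m)) * i), ?_, ?_⟩
      · simp [reps]; exact Or.inr (Or.inr (Or.inl ⟨_, h, rfl⟩))
      · exact A.fused_symm (A.mc.rot_mem i) (hrot i)
  have houtRot : ∀ u, ToRot M b x u → ∃ s ∈ A.reps, Fused 2 M b s u := by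
    rintro u ⟨v, hv, hvu⟩
    obtain ⟨s, hs, hsv⟩ := hrotCover v hv
    exact ⟨s, hs, A.fused_trans (hmem s hs) hsv hvu⟩
  have hy : ∃ s ∈ A.reps, Fused 2 M b s y := by
    by_cases hc : ToRot M b x y
    · exact houtRot y hc
    · exact ⟨y, by simp [reps, outReps, hc], fused_refl A.modular A.max A.mc.y_mem⟩
  have hxy : ∃ s ∈ A.reps, Fused 2 M b s (x * y) := by
    by_cases hc : ToRot M b x (x * y)
    · exact houtRot _ hc
    by_cases hf : Fused 2 M b y (x * y)
    · obtain ⟨s, hs, h⟩ := hy
      exact ⟨s, hs, A.fused_trans (hmem s hs) h hf⟩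
    · exact ⟨x * y, by simp [reps, outReps, hc, hf], fused_refl A.modular A.max A.xy_mem⟩
  refine ⟨hmem, fun u hu => ?_, fun s hs t ht hst => ?_⟩
  · rcases A.mc.decomp u hu with h | h
    · exact hrotCover u h
    · obtain ⟨i, rfl⟩ : ∃ i : ZMod (2 * m), rot x i * y = u := by
        obtain ⟨i, hi⟩ := A.mc.exists_rot h
        exact ⟨i, by rw [hi, inv_mul_cancel_right]⟩
      rcases A.mc.out_two_classes i with ⟨g, hg, e⟩ | ⟨g, hg, e⟩
      · obtain ⟨s, hs, h⟩ := hy
        exact ⟨s, hs, A.fused_trans (hmem s hs) h (e ▸ A.fused_inP A.mc.y_mem hg)⟩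
      · obtain ⟨s, hs, h⟩ := hxy
        exact ⟨s, hs, A.fused_trans (hmem s hs) h (e ▸ A.fused_inP A.xy_mem hg)⟩
  · have hord : orderOf s = orderOf t := by
      obtain ⟨g, hg, -⟩ := hst
      exact hg ▸ ((MulAut.conj g).orderOf_eq s).symm
    have hrotOut : ∀ {v u}, v ∈ zpowers x → Fused 2 M b v u → u ∈ outReps M b x y → False :=
      fun {v u} hv h hu => (A.outReps_cases hu).2.1 ⟨v, hv, h⟩
    have hz : invo x m ∈ zpowers x := A.mc.rot_mem_zpowers _
    have hlow : ∀ {i}, i ∈ orbitReps m a → ¬ orderOf (rot x i) ∣ 2 := fun {i} hi h =>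
      (A.orderOf_rot_eq_one_or h).elim (A.orbitReps_ne hi).1 (A.orbitReps_ne hi).2
    have h2 : orderOf (invo x m) = 2 := A.orderOf_invo
    rcases hcases hs with rfl | rfl | ⟨i, hi, rfl⟩ | hso <;>
      rcases hcases ht with rfl | rfl | ⟨j, hj, rfl⟩ | hto
    · rfl
    · rw [orderOf_one, h2] at hord; omega
    · exact absurd (hord ▸ (by simp)) (hlow hj)
    · exact (hrotOut (one_mem _) hst hto).elim
    · rw [orderOf_one, h2] at hord; omega
    · rfl
    · exact absurd (hord ▸ h2.dvd) (hlow hj)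
    · exact (hrotOut hz hst hto).elim
    · exact absurd (hord.symm ▸ (by simp)) (hlow hi)
    · exact absurd (hord.symm ▸ h2.dvd) (hlow hi)
    · rcases A.fused_rot (A.orbitReps_ne hi).1 (A.orbitReps_ne hi).2 hst with rfl | rfl
      · rfl
      · exact absurd hj (A.twist_notMem hi)
    · exact (hrotOut (A.mc.rot_mem_zpowers i) hst hto).elim
    · exact (hrotOut (one_mem _) (A.fused_symm (A.outReps_mem hso) hst) hso).elim
    · exact (hrotOut hz (A.fused_symm (A.outReps_mem hso) hst) hso).elim
    · exact (hrotOut (A.mc.rot_mem_zpowers j) (A.fused_symm (A.outReps_mem hso) hst) hso).elim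
    · have key : ¬ Fused 2 M b y (x * y) ∨ x * y ∉ outReps M b x y := by
        by_cases hf : Fused 2 M b y (x * y)
        · right
          intro h
          rw [outReps, if_pos (Or.inr hf), Finset.union_empty] at h
          split_ifs at h
          · simp at h
          · have h' := Finset.mem_singleton.1 h
            have ho := A.mc.orderx
            rw [mul_eq_right.1 h', orderOf_one] at ho
            have := A.mc.two_le
            omega
        · exact Or.inl hf
      rcases (A.outReps_cases hso).1 with rfl | rfl <;>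
        rcases (A.outReps_cases hto).1 with rfl | rfl
      · rfl
      · exact (key.elim (fun h => h hst) (fun h => h hto)).elim
      · exact (key.elim (fun h => h (A.fused_symm A.xy_mem hst)) (fun h => h hso)).elim
      · rfl

/-- A sum over the representatives. -/
theorem sum_reps (f : G → ℂ) :
    ∑ s ∈ A.reps, f s =
      f 1 + f (invo x m) + ∑ i ∈ orbitReps m a, f (rot x i) + ∑ u ∈ outReps M b x y, f u := by
  have hne : ∀ u ∈ outReps M b x y, u ∉ zpowers x := fun u hu => by
    obtain ⟨-, -, i, rfl⟩ := A.outReps_cases hu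
    exact A.mc.out_notMem i
  have hd : Disjoint ((orbitReps m a).image (rot x)) (outReps M b x y) := by
    rw [Finset.disjoint_left]
    intro u hu hu'
    obtain ⟨i, -, rfl⟩ := Finset.mem_image.1 hu
    exact hne _ hu' (A.mc.rot_mem_zpowers i)
  rw [reps, Finset.sum_insert, Finset.sum_insert, Finset.sum_union hd,
    Finset.sum_image fun i _ j _ h => A.mc.rot_injective h]
  · ring
  · intro h
    rcases Finset.mem_union.1 h with h | h
    · obtain ⟨i, hi, e⟩ := Finset.mem_image.1 h
      exact (A.orbitReps_ne hi).2 (A.mc.rot_injective e)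
    · exact hne _ h (A.mc.rot_mem_zpowers _)
  · intro h
    rcases Finset.mem_insert.1 h with h | h
    · exact A.invo_ne_one h.symm
    rcases Finset.mem_union.1 h with h | h
    · obtain ⟨i, hi, e⟩ := Finset.mem_image.1 h
      exact (A.orbitReps_ne hi).1 (A.mc.rot_injective (e.trans A.mc.rot_zero.symm))
    · exact hne _ h (one_mem _)

theorem card_outReps : (outReps M b x y).card ≤ 2 := by
  rw [outReps]
  refine (Finset.card_union_le _ _).trans ?_
  split_ifs <;> simp

/-- The local rank at a non-central rotation is one. -/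
theorem blockRank_rot {i : ZMod (2 * m)} (h0 : i ≠ 0) (hm : i ≠ (m : ZMod (2 * m))) :
    blockRank 2 (bu 2 M b (rot x i)).2 = 1 := by
  haveI := Fact.mk Nat.prime_two
  have hR : Nat.card (zpowers x) = 2 * m := (Nat.card_zpowers x).trans A.mc.orderx
  obtain ⟨f, b', -, -, hb', hmax', hrk, -⟩ := exists_local A.modular A.max (A.mc.rot_mem i)
    (fun g hg _ => by
      rw [A.mc.centralizer_rot h0 hm, hR]
      rcases A.mc.cases_mem hg with ⟨j, hj⟩ | ⟨j, hj⟩
      · rw [← hj, A.mc.centralizer_rot, hR]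
        · rintro rfl
          rw [A.mc.rot_zero] at hj
          exact h0 (A.mc.rot_injective ((conj_eq_one_iff.1 hj.symm).trans A.mc.rot_zero.symm))
        · rintro rfl
          have ho : orderOf (rot x i) = orderOf (invo x m) :=
            ((MulAut.conj g).orderOf_eq _).symm.trans (congrArg orderOf hj.symm)
          exact (A.orderOf_rot_eq_one_or (ho ▸ A.orderOf_invo.dvd)).elim h0 hm
      · rw [← hj, A.mc.card_centralizer_out]
        have := A.mc.two_le
        omega)
  haveI : IsCyclic b'.1 := by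
    rw [hb', A.mc.centralizer_rot h0 hm]
    exact isCyclic_of_injective (Subgroup.subgroupOfEquivOfLe
      ((A.mc.centralizer_rot h0 hm).ge.trans
        (inf_le_right.trans (centralizer_zpowers _).ge))).toMonoidHom
      (MulEquiv.injective _)
  haveI := Fintype.ofFinite (Subgroup.centralizer (zpowers (rot x i) : Set G))
  rw [← hrk]
  exact NilBlock.blockRank_eq_one A.modular (isNilpotentBlock_of_cyclic A.modular hmax')

/-- The local rank at an outer class without a rotation is one. -/
theorem blockRank_out {u : G} (hu : u ∈ outReps M b x y) :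
    blockRank 2 (bu 2 M b u).2 = 1 := by
  haveI := Fact.mk Nat.prime_two
  obtain ⟨-, hno, i, hi⟩ := A.outReps_cases hu
  have hcard : Nat.card (b.1 ⊓ Subgroup.centralizer ({u} : Set G) : Subgroup G) = 4 :=
    hi ▸ A.mc.card_centralizer_out i
  obtain ⟨f, b', -, -, hb', hmax', hrk, -⟩ := exists_local A.modular A.max (A.outReps_mem hu)
    (fun g hg hgb => by
      rcases A.mc.cases_mem hg with ⟨j, hj⟩ | ⟨j, hj⟩
      · exact absurd ⟨rot x j, A.mc.rot_mem_zpowers j,
          hj ▸ A.fused_symm (A.outReps_mem hu) ⟨g, rfl, hgb⟩⟩ hno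
      · rw [← hj, A.mc.card_centralizer_out, hcard])
  haveI := Fintype.ofFinite (Subgroup.centralizer (zpowers u : Set G))
  rw [← hrk]
  refine NilBlock.blockRank_eq_one A.modular (isNilpotentBlock_of_odd A.modular hmax' ?_)
  intro Q hQ g hg hodd
  by_cases hc : IsCyclic Q
  · exact mem_centralizer_of_odd_of_cyclic (hmax'.1.1.1.to_le hQ) hg hodd
  have hQcard : Nat.card Q ≤ 4 := by
    refine (Subgroup.card_le_of_le hQ).trans (le_of_eq ?_)
    rw [hb', Nat.card_congr (Subgroup.subgroupOfEquivOfLe ?_).toEquiv, hcard]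
    exact inf_le_right.trans (centralizer_zpowers u).ge
  set u' : Subgroup.centralizer (zpowers u : Set G) := ⟨u, mem_centralizer_zpowers_self u⟩ with hu'
  have hug : g * u' = u' * g := Subtype.ext
    ((Subgroup.mem_centralizer_iff.1 g.2 u (mem_zpowers u)).symm)
  have hQ4 : Nat.card Q = 4 := by
    obtain ⟨k, hk⟩ := IsPGroup.iff_card.1 (hmax'.1.1.1.to_le hQ)
    rcases k with _ | _ | k
    · exact absurd (isCyclic_of_card_dvd_prime (p := 2) (hk ▸ (by norm_num))) hc
    · exact absurd (isCyclic_of_card_dvd_prime (p := 2) (hk ▸ (by norm_num))) hc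
    · rw [hk, pow_succ, pow_succ] at hQcard ⊢
      have := Nat.one_le_two_pow (n := k)
      omega
  have hQeq : Q = b'.1 := Subgroup.eq_of_le_of_card_ge hQ (by
    rw [hQ4, hb', Nat.card_congr (Subgroup.subgroupOfEquivOfLe
      (inf_le_right.trans (centralizer_zpowers u).ge)).toEquiv, hcard])
  have huQ : u' ∈ Q := by
    rw [hQeq, hb']
    exact ⟨A.outReps_mem hu, Subgroup.mem_centralizer_singleton_iff.2 rfl⟩
  have hexp : ∀ q ∈ Q, q * q = 1 := by
    intro q hq
    haveI : IsKleinFour Q := ⟨hQ4, ?_⟩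
    · have h := IsKleinFour.mul_self (⟨q, hq⟩ : Q)
      exact congrArg Subtype.val h
    · have hP : ∀ r : Q, orderOf r ∣ 2 := by
        intro r
        obtain ⟨k, hk⟩ := IsPGroup.iff_orderOf.1 (hmax'.1.1.1.to_le hQ) r
        have hd : orderOf r ∣ 4 := hQ4 ▸ orderOf_dvd_natCard r
        rcases k with _ | _ | _ | k
        · rw [hk]; exact one_dvd _
        · rw [hk]; norm_num
        · refine absurd (isCyclic_of_orderOf_eq_card r (hk.trans ?_)) hc
          rw [hQ4]; norm_num
        · rw [hk] at hd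
          have := Nat.le_of_dvd (by norm_num) hd
          rw [pow_succ, pow_succ, pow_succ] at this
          have := Nat.one_le_two_pow (n := k)
          omega
      refine Nat.dvd_antisymm ((Monoid.exponent_dvd).2 hP) ?_
      have hne : u' ≠ 1 := fun h => A.mc.out_notMem i (by
        rw [hi, show u = 1 from congrArg Subtype.val h]; exact one_mem _)
      have h2 : orderOf (⟨u', huQ⟩ : Q) = 2 :=
        (Nat.dvd_prime Nat.prime_two).1 (hP _) |>.resolve_left (fun h => hne (by
          simpa using congrArg Subtype.val (orderOf_eq_one_iff.1 h)))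
      exact h2 ▸ Monoid.order_dvd_exponent _
  -- the element permutes the two other involutions
  refine Subgroup.mem_centralizer_iff.2 fun q hq => ?_
  replace hq : q ∈ Q := hq
  have hfix2 : (g * g) * q = q * (g * g) := by
    have hmemQ : ∀ r ∈ Q, g * r * g⁻¹ ∈ Q := fun r hr => (Subgroup.mem_normalizer_iff.1 hg r).1 hr
    have hthree : ∀ r ∈ Q, r = 1 ∨ r = u' ∨ r = q ∨ r = q * u' ∨ q = 1 ∨ q = u' := by
      intro r hr
      by_contra hne
      simp only [not_or] at hne
      obtain ⟨n1, n2, n3, n4, n5, n6⟩ := hne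
      have hne1 : u' ≠ 1 := fun h => A.mc.out_notMem i (by
        rw [hi, show u = 1 from congrArg Subtype.val h]; exact one_mem _)
      have hsub : ({1, u', q, q * u', r} : Finset (Subgroup.centralizer (zpowers u : Set G))) ⊆
          Finset.univ.filter (· ∈ Q) := by
        simp [Finset.insert_subset_iff, huQ, hq, hr, mul_mem hq huQ, one_mem]
      have h5 := Finset.card_le_card hsub
      have hf : (Finset.univ.filter (· ∈ Q)).card = 4 := by
        rw [← Fintype.card_subtype, Fintype.card_eq_nat_card]; exact hQ4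
      have e1 : q * u' ≠ 1 := fun h => n6 (mul_right_cancel (h.trans (hexp u' huQ).symm))
      have e2 : q * u' ≠ u' := fun h => n5 (mul_eq_right.1 h)
      have e3 : q * u' ≠ q := fun h => hne1 (mul_eq_left.1 h)
      rw [hf, Finset.card_insert_of_notMem (by
          simp [hne1.symm, Ne.symm n5, e1.symm, Ne.symm n1]),
        Finset.card_insert_of_notMem (by simp [Ne.symm n6, e2.symm, Ne.symm n2]),
        Finset.card_insert_of_notMem (by simp [e3.symm, Ne.symm n3]),
        Finset.card_pair (Ne.symm n4)] at h5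
      omega
    have hgu : g * u' * g⁻¹ = u' := by rw [hug, mul_inv_cancel_right]
    rcases hthree _ (hmemQ q hq) with h | h | h | h | h | h
    · rw [conj_eq_one_iff] at h
      simp [h]
    · have hqu : q = u' := mul_left_cancel (mul_right_cancel (h.trans hgu.symm))
      rw [hqu, mul_assoc, hug, ← mul_assoc, hug, mul_assoc]
    · have h' := mul_inv_eq_iff_eq_mul.1 h
      rw [mul_assoc, h', ← mul_assoc, h', mul_assoc]
    · have h' : g * (g * q * g⁻¹) * g⁻¹ = q := by
        rw [h, show g * (q * u') * g⁻¹ = (g * q * g⁻¹) * (g * u' * g⁻¹) by group, h, hgu,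
          mul_assoc, hexp u' huQ, mul_one]
      calc g * g * q = g * (g * q * g⁻¹) * g⁻¹ * (g * g) := by group
        _ = q * (g * g) := by rw [h']
    · simp [h]
    · rw [h, mul_assoc, hug, ← mul_assoc, hug, mul_assoc]
  obtain ⟨k, hk⟩ : ∃ k, (g * g) ^ k = g := by
    obtain ⟨k, hk⟩ := exists_pow_eq_self_of_coprime
      ((Nat.prime_two.coprime_iff_not_dvd.2 hodd))
    exact ⟨k, by rw [← sq, hk]⟩
  have hc2 : Commute q (g * g) := hfix2.symm
  have := (hc2.pow_right k).eq
  rwa [hk] at this

/-- The number of members, through the ranks at the two central elements. -/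
theorem card_block : Nat.card B =
    blockRank 2 B + blockRank 2 (bu 2 M b (invo x m)).2 + (m - 1) + (outReps M b x y).card := by
  haveI := Fact.mk Nat.prime_two
  have h1 : blockRank 2 (bu 2 M b 1).2 = blockRank 2 B := by
    have h : (blockRank 2 (bu 2 M b 1).2 : ℂ) = (blockRank 2 B : ℂ) := by
      rw [← sum_secMat_self A.modular A.max (one_mem _),
        BrauerFeit.blockRank_eq_sum_regCoef A.modular A.max.1.2.1]
      exact Finset.sum_congr rfl fun χ hχ =>
        secMat_one A.modular A.max (Set.mem_toFinset.1 hχ) χ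
    exact_mod_cast h
  have hr : ∑ i ∈ orbitReps m a, (blockRank 2 (bu 2 M b (rot x i)).2 : ℂ) = (m - 1 : ℕ) := by
    rw [Finset.sum_congr rfl (g := fun _ => (1 : ℂ)) fun i hi => by
        rw [A.blockRank_rot (A.orbitReps_ne hi).1 (A.orbitReps_ne hi).2, Nat.cast_one],
      Finset.sum_const, nsmul_one, show m - 1 = (orbitReps m a).card by
        have := A.card_orbitReps; omega]
  have ho : ∑ u ∈ outReps M b x y, (blockRank 2 (bu 2 M b u).2 : ℂ) =
      ((outReps M b x y).card : ℕ) := by
    rw [Finset.sum_congr rfl (g := fun _ => (1 : ℂ)) fun u hu => by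
        rw [A.blockRank_out hu, Nat.cast_one], Finset.sum_const, nsmul_one]
  have h : (Nat.card B : ℂ) = (blockRank 2 B + blockRank 2 (bu 2 M b (invo x m)).2 + (m - 1) +
      (outReps M b x y).card : ℕ) := by
    rw [card_eq_sum_rank A.modular A.max A.isReps, Nat.cast_sum, A.sum_reps, h1, hr, ho]
    push_cast
    ring
  exact_mod_cast h

end Setting

end Cfsg.Agent.Lib.MaxClassDefect
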