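import Cfsg.Agent.Lib.MaxClassDefect.Classes
import Cfsg.Agent.Lib.NilBlock.Main
import Cfsg.Agent.Lib.Chars.Induced
import Mathlib

/-!
# The subsections at the rotations, through the centralizer of the rotation of order four
-/

set_option autoImplicit false
set_option linter.unusedSectionVars false
set_option linter.style.haveILetI false

namespace Cfsg.Agent.Lib.MaxClassDefect

open Cfsg
open Cfsg.Agent.Lib
open Cfsg.Agent.Lib.BrauerPairs
open Cfsg.Agent.Lib.NilBlock (bu bu_fst wt con)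
open Subgroup (zpowers mem_zpowers)
open scoped ComplexConjugate

universe u

attribute [local instance] Classical.propDecidable

variable {G : Type u} [Group G] [Fintype G]

/-- The coefficient of a function at a section, at a member of a local block. -/
noncomputable def secFun (v : G) (g : G → ℂ) (a : BrauerPairIdx G)
    (ξ : IrrCharacter (Subgroup.centralizer (a.1 : Set G))) : ℂ :=
  classInner (pRegularPart 2 fun c : Subgroup.centralizer (a.1 : Set G) => g (v * (c : G))) (ξ : _ → ℂ)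

/-- The contribution of a Brauer element to two functions. -/
noncomputable def conFun (v : G) (a : BrauerPairIdx G) (g g' : G → ℂ) : ℂ :=
  ∑ ξ ∈ a.2.toFinset, secFun v g a ξ * conj (secFun v g' a ξ)

theorem con_eq_conFun (v : G) (a : BrauerPairIdx G) (χ ψ : IrrCharacter G) :
    con 2 v a χ ψ = conFun v a (χ : G → ℂ) (ψ : G → ℂ) := rfl

theorem secFun_congr {v : G} {g g' : G → ℂ} {a : BrauerPairIdx G}
    (h : ∀ c : Subgroup.centralizer (a.1 : Set G), g (v * (c : G)) = g' (v * (c : G)))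
    (ξ : IrrCharacter (Subgroup.centralizer (a.1 : Set G))) :
    secFun v g a ξ = secFun v g' a ξ := by
  rw [secFun, secFun, funext h]

theorem conFun_conj (v x : G) (a : BrauerPairIdx G) (g g' : G → ℂ) :
    conFun (x * v * x⁻¹) (conjPair x a) (fun t => g (x⁻¹ * t * x)) (fun t => g' (x⁻¹ * t * x)) =
      conFun v a g g' := by
  have key : ∀ (f : G → ℂ) (ξ : IrrCharacter (Subgroup.centralizer (a.1 : Set G))),
      secFun (x * v * x⁻¹) (fun t => f (x⁻¹ * t * x)) (conjPair x a)
        (Chars.irrCongr (centEquiv a.1 x).symm ξ) = secFun v f a ξ := by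
    intro f ξ
    simp only [secFun, classInner]
    rw [Nat.card_congr (centEquiv a.1 x).toEquiv]
    congr 1
    refine (Fintype.sum_equiv (centEquiv a.1 x).toEquiv _ _ fun c => ?_).symm
    simp only [MulEquiv.toEquiv_eq_coe, EquivLike.coe_coe, BrauerMap.irrCongr_apply,
      MulEquiv.symm_apply_apply]
    congr 1
    erw [BrauerFeit.pRegularPart_apply, BrauerFeit.pRegularPart_apply]
    erw [show orderOf (centEquiv a.1 x c) = orderOf c from MulEquiv.orderOf_eq _ _]
    split_ifs
    · rfl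
    · show f (v * (c : G)) = f (x⁻¹ * (x * v * x⁻¹ * ((centEquiv a.1 x c : _) : G)) * x)
      rw [coe_centEquiv]
      congr 1
      group
  show ∑ ξ ∈ (conjBlock a.1 x a.2).toFinset, _ = _
  rw [show (conjBlock a.1 x a.2).toFinset =
    a.2.toFinset.image (Chars.irrCongr (centEquiv a.1 x).symm) from by
      ext
      rw [Set.mem_toFinset, conjBlock_eq_image, Finset.mem_image]
      simp only [Set.mem_image, Set.mem_toFinset],
    Finset.sum_image (fun _ _ _ _ h => (Chars.irrCongr _).injective h)]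
  exact Finset.sum_congr rfl fun ξ _ => by rw [key, key]

/-- The contribution at an element of a subgroup holding its centralizer. -/
theorem con_eq_conFun_up {H : Subgroup G} [Fintype H] (a : BrauerPairIdx H)
    (hC : Subgroup.centralizer ((a.1.map H.subtype : Subgroup G) : Set G) ≤ H) (w : H)
    (η η' : IrrCharacter H) :
    con 2 w a η η' =
      conFun (w : G) (upPair a hC) (extendByZero H (η : H → ℂ)) (extendByZero H (η' : H → ℂ)) := by
  have key : ∀ (φ : IrrCharacter H) (ξ : IrrCharacter (Subgroup.centralizer (a.1 : Set H))),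
      secFun (w : G) (extendByZero H (φ : H → ℂ)) (upPair a hC)
        (Chars.irrCongr (KernelCore.centEquivSub rfl hC) ξ) = Contrib.secCoef 2 w φ ξ := by
    intro φ ξ
    simp only [secFun, Contrib.secCoef, classInner]
    rw [← Nat.card_congr (KernelCore.centEquivSub rfl hC).toEquiv]
    congr 1
    refine Fintype.sum_equiv (KernelCore.centEquivSub rfl hC).toEquiv _ _ fun c => ?_
    simp only [MulEquiv.toEquiv_eq_coe, EquivLike.coe_coe, BrauerMap.irrCongr_apply,
      BrauerFeit.pRegularPart_apply, MulEquiv.orderOf_eq]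
    congr 1
    split_ifs
    · rfl
    · have hm : (w : G) * (c : G) ∈ H := mul_mem w.2 (hC c.2)
      rw [Chars.extendByZero_of_mem _ hm]
      rfl
  show ∑ ξ ∈ a.2.toFinset, _ = _
  rw [conFun]
  symm
  have himg : ∀ (T : Finset (IrrCharacter (Subgroup.centralizer ((upPair a hC).1 : Set G)))),
      (∀ ξ, ξ ∈ T ↔ ξ ∈ (upPair a hC).2) →
      ∀ (F : IrrCharacter (Subgroup.centralizer ((upPair a hC).1 : Set G)) → ℂ),
      ∑ ξ ∈ T, F ξ =
        ∑ ξ ∈ a.2.toFinset, F (Chars.irrCongr (KernelCore.centEquivSub rfl hC) ξ) := by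
    intro T hT F
    symm
    refine Finset.sum_bij (fun ξ _ => Chars.irrCongr (KernelCore.centEquivSub rfl hC) ξ) ?_ ?_ ?_
      fun _ _ => rfl
    · exact fun ξ hξ => (hT _).2 ⟨ξ, Set.mem_toFinset.1 hξ, rfl⟩
    · exact fun _ _ _ _ h => (Chars.irrCongr _).injective h
    · intro ξ' hξ'
      obtain ⟨ξ, hξ, rfl⟩ := (hT _).1 hξ'
      exact ⟨ξ, Set.mem_toFinset.2 hξ, rfl⟩
  refine (himg _ ?_ _).trans ?_
  · exact fun _ => @Set.mem_toFinset _ _ (_) _
  exact Finset.sum_congr rfl fun ξ _ => by rw [key, key]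

theorem secFun_eq_sum {H : Subgroup G} [Fintype H] {v : G} (hv : v ∈ H) {a : BrauerPairIdx G}
    (hC : Subgroup.centralizer (a.1 : Set G) ≤ H) (χ : IrrCharacter G)
    (ξ : IrrCharacter (Subgroup.centralizer (a.1 : Set G))) :
    secFun v (χ : G → ℂ) a ξ = ∑ η : IrrCharacter H,
      classInner (fun c : H => (χ : G → ℂ) c) (η : H → ℂ) *
        secFun v (extendByZero H (η : H → ℂ)) a ξ := by
  have hexp : (pRegularPart 2 fun c : Subgroup.centralizer (a.1 : Set G) => (χ : G → ℂ) (v * (c : G))) =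
      ∑ η : IrrCharacter H, classInner (fun c : H => (χ : G → ℂ) c) (η : H → ℂ) •
        pRegularPart 2 fun c : Subgroup.centralizer (a.1 : Set G) =>
          extendByZero H (η : H → ℂ) (v * (c : G)) := by
    funext c
    simp only [Finset.sum_apply, Pi.smul_apply, BrauerFeit.pRegularPart_apply, smul_eq_mul]
    split_ifs
    · simp
    · have hm : v * (c : G) ∈ H := mul_mem hv (hC c.2)
      rw [Finset.sum_congr rfl fun η _ => by rw [Chars.extendByZero_of_mem _ hm]]
      exact Chars.isClassFunction_apply_eq_sum_classInner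
        (Chars.isClassFunction_of_isCharacter
          (Chars.isCharacter_restrict H (Chars.irr_isCharacter χ))) (⟨_, hm⟩ : H)
  rw [secFun, hexp, Chars.classInner_sum_left]
  exact Finset.sum_congr rfl fun η _ => by rw [Chars.classInner_smul_left]; rfl

variable {M : Ideal AlgInt} [M.IsPrime] {B : Set (IrrCharacter G)} {b : BrauerPairIdx G} {x y : G}
  {m a : ℕ}

theorem addChar_inj [NeZero (2 * m)] {i j : ZMod (2 * m)}
    (h : (ZMod.stdAddChar i : ℂ) = ZMod.stdAddChar j) : i = j :=
  ZMod.injective_stdAddChar h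

theorem exists_addChar_eq [NeZero (2 * m)] {μ : ℂ} (h : μ ^ (2 * m) = 1) :
    ∃ j : ZMod (2 * m), (ZMod.stdAddChar j : ℂ) = μ := by
  have hp : IsPrimitiveRoot (ZMod.stdAddChar (1 : ZMod (2 * m)) : ℂ) (2 * m) := by
    refine ⟨?_, fun l hl => ?_⟩
    · rw [← AddChar.map_nsmul_eq_pow, nsmul_one, ZMod.natCast_self, AddChar.map_zero_eq_one]
    · rw [← AddChar.map_nsmul_eq_pow, nsmul_one, ← AddChar.map_zero_eq_one
        (ZMod.stdAddChar : AddChar (ZMod (2 * m)) ℂ)] at hl
      exact (ZMod.natCast_eq_zero_iff _ _).1 (addChar_inj hl)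
  obtain ⟨l, -, hl⟩ := hp.eq_pow_of_pow_eq_one h
  exact ⟨(l : ZMod (2 * m)), by rw [← hl, ← AddChar.map_nsmul_eq_pow, nsmul_one]⟩

/-- The function on the residues belonging to the multiplicities `L`. -/
noncomputable def colFun [NeZero (2 * m)] (L : IrrCharacter G → ZMod (2 * m) → ℕ)
    (χ : IrrCharacter G) (i : ZMod (2 * m)) : ℂ :=
  ∑ j : ZMod (2 * m), (L χ j : ℂ) * ZMod.stdAddChar (j * i)

namespace Setting

variable (A : Setting M B b x y m a)
include A

/-- The rotation of order four generates a subgroup of every larger one. -/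
theorem four_mem_zpowers {i : ZMod (2 * m)} (h0 : i ≠ 0) (hm : i ≠ (m : ZMod (2 * m))) :
    rot x ((m / 2 : ℕ) : ZMod (2 * m)) ∈ zpowers (rot x i) := by
  haveI := Fact.mk Nat.prime_two
  obtain ⟨e, he⟩ := A.mc.isPow
  have he1 : 1 ≤ e := by
    rcases e with _ | e
    · have := A.mc.two_le; omega
    · omega
  have hhalf : m / 2 = 2 ^ (e - 1) := by
    rw [he, ← Nat.sub_add_cancel he1, pow_succ, Nat.mul_div_cancel _ (by norm_num),
      Nat.add_sub_cancel]
  have h4 : orderOf (rot x ((m / 2 : ℕ) : ZMod (2 * m))) = 4 := by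
    rw [A.mc.rot_natCast, orderOf_pow' x (by rw [hhalf]; positivity), A.mc.orderx,
      Nat.gcd_eq_right ⟨4, by rw [hhalf, he, ← Nat.sub_add_cancel he1, pow_succ, Nat.add_sub_cancel]; ring⟩,
      hhalf, he, ← Nat.sub_add_cancel he1, pow_succ, Nat.add_sub_cancel,
      show 2 * (2 ^ (e - 1) * 2) = 4 * 2 ^ (e - 1) by ring, Nat.mul_div_cancel _ (by positivity)]
  obtain ⟨k, hk⟩ := NilBlock.exists_orderOf_eq A.modular A.max (A.mc.rot_mem i)
  have hk2 : 2 ≤ k := by
    by_contra hlt
    refine (A.orderOf_rot_eq_one_or (i := i) (hk ▸ ?_)).elim h0 hm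
    rw [show (2 : ℕ) = 2 ^ 1 by norm_num]
    exact pow_dvd_pow 2 (by omega)
  have hpow : orderOf (rot x i ^ 2 ^ (k - 2)) = 4 := by
    rw [orderOf_pow' _ (by positivity), hk, Nat.gcd_eq_right (pow_dvd_pow 2 (by omega)),
      Nat.pow_div (by omega) (by norm_num), show k - (k - 2) = 2 by omega]
  rw [← Subgroup.zpowers_le, eq_of_card_eq_in_cyclic (A.mc.rot_mem_zpowers _)
    (pow_mem (A.mc.rot_mem_zpowers i) (2 ^ (k - 2))) (h4.trans hpow.symm), Subgroup.zpowers_le]
  exact pow_mem (mem_zpowers _) _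

/-- The subsections at the rotations have rank one, given by natural numbers. -/
theorem exists_rotData [NeZero (2 * m)] :
    ∃ L : IrrCharacter G → ZMod (2 * m) → ℕ,
      (∀ χ j, L χ ((a : ZMod (2 * m)) * j) = L χ j) ∧
      ∀ i : ZMod (2 * m), i ≠ 0 → i ≠ (m : ZMod (2 * m)) → ∀ χ ψ : IrrCharacter G,
        (2 * m : ℂ) * secMat 2 M b (rot x i) χ ψ = colFun L χ i * conj (colFun L ψ i) := by
  haveI := Fact.mk Nat.prime_two
  have hM := A.modular
  have hm2 := A.mc.two_le
  -- the element of order four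
  set h : ZMod (2 * m) := ((m / 2 : ℕ) : ZMod (2 * m)) with hh
  have hh0 : h ≠ 0 := fun e => by
    have := Nat.le_of_dvd (by omega) ((ZMod.natCast_eq_zero_iff _ _).1 e)
    omega
  have hhm : h ≠ (m : ZMod (2 * m)) := fun e => by
    have := congrArg ZMod.val e
    rw [hh, ZMod.val_natCast_of_lt (by omega), ZMod.val_natCast_of_lt (by omega)] at this
    omega
  set u := rot x h with hu
  have hRcard : Nat.card (zpowers x) = 2 * m := (Nat.card_zpowers x).trans A.mc.orderx
  set K := Subgroup.centralizer (zpowers u : Set G) with hK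
  haveI := Fintype.ofFinite K
  obtain ⟨f, b', -, -, hb', hmax', -, hC, hup⟩ := exists_local (u := u) hM A.max (A.mc.rot_mem h)
    (fun g hg _ => by
      rw [A.mc.centralizer_rot hh0 hhm, hRcard]
      rcases A.mc.cases_mem hg with ⟨j, hj⟩ | ⟨j, hj⟩
      · rw [← hj, A.mc.centralizer_rot, hRcard]
        · rintro rfl
          rw [A.mc.rot_zero] at hj
          exact hh0 (A.mc.rot_injective ((conj_eq_one_iff.1 hj.symm).trans A.mc.rot_zero.symm))
        · rintro rfl
          have ho : orderOf (rot x h) = orderOf (invo x m) :=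
            ((MulAut.conj g).orderOf_eq _).symm.trans (congrArg orderOf hj.symm)
          exact (A.orderOf_rot_eq_one_or (ho ▸ A.orderOf_invo.dvd)).elim hh0 hhm
      · rw [← hj, A.mc.card_centralizer_out]
        omega)
  have hxK : x ∈ K := by
    rw [hK, centralizer_zpowers, Subgroup.mem_centralizer_singleton_iff]
    exact (((Commute.refl x).pow_right h.val)).eq
  have hmemR : ∀ k : K, k ∈ b'.1 ↔ (k : G) ∈ zpowers x := fun k => by
    rw [hb', Subgroup.mem_subgroupOf, A.mc.centralizer_rot hh0 hhm]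
  have hxb' : (⟨x, hxK⟩ : K) ∈ b'.1 := (hmemR _).2 (mem_zpowers x)
  haveI hcyc : IsCyclic b'.1 :=
    isCyclic_of_injective (MonoidHom.mk' (fun k : b'.1 => (⟨((k : K) : G), (hmemR _).1 k.2⟩ : zpowers x))
      fun _ _ => rfl) fun k l e => Subtype.ext (Subtype.ext (congrArg Subtype.val e : _))
  haveI : IsMulCommutative b'.1 := IsCyclic.isMulCommutative
  have hcomm : ∀ v w : b'.1, v * w = w * v := fun v w => IsMulCommutative.is_comm.comm v w
  have hnil : IsNilpotentBlock 2 M f := isNilpotentBlock_of_cyclic hM hmax'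
  have hr : ∀ w ∈ b'.1, w ∉ Subgroup.center K → blockRank 2 (bu 2 M b' w).2 = 1 :=
    fun w hw _ => NilBlock.blockRank_bu hM hmax' hnil hw
  obtain ⟨η₀, hη₀, hη0⟩ := Blocks.exists_height_zero (p := 2) hmax'.1.2.1
  obtain ⟨Φ, hΦ⟩ := NilBlock.exists_rows hM hmax' hnil hr hη₀ hη0
  choose ε hε hrow using hΦ
  -- the regular parts agree
  have hwt1 : ∀ η ∈ f, wt 2 M b' 1 η η₀ = 1 := by
    intro η hη
    obtain ⟨-, Ψ, hΨ⟩ := NilBlock.exists_structure hM hmax' hnil hr hη₀ hη0
    have hdeg : (charDegree ((Ψ ⟨η, hη⟩ : IrrCharacter b'.1) : b'.1 → ℂ) : ℂ) = 1 :=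
      (Blocks.HeightZero.charDegree_eq _).1.trans (Chars.irr_apply_one_of_comm _)
    have hreg : pRegularPart 2 (η : K → ℂ) = pRegularPart 2 (η₀ : K → ℂ) := by
      funext t
      rw [(hΨ ⟨η, hη⟩).1 t, hdeg, one_mul]
    rw [NilBlock.wt_one hM hmax' hη, BrauerFeit.regCoef, hreg, ← BrauerFeit.regCoef,
      ← NilBlock.wt_one hM hmax' hη₀,
      NilBlock.wt_self_eq_one hM hmax' hnil hr hη₀ hη0 (one_mem _)]
  -- the powers of the generator
  have hxpow : ∀ i : ZMod (2 * m), rot (⟨x, hxK⟩ : K) i ∈ b'.1 := fun i => pow_mem hxb' _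
  have hcard : ∀ w ∈ b'.1, Nat.card (b'.1 ⊓ Subgroup.centralizer ({w} : Set K) : Subgroup K) = 2 * m := by
    intro w hw
    rw [inf_eq_left.2 fun k hk => Subgroup.mem_centralizer_singleton_iff.2
      (congrArg Subtype.val (hcomm ⟨k, hk⟩ ⟨w, hw⟩)), hb',
      A.mc.centralizer_rot hh0 hhm, Nat.card_congr (Subgroup.subgroupOfEquivOfLe ?_).toEquiv, hRcard]
    exact Subgroup.zpowers_le.2 hxK
  -- the coordinates of the rows
  have hJ : ∀ η : IrrCharacter K, ∃ J : ZMod (2 * m), η ∈ f → ∀ i : ZMod (2 * m),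
      wt 2 M b' (rot (⟨x, hxK⟩ : K) i) η η₀ = ZMod.stdAddChar (J * i) := by
    intro η
    by_cases hη : η ∈ f
    swap
    · exact ⟨0, fun e => absurd e hη⟩
    obtain ⟨l, hl⟩ := Φ.surjective ⟨η, hη⟩
    have hl1 : (l : b'.1 → ℂ) 1 = 1 := Chars.irr_apply_one_of_comm l
    have hε1 : (ε l : ℂ) = 1 := by
      have h1 := hrow l 1
      rw [hl, hl1, mul_one, Subgroup.coe_one, hwt1 η hη] at h1
      exact h1.symm
    set X : b'.1 := ⟨⟨x, hxK⟩, hxb'⟩ with hX
    have hmul : ∀ v w : b'.1, (l : b'.1 → ℂ) (v * w) = (l : b'.1 → ℂ) v * (l : b'.1 → ℂ) w := by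
      intro v w
      rw [Blocks.CentralKernel.irr_mul_central l (g := v) (Subgroup.mem_center_iff.2 fun t => hcomm t w),
        hl1, div_one]
    have hpow : ∀ n : ℕ, (l : b'.1 → ℂ) (X ^ n) = (l : b'.1 → ℂ) X ^ n := by
      intro n
      induction n with
      | zero => simp [hl1]
      | succ n ih => rw [pow_succ, hmul, ih, pow_succ]
    have hXN : X ^ (2 * m) = 1 := Subtype.ext (Subtype.ext (by
      rw [SubmonoidClass.coe_pow, SubmonoidClass.coe_pow, Subgroup.coe_one, Subgroup.coe_one,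
        ← A.mc.orderx]
      exact pow_orderOf_eq_one x))
    obtain ⟨J, hJ⟩ := exists_addChar_eq (m := m) (μ := (l : b'.1 → ℂ) X)
      (by rw [← hpow, hXN, hl1])
    refine ⟨J, fun _ i => ?_⟩
    have h1 := hrow l (X ^ i.val)
    rw [hl, SubmonoidClass.coe_pow, hε1, one_mul, hpow, ← hJ, ← AddChar.map_nsmul_eq_pow] at h1
    rw [rot, h1, nsmul_eq_mul, ZMod.natCast_zmod_val, mul_comm i J]
  choose J hJ using hJ
  -- through the group
  set hat : IrrCharacter K → G → ℂ := fun η => extendByZero K (η : K → ℂ) with hhat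
  set V : ZMod (2 * m) → (G → ℂ) → (G → ℂ) → ℂ := fun i g g' =>
    (2 * m : ℂ) * conFun (rot x i) (bu 2 M b (rot x i)) g g' with hV
  have hwtV : ∀ i : ZMod (2 * m), i ≠ 0 → i ≠ (m : ZMod (2 * m)) → ∀ η η' : IrrCharacter K,
      wt 2 M b' (rot (⟨x, hxK⟩ : K) i) η η' = V i (hat η) (hat η') := by
    intro i h0 hm η η'
    have hcoe : ((rot (⟨x, hxK⟩ : K) i : K) : G) = rot x i := by simp [rot]
    have huw : u ∈ zpowers ((rot (⟨x, hxK⟩ : K) i : K) : G) := by
      rw [hcoe]; exact A.four_mem_zpowers h0 hm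
    rw [wt, hcard _ (hxpow i), con_eq_conFun_up _ (centralizer_up_zpowers huw
      (a := bu 2 M b' (rot (⟨x, hxK⟩ : K) i)) (by rw [bu_fst]; exact mem_zpowers _)),
      bu_up hM A.max.1.1 hmax'.1.1 hC hup (hxpow i) huw, hcoe, hV]
    push_cast
    rfl
  have hWmul : ∀ i : ZMod (2 * m), i ≠ 0 → i ≠ (m : ZMod (2 * m)) → ∀ η η' : IrrCharacter K,
      V i (hat η) (hat η') = (if η ∈ f then ZMod.stdAddChar (J η * i) else 0) *
        conj (if η' ∈ f then ZMod.stdAddChar (J η' * i) else 0) := by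
    intro i h0 hm η η'
    rw [← hwtV i h0 hm, NilBlock.wt_eq_mul hM hmax' hnil (hxpow i)
      (NilBlock.blockRank_bu hM hmax' hnil (hxpow i))
      (NilBlock.wt_self_eq_one hM hmax' hnil hr hη₀ hη0 (hxpow i)),
      ← NilBlock.conj_wt _ η' η₀]
    have hz : ∀ φ : IrrCharacter K, φ ∉ f → wt 2 M b' (rot (⟨x, hxK⟩ : K) i) φ η₀ = 0 := fun φ hφ => by
      rw [wt, show con 2 (rot (⟨x, hxK⟩ : K) i) (bu 2 M b' (rot (⟨x, hxK⟩ : K) i)) φ η₀ = 0 from
        secMat_eq_zero hM hmax' (hxpow i) hφ η₀, mul_zero]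
    congr 1
    · split_ifs with hη
      · exact hJ η hη i
      · exact hz η hη
    · congr 1
      split_ifs with hη
      · exact hJ η' hη i
      · exact hz η' hη
  -- the action of `y`
  have hyu : ∀ k : G, k ∈ K → y⁻¹ * k * y ∈ K := by
    intro k hk
    rw [hK, centralizer_zpowers, Subgroup.mem_centralizer_singleton_iff] at hk ⊢
    have hyuy : y * u * y⁻¹ = u ∨ y * u * y⁻¹ = u⁻¹ := by
      rw [hu, A.mc.conj_rot, ← A.mc.rot_neg]
      have hi : (a : ZMod (2 * m)) * h ∈ ({h, -h} : Set (ZMod (2 * m))) := by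
        obtain ⟨c, hc⟩ := A.mc.exists_unit
        have h2 : 2 * h = (m : ZMod (2 * m)) := by
          have e := congrArg (Nat.cast : ℕ → ZMod (2 * m)) (Nat.mul_div_cancel' A.mc.even_m)
          rw [Nat.cast_mul] at e
          exact e
        right
        show _ = -h
        have hcm : (c : ZMod (2 * m)) * (m : ZMod (2 * m)) = m := by
          rcases A.mc.two_mul_eq_zero.1 (show 2 * ((c : ZMod (2 * m)) * m) = 0 by
            rw [mul_left_comm, A.mc.cast_two_m, mul_zero]) with e | e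
          · exact absurd ((IsUnit.mul_right_eq_zero c.isUnit).1 e) A.mc.m_ne_zero
          · exact e
        linear_combination -h * hc + h2 - (c : ZMod (2 * m)) * h2 - hcm
      rcases hi with e | e
      · exact Or.inl (by rw [e])
      · exact Or.inr (by rw [Set.mem_singleton_iff.1 e])
    have hc : Commute k (y * u * y⁻¹) := by
      rcases hyuy with e | e <;> rw [e]
      · exact hk
      · exact (show Commute k u from hk).inv_right
    calc y⁻¹ * k * y * u = y⁻¹ * (k * (y * u * y⁻¹)) * y := by group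
      _ = y⁻¹ * (y * u * y⁻¹ * k) * y := by rw [hc.eq]
      _ = _ := by group
  have hyK : ∀ k : G, k ∈ K → y * k * y⁻¹ ∈ K := by
    intro k hk
    have h2 : y * y ∈ zpowers x := by
      rcases A.mc.kind with ⟨-, e⟩ | ⟨-, e, -⟩ <;> rw [e]
      · exact pow_mem (mem_zpowers x) _
      · exact one_mem _
    have hyy : y * y ∈ K := Subgroup.zpowers_le.2 hxK h2
    have := mul_mem (mul_mem hyy (hyu k hk)) (inv_mem hyy)
    rwa [show y * y * (y⁻¹ * k * y) * (y * y)⁻¹ = y * k * y⁻¹ by group] at this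
  let θ : K ≃* K :=
    { toFun := fun k => ⟨y⁻¹ * k * y, hyu k k.2⟩
      invFun := fun k => ⟨y * k * y⁻¹, hyK k k.2⟩
      left_inv := fun k => Subtype.ext (by simp [mul_assoc])
      right_inv := fun k => Subtype.ext (by simp [mul_assoc])
      map_mul' := fun k l => Subtype.ext (by simp [mul_assoc]) }
  set tw : IrrCharacter K → IrrCharacter K := fun η => Chars.irrCongr θ η with htw
  have hhat_tw : ∀ η, (fun t => hat η (y⁻¹ * t * y)) = hat (tw η) := by
    intro η
    funext t
    by_cases ht : t ∈ K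
    · simp only [hhat, htw]
      rw [Chars.extendByZero_of_mem _ (hyu t ht), Chars.extendByZero_of_mem _ ht,
        BrauerMap.irrCongr_apply]
      rfl
    · simp only [hhat]
      rw [Chars.extendByZero_of_not_mem _ ht, Chars.extendByZero_of_not_mem]
      intro h'
      have := hyK _ h'
      rw [show y * (y⁻¹ * t * y) * y⁻¹ = t by group] at this
      exact ht this
  have hVtw : ∀ i η η', V ((a : ZMod (2 * m)) * i) (hat (tw η)) (hat (tw η')) = V i (hat η) (hat η') := by
    intro i η η'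
    simp only [hV, ← hhat_tw, ← A.mc.conj_rot i]
    rw [← NilBlock.conjPair_bu hM A.max (A.mc.rot_mem i) A.mc.y_mem, conFun_conj]
  have hone : (1 : ZMod (2 * m)) ≠ 0 ∧ (1 : ZMod (2 * m)) ≠ (m : ZMod (2 * m)) := by
    haveI : Fact (1 < 2 * m) := ⟨by omega⟩
    refine ⟨one_ne_zero, fun e => ?_⟩
    have := congrArg ZMod.val e
    rw [ZMod.val_one, ZMod.val_natCast_of_lt (by omega)] at this
    omega
  have hane : (a : ZMod (2 * m)) * 1 ≠ 0 ∧ (a : ZMod (2 * m)) * 1 ≠ (m : ZMod (2 * m)) := by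
    constructor <;> intro e <;> have e' := congrArg ((a : ZMod (2 * m)) * ·) e <;>
      simp only [A.mc.twist_twist] at e'
    · exact hone.1 (e'.trans (mul_zero _))
    · exact hone.2 (e'.trans A.mc.twist_m)
  have hnorm : ∀ j : ZMod (2 * m), conj (ZMod.stdAddChar j : ℂ) = (ZMod.stdAddChar (-j) : ℂ) :=
    fun j => (AddChar.map_neg_eq_conj _ j).symm
  -- membership and the shift
  have hself : η₀ ∈ f → J η₀ = 0 := fun _ => by
    refine addChar_inj (m := m) ?_
    rw [AddChar.map_zero_eq_one, ← mul_one (J η₀), ← hJ η₀ hη₀,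
      NilBlock.wt_self_eq_one hM hmax' hnil hr hη₀ hη0 (hxpow 1)]
  have htwf : ∀ η ∈ f, tw η ∈ f ∧ tw η₀ ∈ f ∧
      J (tw η) * (a : ZMod (2 * m)) - J (tw η₀) * (a : ZMod (2 * m)) = J η := by
    intro η hη
    have e := hVtw 1 η η₀
    rw [hWmul _ hane.1 hane.2, hWmul _ hone.1 hone.2, if_pos hη, if_pos hη₀, hself hη₀] at e
    have hne : (ZMod.stdAddChar (J η * 1) : ℂ) * conj (ZMod.stdAddChar ((0 : ZMod (2 * m)) * 1) : ℂ) ≠ 0 := by
      rw [hnorm, ← AddChar.map_add_eq_mul]
      exact (ZMod.stdAddChar : AddChar (ZMod (2 * m)) ℂ).val_isUnit _ |>.ne_zero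
    have h1 : tw η ∈ f := by
      by_contra hn
      rw [if_neg hn, zero_mul] at e
      exact hne e.symm
    have h2 : tw η₀ ∈ f := by
      by_contra hn
      rw [if_neg hn, map_zero, mul_zero] at e
      exact hne e.symm
    refine ⟨h1, h2, ?_⟩
    rw [if_pos h1, if_pos h2, hnorm, hnorm, ← AddChar.map_add_eq_mul, ← AddChar.map_add_eq_mul] at e
    have := addChar_inj e
    linear_combination this
  set c := J (tw η₀) with hc
  have htw0 : tw η₀ ∈ f := (htwf η₀ hη₀).1
  have hceven : c * (m : ZMod (2 * m)) = 0 := by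
    refine addChar_inj (m := m) ?_
    rw [AddChar.map_zero_eq_one, hc, ← hJ _ htw0]
    have hzc : rot (⟨x, hxK⟩ : K) (m : ZMod (2 * m)) ∈ Subgroup.center K := by
      refine Subgroup.mem_center_iff.2 fun k => Subtype.ext ?_
      obtain ⟨n, hn⟩ : invo x m ∈ zpowers u := by
        rw [hu, A.mc.rot_natCast]
        refine ⟨((2 : ℕ) : ℤ), ?_⟩
        show (x ^ (m / 2)) ^ ((2 : ℕ) : ℤ) = _
        rw [zpow_natCast, ← pow_mul, Nat.div_mul_cancel A.mc.even_m, invo, A.mc.rot_natCast]
      have hk : (k : G) ∈ Subgroup.centralizer (zpowers u : Set G) := k.2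
      rw [centralizer_zpowers, Subgroup.mem_centralizer_singleton_iff] at hk
      have hco : Commute (k : G) (invo x m) := hn ▸ (show Commute (k : G) u from hk).zpow_right n
      simpa [rot, invo] using hco.eq
    have hv : (tw η₀ : K → ℂ) (rot (⟨x, hxK⟩ : K) (m : ZMod (2 * m))) =
        (η₀ : K → ℂ) (rot (⟨x, hxK⟩ : K) (m : ZMod (2 * m))) := by
      rw [htw, BrauerMap.irrCongr_apply]
      refine congrArg _ (Subtype.ext ?_)
      show y⁻¹ * ((rot (⟨x, hxK⟩ : K) (m : ZMod (2 * m)) : K) : G) * y = _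
      have hzy := A.mc.z_comm A.mc.y_mem
      simp only [rot, SubmonoidClass.coe_pow] at hzy ⊢
      rw [mul_assoc, ← hzy, inv_mul_cancel_left]
    have hv1 : (tw η₀ : K → ℂ) 1 = (η₀ : K → ℂ) 1 := by
      rw [htw, BrauerMap.irrCongr_apply, map_one]
    rw [NilBlock.wt_of_mem_center hM hmax' (hxpow _) hzc htw0, hv, hv1,
      ← NilBlock.wt_one hM hmax' htw0, hwt1 _ htw0, mul_one, Complex.mul_conj,
      Complex.normSq_eq_norm_sq, NilBlock.norm_apply_div_one η₀ hzc]
    norm_num
  obtain ⟨k, hk⟩ : ∃ k, c = 2 * k := by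
    rcases A.mc.exists_two_mul_or c with e | ⟨k, e⟩
    · exact e
    · refine absurd hceven ?_
      rw [e, add_mul, one_mul, mul_right_comm, A.mc.cast_two_m, zero_mul, zero_add]
      exact A.mc.m_ne_zero
  obtain ⟨v, hv⟩ := A.mc.exists_unit
  set d := -(((v⁻¹ : (ZMod (2 * m))ˣ) : ZMod (2 * m)) * k) with hd
  have hcd : c + d = (a : ZMod (2 * m)) * d := by
    have hvv : (v : ZMod (2 * m)) * ((v⁻¹ : (ZMod (2 * m))ˣ) : ZMod (2 * m)) = 1 := Units.mul_inv v
    rw [hd]
    linear_combination hk - ((v⁻¹ : (ZMod (2 * m))ˣ) : ZMod (2 * m)) * k * hv - 2 * k * hvv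
  -- the multiplicities
  have hnat : ∀ (χ : IrrCharacter G) (η : IrrCharacter K), ∃ n : ℕ,
      classInner (fun c : K => (χ : G → ℂ) c) (η : K → ℂ) = n := fun χ η =>
    Chars.isCharacter_classInner_nat (Chars.isCharacter_restrict K (Chars.irr_isCharacter χ))
      (Chars.irr_isCharacter η)
  choose n hn using hnat
  have hntw : ∀ χ η, n χ (tw η) = n χ η := by
    intro χ η
    have e : ((n χ (tw η) : ℕ) : ℂ) = (n χ η : ℕ) := by
      rw [← hn, ← hn]
      simp only [classInner]
      congr 1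
      refine Fintype.sum_equiv θ.toEquiv _ _ fun k => ?_
      rw [htw, BrauerMap.irrCongr_apply]
      congr 1
      show (χ : G → ℂ) k = (χ : G → ℂ) (y⁻¹ * k * y)
      rw [← Chars.irr_isClassFunction χ (k : G) y⁻¹]
      group
    exact_mod_cast e
  refine ⟨fun χ j => ∑ η ∈ f.toFinset.filter (fun η => J η + d = j), n χ η, fun χ j => ?_, ?_⟩
  · symm
    refine Finset.sum_nbij tw ?_ ?_ ?_ fun η _ => (hntw χ η).symm
    · intro η hη
      obtain ⟨hηf, hηj⟩ := Finset.mem_filter.1 hη
      obtain ⟨h1, -, h3⟩ := htwf η (Set.mem_toFinset.1 hηf)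
      refine Finset.mem_filter.2 ⟨Set.mem_toFinset.2 h1, ?_⟩
      rw [← hηj]
      linear_combination (a : ZMod (2 * m)) * h3 + hcd -
        (J (tw η) - c) * A.mc.sq_eq_one
    · intro η _ η' _ e
      exact (Chars.irrCongr θ).injective e
    · intro η' hη'
      obtain ⟨hηf, hηj⟩ := Finset.mem_coe.1 hη' |> Finset.mem_filter.1
      obtain ⟨η, rfl⟩ : ∃ η, tw η = η' := (Chars.irrCongr θ).surjective η'
      refine ⟨η, Finset.mem_coe.2 (Finset.mem_filter.2 ⟨Set.mem_toFinset.2 ?_, ?_⟩), rfl⟩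
      · by_contra hno
        have e := hVtw 1 η η₀
        rw [hWmul _ hane.1 hane.2, hWmul _ hone.1 hone.2, if_neg hno, zero_mul,
          if_pos (Set.mem_toFinset.1 hηf), if_pos htw0, hnorm, ← AddChar.map_add_eq_mul] at e
        exact ((ZMod.stdAddChar : AddChar (ZMod (2 * m)) ℂ).val_isUnit _).ne_zero e
      · have hηf' : η ∈ f := by
          by_contra hno
          have e := hVtw 1 η η₀
          rw [hWmul _ hane.1 hane.2, hWmul _ hone.1 hone.2, if_neg hno, zero_mul,
            if_pos (Set.mem_toFinset.1 hηf), if_pos htw0, hnorm, ← AddChar.map_add_eq_mul] at e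
          exact ((ZMod.stdAddChar : AddChar (ZMod (2 * m)) ℂ).val_isUnit _).ne_zero e
        obtain ⟨-, -, h3⟩ := htwf η hηf'
        have hj := congrArg ((a : ZMod (2 * m)) * ·) hηj
        simp only [A.mc.twist_twist] at hj
        linear_combination hj - h3 - (a : ZMod (2 * m)) * hcd - d * A.mc.sq_eq_one
  · intro i h0 hm χ ψ
    have hCi : Subgroup.centralizer ((bu 2 M b (rot x i)).1 : Set G) ≤ K := by
      rw [hK, bu_fst]
      exact BrauerMap.centralizer_anti (Subgroup.zpowers_le.2 (A.four_mem_zpowers h0 hm))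
    have hiK : rot x i ∈ K := pow_mem hxK _
    have hcol : ∀ φ : IrrCharacter G,
        colFun (fun χ j => ∑ η ∈ f.toFinset.filter (fun η => J η + d = j), n χ η) φ i =
          ZMod.stdAddChar (d * i) * ∑ η : IrrCharacter K,
            (n φ η : ℂ) * if η ∈ f then ZMod.stdAddChar (J η * i) else 0 := by
      intro φ
      simp only [colFun, Nat.cast_sum, Finset.sum_mul, Finset.mul_sum]
      rw [Finset.sum_congr rfl fun j _ => Finset.sum_congr rfl (g := fun η =>
        (n φ η : ℂ) * ZMod.stdAddChar ((J η + d) * i)) fun η hη => by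
          rw [(Finset.mem_filter.1 hη).2],
        Finset.sum_fiberwise f.toFinset (fun η => J η + d) fun η =>
          (n φ η : ℂ) * ZMod.stdAddChar ((J η + d) * i)]
      rw [← Finset.sum_subset (Finset.subset_univ f.toFinset) fun η _ hη => by
        rw [if_neg (by simpa using hη), mul_zero, mul_zero]]
      refine Finset.sum_congr rfl fun η hη => ?_
      rw [if_pos (Set.mem_toFinset.1 hη), add_mul, AddChar.map_add_eq_mul]
      ring
    have hd1 : (ZMod.stdAddChar (d * i) : ℂ) * conj (ZMod.stdAddChar (d * i) : ℂ) = 1 := by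
      rw [hnorm, ← AddChar.map_add_eq_mul, add_neg_cancel, AddChar.map_zero_eq_one]
    rw [hcol, hcol, map_mul (starRingEnd ℂ), mul_mul_mul_comm, hd1, one_mul, secMat, con_eq_conFun, conFun]
    simp only [secFun_eq_sum hiK hCi, hn, map_sum, map_mul, Complex.conj_natCast, Finset.sum_mul_sum]
    rw [Finset.sum_comm, Finset.mul_sum]
    refine Finset.sum_congr rfl fun η _ => ?_
    rw [Finset.sum_comm, Finset.mul_sum]
    refine Finset.sum_congr rfl fun η' _ => ?_
    rw [mul_mul_mul_comm, ← hWmul i h0 hm η η', hV]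
    simp only [conFun, Finset.mul_sum]
    exact Finset.sum_congr rfl fun ξ _ => by simp only [hhat]; ring

end Setting

end Cfsg.Agent.Lib.MaxClassDefect
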