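import Cfsg.Agent.Lib.MaxClassDefect.Group
import Cfsg.Prelude.Def_CaseTheorems
import Mathlib

/-!
# Coordinates on quaternion and semidihedral subgroups
-/

set_option autoImplicit false

namespace Cfsg.Agent.Lib.MaxClassDefect

open Cfsg
open Subgroup (zpowers mem_zpowers)

universe u

/-- Coordinates from two elements of the subgroup. -/
theorem MC.of_gens {G : Type u} [Group G] {P : Subgroup G} {x y : G} {m a : ℕ} (h2 : 2 ≤ m)
    (hpow : ∃ e, m = 2 ^ e) (hx : x ∈ P) (hy : y ∈ P) (ho : orderOf x = 2 * m)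
    (hrel : y * x * y⁻¹ = x ^ a) (hcard : Nat.card P = 4 * m)
    (hkind : Kind m a (y * y = 1) (y * y = x ^ m)) : MC P x y m a := by
  have hout : y ∉ zpowers x := by
    rintro ⟨i, hi⟩
    have hc : y * x * y⁻¹ = x := by
      rw [show y = x ^ i from hi.symm, ← (Commute.refl x).zpow_right i |>.eq, mul_inv_cancel_right]
    have h1 : x ^ a = x ^ 1 := by rw [pow_one, ← hrel, hc]
    rw [pow_eq_pow_iff_modEq, ho, Nat.modEq_iff_dvd] at h1
    rcases hkind with ⟨hk, -⟩ | ⟨hk, -, h4⟩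
    · have hd : ((2 * m : ℕ) : ℤ) ∣ 2 := by
        obtain ⟨c, hc⟩ := h1
        exact ⟨1 + c, by push_cast at hc ⊢; have := congrArg (Nat.cast : ℕ → ℤ) hk
                         push_cast at this; linarith⟩
      have := Int.le_of_dvd (by norm_num) hd
      omega
    · obtain ⟨c, hc⟩ := h1
      obtain ⟨q, hq⟩ := h4
      have := congrArg (Nat.cast : ℕ → ℤ) hk
      have hq' := congrArg (Nat.cast : ℕ → ℤ) hq
      push_cast at hc this hq'
      have hd : (m : ℤ) ∣ 2 := ⟨1 + 2 * c, by linarith⟩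
      have := Int.le_of_dvd (by norm_num) hd
      omega
  refine ⟨h2, hpow, hx, hy, ho, hrel, fun u hu => ?_, hout, hcard, hkind⟩
  have hle : zpowers x ≤ P := Subgroup.zpowers_le.2 hx
  have hi : ((zpowers x).subgroupOf P).index = 2 := by
    have h := Subgroup.card_mul_index ((zpowers x).subgroupOf P)
    rw [Nat.card_congr (Subgroup.subgroupOfEquivOfLe hle).toEquiv, Nat.card_zpowers, ho, hcard]
      at h
    exact Nat.eq_of_mul_eq_mul_left (show 0 < 2 * m by omega) (by rw [h]; ring)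
  have h := Subgroup.mul_mem_iff_of_index_two hi (a := (⟨u, hu⟩ : P)) (b := (⟨y, hy⟩ : P)⁻¹)
  rw [Subgroup.mem_subgroupOf, Subgroup.mem_subgroupOf, Subgroup.mem_subgroupOf, Subgroup.coe_mul,
    Subgroup.coe_inv, inv_mem_iff] at h
  by_cases hux : u ∈ zpowers x
  · exact Or.inl hux
  · exact Or.inr (h.2 (iff_of_false hux hout))

/-- A quaternion subgroup. -/
theorem exists_quaternion {G : Type u} [Group G] {P : Subgroup G} {n : ℕ} (hn : 3 ≤ n)
    (hP : Nonempty (P ≃* QuaternionGroup (2 ^ (n - 2)))) :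
    ∃ (x y : G) (a : ℕ), MC P x y (2 ^ (n - 2)) a ∧ y * y = x ^ 2 ^ (n - 2) := by
  obtain ⟨e⟩ := hP
  set m := 2 ^ (n - 2) with hm
  have hm2 : 2 ≤ m := le_self_pow₀ (by norm_num : (1 : ℕ) ≤ 2) (by omega)
  haveI : NeZero m := ⟨by omega⟩
  set x : P := e.symm (QuaternionGroup.a 1) with hx
  set y : P := e.symm (QuaternionGroup.xa 0) with hy
  have hsq : (y : G) * y = (x : G) ^ m := by
    rw [← Subgroup.coe_mul, ← SubmonoidClass.coe_pow, hx, hy, ← map_mul, ← map_pow,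
      QuaternionGroup.xa_mul_xa, QuaternionGroup.a_one_pow, add_zero, sub_zero]
  refine ⟨x, y, 2 * m - 1, MC.of_gens hm2 ⟨_, hm⟩ x.2 y.2 ?_ ?_ ?_ (Or.inl ⟨by omega, hsq⟩), hsq⟩
  · rw [Subgroup.orderOf_coe, hx, MulEquiv.orderOf_eq, QuaternionGroup.orderOf_a_one]
  · rw [mul_inv_eq_iff_eq_mul, ← SubmonoidClass.coe_pow, ← Subgroup.coe_mul, ← Subgroup.coe_mul,
      hx, hy, ← map_pow, ← map_mul, ← map_mul, QuaternionGroup.a_one_pow,
      QuaternionGroup.xa_mul_a, QuaternionGroup.a_mul_xa]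
    congr 3
    rw [zero_add, zero_sub, Nat.cast_sub (by omega), Nat.cast_one, ZMod.natCast_self, zero_sub,
      neg_neg]
  · rw [Nat.card_congr e.toEquiv, Nat.card_eq_fintype_card, QuaternionGroup.card]

/-- A semidihedral subgroup. -/
theorem exists_semidihedral {G : Type u} [Group G] {P : Subgroup G} {n : ℕ}
    (hcard : Nat.card P = 2 ^ n) (hsd : IsQuasiDihedral P) :
    ∃ (x y : G) (a : ℕ), MC P x y (2 ^ (n - 2)) a ∧ y * y = 1 := by
  obtain ⟨k, hk, hc, x, y, hx, hy, hr⟩ := hsd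
  have hn : n = k + 1 := Nat.pow_right_injective le_rfl (hcard.symm.trans hc)
  subst hn
  rw [show k + 1 - 2 = k - 1 by omega]
  have h2 : 2 ^ k = 2 * 2 ^ (k - 1) := by rw [← pow_succ', show k - 1 + 1 = k by omega]
  have h4 : 4 ∣ 2 ^ (k - 1) := ⟨2 ^ (k - 3), by
    rw [show (4 : ℕ) = 2 ^ 2 by norm_num, ← pow_add, show 2 + (k - 3) = k - 1 by omega]⟩
  have hpos : 0 < 2 ^ (k - 1) := by positivity
  have hsq : (y : G) * y = 1 := by
    rw [← Subgroup.coe_mul, ← sq, orderOf_dvd_iff_pow_eq_one.1 hy.dvd, Subgroup.coe_one]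
  refine ⟨x, y, 2 ^ (k - 1) - 1, MC.of_gens (Nat.le_of_dvd hpos h4 |>.trans' (by norm_num))
    ⟨_, rfl⟩ x.2 y.2 ?_ ?_ ?_ (Or.inr ⟨Nat.sub_add_cancel hpos, hsq, h4⟩), hsq⟩
  · rw [Subgroup.orderOf_coe, hx, h2]
  · have := congrArg (Subtype.val : P → G) hr
    simpa using this
  · rw [hc, pow_succ, h2]
    ring

end Cfsg.Agent.Lib.MaxClassDefect
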