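import Mathlib

/-!
# Quaternion and semidihedral subgroups in coordinates
-/

set_option autoImplicit false

namespace Cfsg.Agent.Lib.MaxClassDefect

open Subgroup (zpowers mem_zpowers)

universe u

/-- The two kinds of extensions considered. -/
def Kind (m a : ℕ) (sq1 : Prop) (sqz : Prop) : Prop :=
  (a + 1 = 2 * m ∧ sqz) ∨ (a + 1 = m ∧ sq1 ∧ 4 ∣ m)

/-- `P` has a cyclic subgroup `⟨x⟩` of order `2m`; it is quaternion or semidihedral. -/
structure MC {G : Type u} [Group G] (P : Subgroup G) (x y : G) (m a : ℕ) : Prop where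
  two_le : 2 ≤ m
  isPow : ∃ e, m = 2 ^ e
  x_mem : x ∈ P
  y_mem : y ∈ P
  orderx : orderOf x = 2 * m
  rel : y * x * y⁻¹ = x ^ a
  decomp : ∀ u ∈ P, u ∈ zpowers x ∨ u * y⁻¹ ∈ zpowers x
  y_notMem : y ∉ zpowers x
  card : Nat.card P = 4 * m
  kind : Kind m a (y * y = 1) (y * y = x ^ m)

/-- The power of `x` with exponent a residue. -/
def rot {G : Type u} [Group G] (x : G) {N : ℕ} (i : ZMod N) : G := x ^ i.val

namespace MC

variable {G : Type u} [Group G] {P : Subgroup G} {x y : G} {m a : ℕ} (D : MC P x y m a)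
include D

theorem m_pos : 0 < m := by have := D.two_le; omega

theorem neZero : NeZero (2 * m) := ⟨by have := D.two_le; omega⟩

theorem even_m : 2 ∣ m := by
  obtain ⟨e, rfl⟩ := D.isPow
  rcases e with _ | e
  · exact absurd D.two_le (by norm_num)
  · exact dvd_pow_self 2 (by omega)

theorem pow_eq_pow {i j : ℕ} : x ^ i = x ^ j ↔ (i : ZMod (2 * m)) = j := by
  rw [pow_eq_pow_iff_modEq, D.orderx, ZMod.natCast_eq_natCast_iff]

theorem rot_natCast (i : ℕ) : rot x (i : ZMod (2 * m)) = x ^ i := by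
  haveI := D.neZero
  rw [rot, D.pow_eq_pow, ZMod.natCast_zmod_val]

theorem rot_add (i j : ZMod (2 * m)) : rot x (i + j) = rot x i * rot x j := by
  haveI := D.neZero
  rw [rot, rot, rot, ← pow_add, D.pow_eq_pow]
  push_cast
  simp only [ZMod.natCast_zmod_val]

theorem rot_zero : rot x (0 : ZMod (2 * m)) = 1 := by
  rw [← Nat.cast_zero, D.rot_natCast, pow_zero]

theorem rot_neg (i : ZMod (2 * m)) : rot x (-i) = (rot x i)⁻¹ :=
  eq_inv_of_mul_eq_one_left (by rw [← D.rot_add, neg_add_cancel, D.rot_zero])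

theorem rot_injective : Function.Injective (rot x : ZMod (2 * m) → G) := by
  haveI := D.neZero
  intro i j h
  have := D.pow_eq_pow.1 h
  simpa using this

theorem rot_mem_zpowers (i : ZMod (2 * m)) : rot x i ∈ zpowers x :=
  pow_mem (mem_zpowers x) _

theorem rot_mem (i : ZMod (2 * m)) : rot x i ∈ P := pow_mem D.x_mem _

theorem exists_rot {u : G} (hu : u ∈ zpowers x) : ∃ i : ZMod (2 * m), rot x i = u := by
  obtain ⟨k, rfl⟩ := hu
  haveI := D.neZero
  refine ⟨(k : ZMod (2 * m)), ?_⟩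
  show x ^ ((k : ZMod (2 * m)).val) = x ^ k
  rw [← zpow_natCast, ZMod.val_intCast, ← D.orderx, zpow_mod_orderOf]

/-! ### The residues -/

theorem cast_two_m : ((2 : ZMod (2 * m)) * (m : ZMod (2 * m))) = 0 := by
  have h := ZMod.natCast_self (2 * m)
  push_cast at h
  exact h

theorem m_ne_zero : (m : ZMod (2 * m)) ≠ 0 := fun h => by
  have := Nat.le_of_dvd D.m_pos ((ZMod.natCast_eq_zero_iff _ _).1 h)
  have := D.m_pos
  omega

theorem neg_m : -(m : ZMod (2 * m)) = m := by
  have h := D.cast_two_m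
  linear_combination -h

theorem two_mul_eq_zero {i : ZMod (2 * m)} : 2 * i = 0 ↔ i = 0 ∨ i = (m : ZMod (2 * m)) := by
  haveI := D.neZero
  refine ⟨fun h => ?_, ?_⟩
  · replace h : 2 * m ∣ 2 * i.val := by
      rw [← ZMod.natCast_eq_zero_iff]
      push_cast
      rwa [ZMod.natCast_zmod_val]
    have hlt := ZMod.val_lt i
    obtain ⟨c, hc⟩ := h
    rcases c with _ | _ | c
    · exact Or.inl ((ZMod.val_eq_zero i).1 (by omega))
    · refine Or.inr ?_
      rw [← ZMod.natCast_zmod_val i, show i.val = m by omega]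
    · rw [show 2 * m * (c + 1 + 1) = 2 * m * c + 4 * m by ring] at hc
      omega
  · rintro (rfl | rfl)
    · exact mul_zero _
    · exact D.cast_two_m

/-- The twist `1 - a` is twice a unit. -/
theorem exists_unit : ∃ c : (ZMod (2 * m))ˣ, (1 : ZMod (2 * m)) - a = 2 * c := by
  obtain ⟨e, he⟩ := D.isPow
  rcases D.kind with ⟨ha, -⟩ | ⟨ha, -, h4⟩
  · refine ⟨1, ?_⟩
    have h : ((a : ZMod (2 * m)) + 1) = 0 := by
      rw [← Nat.cast_one, ← Nat.cast_add, ha, ZMod.natCast_self]
    rw [Units.val_one]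
    linear_combination -h
  · obtain ⟨q, hq⟩ := h4
    have hu : IsUnit ((2 * q - 1 : ℕ) : ZMod (2 * m)) := by
      rw [ZMod.isUnit_iff_coprime, he, ← pow_succ']
      refine Nat.Coprime.pow_right _ ?_
      have := D.m_pos
      exact (Nat.prime_two.coprime_iff_not_dvd.2 (by omega)).symm
    refine ⟨-hu.unit, ?_⟩
    have h : ((a : ℕ) : ZMod (2 * m)) + 1 = (2 * (2 * q - 1) + 2 : ℕ) := by
      rw [← Nat.cast_one (R := ZMod (2 * m)), ← Nat.cast_add]
      congr 1
      have := D.m_pos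
      omega
    push_cast [Units.val_neg, IsUnit.unit_spec] at h ⊢
    linear_combination -h

/-- The twist fixes only `0` and `m`. -/
theorem fixed_iff {i : ZMod (2 * m)} : (a : ZMod (2 * m)) * i = i ↔ i = 0 ∨ i = (m : ZMod (2 * m)) := by
  obtain ⟨c, hc⟩ := D.exists_unit
  rw [← D.two_mul_eq_zero, ← sub_eq_zero (a := (a : ZMod (2 * m)) * i)]
  have h1 : (a : ZMod (2 * m)) * i - i = c * (-(2 * i)) := by linear_combination -i * hc
  rw [h1, IsUnit.mul_right_eq_zero c.isUnit, neg_eq_zero]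

theorem sq_eq_one : (a : ZMod (2 * m)) * a = 1 := by
  rcases D.kind with ⟨ha, -⟩ | ⟨ha, -, h4⟩
  · have h : ((a : ZMod (2 * m)) + 1) = 0 := by
      rw [← Nat.cast_one, ← Nat.cast_add, ha, ZMod.natCast_self]
    linear_combination ((a : ZMod (2 * m)) - 1) * h
  · obtain ⟨q, hq⟩ := h4
    have h : ((a : ZMod (2 * m)) + 1) = (m : ZMod (2 * m)) := by
      rw [← Nat.cast_one, ← Nat.cast_add, ha]
    have hm2 : (m : ZMod (2 * m)) * (m : ZMod (2 * m)) = 0 := by
      rw [← Nat.cast_mul, ZMod.natCast_eq_zero_iff]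
      exact ⟨2 * q, by rw [hq]; ring⟩
    linear_combination ((a : ZMod (2 * m)) - 1) * h + hm2 - D.cast_two_m + (m : ZMod (2 * m)) * h

theorem twist_twist (i : ZMod (2 * m)) : (a : ZMod (2 * m)) * (a * i) = i := by
  rw [← mul_assoc, D.sq_eq_one, one_mul]

theorem twist_m : (a : ZMod (2 * m)) * (m : ZMod (2 * m)) = m := D.fixed_iff.2 (Or.inr rfl)

/-! ### The products -/

theorem conj_rot (i : ZMod (2 * m)) : y * rot x i * y⁻¹ = rot x ((a : ZMod (2 * m)) * i) := by
  haveI := D.neZero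
  conv_rhs => rw [← ZMod.natCast_zmod_val i, ← Nat.cast_mul, D.rot_natCast]
  rw [rot, ← conj_pow, D.rel, ← pow_mul]

theorem comm_rot (i j : ZMod (2 * m)) : rot x i * rot x j = rot x j * rot x i := by
  rw [← D.rot_add, ← D.rot_add, add_comm]

theorem cases_mem {u : G} (hu : u ∈ P) :
    (∃ i : ZMod (2 * m), rot x i = u) ∨ ∃ i : ZMod (2 * m), rot x i * y = u := by
  rcases D.decomp u hu with h | h
  · exact Or.inl (D.exists_rot h)
  · obtain ⟨i, hi⟩ := D.exists_rot h
    exact Or.inr ⟨i, by rw [hi, inv_mul_cancel_right]⟩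

theorem out_notMem (i : ZMod (2 * m)) : rot x i * y ∉ zpowers x := fun h => D.y_notMem (by
  have := mul_mem (inv_mem (D.rot_mem_zpowers i)) h
  rwa [inv_mul_cancel_left] at this)

theorem rot_ne_out (i j : ZMod (2 * m)) : rot x i ≠ rot x j * y := fun h =>
  D.out_notMem j (h ▸ D.rot_mem_zpowers i)

theorem out_mem (i : ZMod (2 * m)) : rot x i * y ∈ P := mul_mem (D.rot_mem i) D.y_mem

theorem out_injective {i j : ZMod (2 * m)} (h : rot x i * y = rot x j * y) : i = j :=
  D.rot_injective (mul_right_cancel h)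

theorem out_conj_rot (i j : ZMod (2 * m)) :
    (rot x i * y) * rot x j * (rot x i * y)⁻¹ = rot x ((a : ZMod (2 * m)) * j) := by
  rw [mul_inv_rev, show rot x i * y * rot x j * (y⁻¹ * (rot x i)⁻¹) =
    rot x i * (y * rot x j * y⁻¹) * (rot x i)⁻¹ by group, D.conj_rot, D.comm_rot,
    mul_inv_cancel_right]

theorem rot_conj_out (i j : ZMod (2 * m)) :
    rot x j * (rot x i * y) * (rot x j)⁻¹ =
      rot x (i + (1 - (a : ZMod (2 * m))) * j) * y := by
  rw [show rot x j * (rot x i * y) * (rot x j)⁻¹ =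
      rot x j * rot x i * (y * rot x (-j) * y⁻¹) * y by rw [D.rot_neg]; group, D.conj_rot,
    ← D.rot_add, ← D.rot_add]
  congr 2
  ring

theorem y_conj_out (i : ZMod (2 * m)) :
    y * (rot x i * y) * y⁻¹ = rot x ((a : ZMod (2 * m)) * i) * y := by
  rw [← D.conj_rot]
  group

theorem out_sq (i : ZMod (2 * m)) :
    (rot x i * y) * (rot x i * y) = rot x ((1 + (a : ZMod (2 * m))) * i) * (y * y) := by
  rw [show (rot x i * y) * (rot x i * y) = rot x i * (y * rot x i * y⁻¹) * (y * y) by group,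
    D.conj_rot, ← D.rot_add]
  congr 2
  ring

theorem z_comm {u : G} (hu : u ∈ P) :
    u * rot x (m : ZMod (2 * m)) = rot x (m : ZMod (2 * m)) * u := by
  rcases D.cases_mem hu with ⟨i, rfl⟩ | ⟨i, rfl⟩
  · exact D.comm_rot _ _
  · refine mul_inv_eq_iff_eq_mul.1 ?_
    rw [D.out_conj_rot, D.twist_m]

theorem commute_out {i j : ZMod (2 * m)} :
    rot x j * (rot x i * y) = (rot x i * y) * rot x j ↔ j = 0 ∨ j = (m : ZMod (2 * m)) := by
  rw [← D.fixed_iff, eq_comm, ← mul_inv_eq_iff_eq_mul, D.out_conj_rot,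
    D.rot_injective.eq_iff]

theorem out_conj_class (i j : ZMod (2 * m)) (h : ∃ k, j - i = 2 * k) :
    ∃ s ∈ P, s * (rot x i * y) * s⁻¹ = rot x j * y := by
  obtain ⟨k, hk⟩ := h
  obtain ⟨c, hc⟩ := D.exists_unit
  refine ⟨rot x (((c⁻¹ : (ZMod (2 * m))ˣ) : ZMod (2 * m)) * k), D.rot_mem _, ?_⟩
  rw [D.rot_conj_out, hc, mul_assoc, ← mul_assoc (c : ZMod (2 * m)), Units.mul_inv, one_mul, ← hk,
    add_sub_cancel]

theorem exists_two_mul_or (i : ZMod (2 * m)) :
    (∃ k, i = 2 * k) ∨ ∃ k, i = 2 * k + 1 := by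
  haveI := D.neZero
  rcases Nat.even_or_odd' i.val with ⟨k, hk | hk⟩
  · exact Or.inl ⟨k, by rw [← ZMod.natCast_zmod_val i, hk]; push_cast; rfl⟩
  · exact Or.inr ⟨k, by rw [← ZMod.natCast_zmod_val i, hk]; push_cast; rfl⟩

/-- Up to conjugation in `P` there are two outer elements. -/
theorem out_two_classes (i : ZMod (2 * m)) :
    (∃ s ∈ P, s * y * s⁻¹ = rot x i * y) ∨ ∃ s ∈ P, s * (x * y) * s⁻¹ = rot x i * y := by
  rcases D.exists_two_mul_or i with ⟨k, hk⟩ | ⟨k, hk⟩
  · left
    have h := D.out_conj_class 0 i ⟨k, by rw [sub_zero, hk]⟩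
    rwa [D.rot_zero, one_mul] at h
  · right
    have h := D.out_conj_class 1 i ⟨k, by rw [hk]; ring⟩
    rwa [show rot x (1 : ZMod (2 * m)) = x by rw [← Nat.cast_one, D.rot_natCast, pow_one]] at h

/-- The centraliser in `P` of an outer element has order four. -/
theorem card_centralizer_out (i : ZMod (2 * m)) :
    Nat.card (P ⊓ Subgroup.centralizer ({rot x i * y} : Set G) : Subgroup G) = 4 := by
  classical
  set u := rot x i * y
  set z := rot x (m : ZMod (2 * m))
  have hz1 : z ≠ 1 := fun h => D.m_ne_zero (D.rot_injective (h.trans D.rot_zero.symm))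
  have hset : ((P ⊓ Subgroup.centralizer ({u} : Set G) : Subgroup G) : Set G) =
      ↑({1, z, u, z * u} : Finset G) := by
    ext v
    simp only [SetLike.mem_coe, Subgroup.mem_inf, Subgroup.mem_centralizer_singleton_iff,
      Finset.coe_insert, Finset.coe_singleton, Set.mem_insert_iff, Set.mem_singleton_iff]
    constructor
    · rintro ⟨hv, hvu⟩
      rcases D.cases_mem hv with ⟨j, rfl⟩ | ⟨j, rfl⟩
      · rcases D.commute_out.1 hvu with rfl | rfl
        · exact Or.inl D.rot_zero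
        · exact Or.inr (Or.inl rfl)
      · have e : rot x j * y = rot x (j - i) * u := by
          rw [← mul_assoc, ← D.rot_add, sub_add_cancel]
        rw [e] at hvu ⊢
        rcases D.commute_out.1 (mul_right_cancel (b := u) (hvu.trans (mul_assoc _ _ _).symm))
          with h | h <;> rw [h]
        · exact Or.inr (Or.inr (Or.inl (by rw [D.rot_zero, one_mul])))
        · exact Or.inr (Or.inr (Or.inr rfl))
    · have hz := D.z_comm (D.out_mem i)
      rintro (rfl | rfl | rfl | rfl)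
      · exact ⟨one_mem P, by simp⟩
      · exact ⟨D.rot_mem _, hz.symm⟩
      · exact ⟨D.out_mem i, rfl⟩
      · exact ⟨mul_mem (D.rot_mem _) (D.out_mem i), by rw [← mul_assoc u, hz]⟩
  rw [← SetLike.coe_sort_coe, hset, Nat.card_coe_set_eq, Set.ncard_coe_finset]
  have n1 : z ≠ u := D.rot_ne_out _ _
  have n2 : (1 : G) ≠ u := D.rot_zero ▸ D.rot_ne_out _ _
  have n3 : (1 : G) ≠ z * u := fun h => D.rot_ne_out 0 (m + i) (by rw [D.rot_zero, h, D.rot_add, mul_assoc])
  have n4 : z ≠ z * u := fun h => n2 (mul_left_cancel ((mul_one z).trans h))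
  have n5 : u ≠ z * u := fun h => hz1 (mul_eq_right.1 h.symm)
  simp [hz1.symm, n1, n2, n3, n4, n5]

/-- The centraliser in `P` of a non-central rotation is the cyclic subgroup. -/
theorem centralizer_rot {i : ZMod (2 * m)} (h0 : i ≠ 0) (hm : i ≠ (m : ZMod (2 * m))) :
    P ⊓ Subgroup.centralizer ({rot x i} : Set G) = zpowers x := by
  ext v
  rw [Subgroup.mem_inf, Subgroup.mem_centralizer_singleton_iff]
  constructor
  · rintro ⟨hv, hvu⟩
    rcases D.cases_mem hv with ⟨j, rfl⟩ | ⟨j, rfl⟩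
    · exact D.rot_mem_zpowers j
    · exact absurd (D.commute_out.1 hvu.symm) (by rintro (h | h) <;> contradiction)
  · intro hv
    obtain ⟨j, rfl⟩ := D.exists_rot hv
    exact ⟨D.rot_mem j, D.comm_rot _ _⟩

end MC

end Cfsg.Agent.Lib.MaxClassDefect
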