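import Cfsg.Agent.Lib.MaxClassDefect.Group
import Cfsg.Agent.Lib.DihedralDefect.Main
import Cfsg.Agent.Lib.BlockUnion.Quotient
import Cfsg.Agent.Lib.NilBlock.Main
import Mathlib

/-!
# The members trivial on a central involution
-/

set_option autoImplicit false
set_option linter.unusedSectionVars false
set_option linter.style.haveILetI false

namespace Cfsg.Agent.Lib.MaxClassDefect

open Cfsg
open Cfsg.Agent.Lib
open Cfsg.Agent.Lib.BrauerPairs
open Subgroup (zpowers mem_zpowers)

universe u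

attribute [local instance] Classical.propDecidable

variable {G : Type u} [Group G] [Fintype G] {M : Ideal AlgInt} [M.IsPrime]
  {B : Set (IrrCharacter G)} {b : BrauerPairIdx G} {x y : G} {m a : ℕ}

/-- The quotient of the defect group by its central involution is dihedral. -/
theorem MC.dih_quot {P : Subgroup G} (D : MC P x y m a) (hm : 4 ≤ m)
    {N : Subgroup G} [N.Normal] (hN : N = zpowers (x ^ m)) :
    DihedralDefect.Dih (P.map (QuotientGroup.mk' N)) (QuotientGroup.mk' N x)
      (QuotientGroup.mk' N y) (m / 2) := by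
  have heven := D.even_m
  have hxm : orderOf (x ^ m) = 2 := by
    rw [orderOf_pow' x (by omega), D.orderx, Nat.gcd_eq_right (dvd_mul_left m 2),
      Nat.mul_div_cancel _ (by omega)]
  have hmem : ∀ k : ℕ, x ^ k ∈ N ↔ m ∣ k := by
    intro k
    constructor
    · intro hk
      rw [hN, mem_zpowers_iff_mem_range_orderOf, hxm] at hk
      obtain ⟨i, -, hi⟩ := Finset.mem_image.1 hk
      rw [← pow_mul, pow_eq_pow_iff_modEq, D.orderx] at hi
      exact (Nat.ModEq.dvd_iff hi (dvd_mul_left m 2)).1 (dvd_mul_right m i)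
    · rintro ⟨c, rfl⟩
      rw [hN, pow_mul]
      exact pow_mem (mem_zpowers _) c
  have hNx : N ≤ zpowers x := by
    rw [hN, Subgroup.zpowers_le]
    exact pow_mem (mem_zpowers x) m
  have hyy : y * y ∈ N := by
    rcases D.kind with ⟨-, e⟩ | ⟨-, e, -⟩ <;> rw [e]
    · exact (hmem m).2 dvd_rfl
    · exact one_mem _
  have hout : QuotientGroup.mk' N y ∉ zpowers (QuotientGroup.mk' N x) := by
    rintro ⟨i, hi⟩
    refine D.y_notMem ?_
    have h : (x ^ i)⁻¹ * y ∈ N := by
      rw [← QuotientGroup.eq]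
      exact (QuotientGroup.mk_zpow N x i).trans hi
    have := mul_mem (zpow_mem (mem_zpowers x) i) (hNx h)
    rwa [mul_inv_cancel_left] at this
  constructor
  · omega
  · obtain ⟨e, he⟩ := D.isPow
    refine ⟨e - 1, ?_⟩
    rcases e with _ | e
    · omega
    · rw [he, pow_succ, Nat.mul_div_cancel _ (by norm_num), Nat.add_sub_cancel]
  · exact ⟨x, D.x_mem, rfl⟩
  · exact ⟨y, D.y_mem, rfl⟩
  · rw [Nat.mul_div_cancel' heven]
    refine (orderOf_eq_iff (by omega)).2 ⟨?_, fun k hk hk0 h => ?_⟩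
    · rw [← map_pow, QuotientGroup.mk'_apply, QuotientGroup.eq_one_iff]
      exact (hmem m).2 dvd_rfl
    · rw [← map_pow, QuotientGroup.mk'_apply, QuotientGroup.eq_one_iff] at h
      have := Nat.le_of_dvd hk0 ((hmem k).1 h)
      omega
  · rw [← map_mul, QuotientGroup.mk'_apply, QuotientGroup.eq_one_iff]
    exact hyy
  · refine mul_eq_one_iff_eq_inv.1 ?_
    rw [← map_mul, ← map_mul, ← map_mul, QuotientGroup.mk'_apply, QuotientGroup.eq_one_iff,
      show y * x * y * x = (y * x * y⁻¹) * (y * y) * x by group, D.rel]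
    have hc : x ^ a * (y * y) * x = x ^ (a + 1) * (y * y) := by
      have hyx : y * y * x = x * (y * y) := by
        rcases D.kind with ⟨-, e⟩ | ⟨-, e, -⟩ <;> rw [e]
        · exact ((Commute.refl x).pow_left m).eq
        · rw [one_mul, mul_one]
      rw [mul_assoc, hyx, ← mul_assoc, ← pow_succ]
    rw [hc]
    refine mul_mem ((hmem _).2 ?_) hyy
    rcases D.kind with ⟨h, -⟩ | ⟨h, -, -⟩ <;> rw [h]
    exact dvd_mul_left m 2
  · rintro _ ⟨u, hu, rfl⟩
    rcases D.decomp u hu with h | h
    · obtain ⟨i, rfl⟩ := h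
      exact Or.inl ⟨i, (map_zpow _ _ _).symm⟩
    · right
      obtain ⟨i, hi⟩ := h
      refine ⟨(a : ℤ) * i, ?_⟩
      have hi' : x ^ i = u * y⁻¹ := hi
      have hu' : u = x ^ i * y := by rw [hi', inv_mul_cancel_right]
      have hyy1 : QuotientGroup.mk' N (y * y) = 1 := by
        rw [QuotientGroup.mk'_apply, QuotientGroup.eq_one_iff]
        exact hyy
      show QuotientGroup.mk' N x ^ ((a : ℤ) * i) = QuotientGroup.mk' N y * QuotientGroup.mk' N u
      rw [← map_mul, hu', ← map_zpow, zpow_mul, zpow_natCast, ← D.rel, conj_zpow,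
        show y * (x ^ i * y) = y * x ^ i * y⁻¹ * (y * y) by group, map_mul _ (y * x ^ i * y⁻¹),
        hyy1, mul_one]
  · exact hout
  · have hcN : Nat.card N = 2 := by rw [hN, Nat.card_zpowers, hxm]
    have hker : ((QuotientGroup.mk' N).domRestrict P).ker = N.subgroupOf P := by
      rw [MonoidHom.ker_domRestrict, QuotientGroup.ker_mk']
    have hNP : N ≤ P := hNx.trans (Subgroup.zpowers_le.2 D.x_mem)
    have h := Subgroup.card_eq_card_quotient_mul_card_subgroup (N.subgroupOf P)
    rw [Nat.card_congr (Subgroup.subgroupOfEquivOfLe hNP).toEquiv, hcN, D.card, ← hker,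
      Nat.card_congr (QuotientGroup.quotientKerEquivRange _).toEquiv,
      MonoidHom.domRestrict_range] at h
    omega

/-- At least `m / 2 + 3` members are trivial on the central involution. -/
theorem card_trivial_centre (hM : IsPModular 2 M) (hmax : IsMaximalBrauerPair 2 M B b.1 b.2)
    (D : MC b.1 x y m a) (hm : 4 ≤ m) (hz : x ^ m ∈ Subgroup.center G) :
    m / 2 + 3 ≤ (B.toFinset.filter fun χ : IrrCharacter G =>
      (χ : G → ℂ) (x ^ m) = (χ : G → ℂ) 1).card := by
  haveI := Fact.mk Nat.prime_two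
  set N := zpowers (x ^ m) with hN
  haveI : N.Normal := ⟨fun n hn g => by
    have hc : n ∈ Subgroup.center G := (Subgroup.zpowers_le.2 hz) hn
    rw [Subgroup.mem_center_iff.1 hc g, mul_inv_cancel_right]
    exact hn⟩
  have hxm : orderOf (x ^ m) = 2 := by
    rw [orderOf_pow' x (by omega), D.orderx, Nat.gcd_eq_right (dvd_mul_left m 2),
      Nat.mul_div_cancel _ (by omega)]
  have hNp : IsPGroup 2 N := IsPGroup.of_card (n := 1) (by rw [Nat.card_zpowers, hxm, pow_one])
  have hB := hmax.1.2.1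
  obtain ⟨Bbar, hBbar, hinf, hdef⟩ := BlockUnion.exists_block_quot N hM hNp hB
  have hD : IsDefectGroup 2 M Bbar (b.1.map (QuotientGroup.mk' N)) :=
    (hdef _).2 ⟨b.1, isDefectGroup_of_isMaximal hM hmax, rfl⟩
  haveI := Fintype.ofFinite (G ⧸ N)
  obtain ⟨e, he⟩ := NilBlock.exists_maximal hM hBbar hD
  obtain ⟨hcard, -⟩ := DihedralDefect.invariants hM (b := ⟨b.1.map (QuotientGroup.mk' N), e⟩) he
    (D.dih_quot hm hN)
  rw [← hcard, Nat.card_eq_fintype_card, ← Set.toFinset_card]
  refine Finset.card_le_card_of_injOn (Chars.inflate N) (fun φ hφ => ?_) fun φ _ φ' _ h => ?_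
  · refine Finset.mem_coe.2 (Finset.mem_filter.2
      ⟨Set.mem_toFinset.2 (hinf φ (Set.mem_toFinset.1 hφ)), ?_⟩)
    show (φ : G ⧸ N → ℂ) ((x ^ m : G) : G ⧸ N) = (φ : G ⧸ N → ℂ) ((1 : G) : G ⧸ N)
    rw [(QuotientGroup.eq_one_iff _).2 (mem_zpowers (x ^ m)), QuotientGroup.mk_one]
  · refine Subtype.ext (funext fun q => ?_)
    obtain ⟨g, rfl⟩ := QuotientGroup.mk_surjective q
    exact congrFun (congrArg Subtype.val h) g

end Cfsg.Agent.Lib.MaxClassDefect
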