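import Cfsg.Agent.Lib.MaxClassDefect.Central
import Cfsg.Agent.Lib.MaxClassDefect.Quotient
import Mathlib

/-!
# The centraliser of the central involution of the defect group
-/

set_option autoImplicit false
set_option linter.unusedSectionVars false
set_option linter.style.haveILetI false

namespace Cfsg.Agent.Lib.MaxClassDefect

open Cfsg
open Cfsg.Agent.Lib
open Cfsg.Agent.Lib.BrauerPairs
open Cfsg.Agent.Lib.NilBlock (bu bu_fst)
open Subgroup (zpowers mem_zpowers)

universe u

attribute [local instance] Classical.propDecidable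

variable {G : Type u} [Group G] [Fintype G] {M : Ideal AlgInt} [M.IsPrime]
  {B : Set (IrrCharacter G)} {b : BrauerPairIdx G} {x y : G} {m a : ℕ}

/-- Pairs with the same subgroup and the same functions are equal. -/
theorem pair_ext {c d : BrauerPairIdx G} (h1 : c.1 = d.1)
    (h2 : ∀ ξ ∈ c.2, ∃ ξ' ∈ d.2, ∀ (s : Subgroup.centralizer (c.1 : Set G))
      (s' : Subgroup.centralizer (d.1 : Set G)), (s : G) = s' →
        (ξ : _ → ℂ) s = (ξ' : _ → ℂ) s')
    (h3 : ∀ ξ' ∈ d.2, ∃ ξ ∈ c.2, ∀ (s : Subgroup.centralizer (c.1 : Set G))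
      (s' : Subgroup.centralizer (d.1 : Set G)), (s : G) = s' →
        (ξ : _ → ℂ) s = (ξ' : _ → ℂ) s') : c = d := by
  obtain ⟨Q, e⟩ := c
  obtain ⟨Q', e'⟩ := d
  obtain rfl : Q = Q' := h1
  obtain rfl : e = e' := by
    ext ξ
    refine ⟨fun hξ => ?_, fun hξ => ?_⟩
    · obtain ⟨ξ', hξ', hv⟩ := h2 ξ hξ
      obtain rfl : ξ = ξ' := Subtype.ext (funext fun s => hv s s rfl)
      exact hξ'
    · obtain ⟨ξ', hξ', hv⟩ := h3 ξ hξ
      obtain rfl : ξ' = ξ := Subtype.ext (funext fun s => hv s s rfl)
      exact hξ'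
  rfl

theorem upPair_injective {H : Subgroup G} {c d : BrauerPairIdx H}
    (hC : Subgroup.centralizer ((c.1.map H.subtype : Subgroup G) : Set G) ≤ H)
    (hD : Subgroup.centralizer ((d.1.map H.subtype : Subgroup G) : Set G) ≤ H)
    (h : upPair c hC = upPair d hD) : c = d := by
  obtain ⟨Q, e⟩ := c
  obtain ⟨Q', e'⟩ := d
  obtain rfl : Q = Q' := Subgroup.map_injective H.subtype_injective (congrArg Sigma.fst h)
  obtain rfl : e = e' := Set.image_injective.2 (Chars.irrCongr _).injective
    (eq_of_heq (Sigma.mk.inj_iff.1 h).2)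
  rfl

theorem map_conj_map_subtype {H : Subgroup G} (Q : Subgroup H) (g : H) :
    (Q.map (MulAut.conj g).toMonoidHom).map H.subtype =
      (Q.map H.subtype).map (MulAut.conj (g : G)).toMonoidHom := by
  rw [Subgroup.map_map, Subgroup.map_map]
  rfl

theorem upPair_conj {H : Subgroup G} (c : BrauerPairIdx H) (g : H)
    (hC : Subgroup.centralizer ((c.1.map H.subtype : Subgroup G) : Set G) ≤ H)
    (hC' : Subgroup.centralizer (((conjPair g c).1.map H.subtype : Subgroup G) : Set G) ≤ H) :
    upPair (conjPair g c) hC' = conjPair (g : G) (upPair c hC) := by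
  refine pair_ext (map_conj_map_subtype c.1 g) (fun ξ hξ => ?_) fun ξ' hξ' => ?_
  · obtain ⟨η, hη, rfl⟩ := hξ
    change η ∈ conjBlock c.1 g c.2 at hη
    rw [conjBlock_eq_image] at hη
    obtain ⟨η₀, hη₀, rfl⟩ := hη
    refine ⟨Chars.irrCongr (centEquiv (upPair c hC).1 (g : G)).symm
      (Chars.irrCongr (KernelCore.centEquivSub rfl hC) η₀), ?_, fun s s' hss => ?_⟩
    · show _ ∈ conjBlock (upPair c hC).1 (g : G) (upPair c hC).2
      rw [conjBlock_eq_image]
      exact ⟨_, ⟨η₀, hη₀, rfl⟩, rfl⟩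
    · simp only [BrauerMap.irrCongr_apply]
      refine congrArg _ (Subtype.ext (Subtype.ext ?_))
      show (g : G)⁻¹ * (s : G) * g = (g : G)⁻¹ * (s' : G) * g
      rw [hss]
  · change ξ' ∈ conjBlock (upPair c hC).1 (g : G) (upPair c hC).2 at hξ'
    rw [conjBlock_eq_image] at hξ'
    obtain ⟨_, ⟨η₀, hη₀, rfl⟩, rfl⟩ := hξ'
    refine ⟨Chars.irrCongr (KernelCore.centEquivSub rfl hC')
      (Chars.irrCongr (centEquiv c.1 g).symm η₀), ⟨_, ?_, rfl⟩, fun s s' hss => ?_⟩
    · show _ ∈ conjBlock c.1 g c.2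
      rw [conjBlock_eq_image]
      exact ⟨η₀, hη₀, rfl⟩
    · simp only [BrauerMap.irrCongr_apply]
      refine congrArg _ (Subtype.ext (Subtype.ext ?_))
      show (g : G)⁻¹ * (s : G) * g = (g : G)⁻¹ * (s' : G) * g
      rw [hss]

namespace Setting

variable (A : Setting M B b x y m a)
include A

theorem y_ne_xy : y ≠ x * y := fun h => by
  have ho := A.mc.orderx
  rw [mul_eq_right.1 h.symm, orderOf_one] at ho
  have := A.mc.two_le
  omega

theorem card_outReps_eq : (outReps M b x y).card =
    (if ToRot M b x y then 0 else 1) +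
      (if ToRot M b x (x * y) ∨ Fused 2 M b y (x * y) then 0 else 1) := by
  rw [outReps, Finset.card_union_of_disjoint]
  · split_ifs <;> simp
  · have h : x * y ≠ y := A.y_ne_xy.symm
    split_ifs <;> simp only [Finset.disjoint_empty_left, Finset.disjoint_empty_right,
      Finset.disjoint_singleton, ne_eq, h.symm, not_false_eq_true]

theorem xy_sq_sd (hy : y * y = 1) : x * y * (x * y) = invo x m := by
  have h := A.mc.out_sq (1 : ZMod (2 * m))
  rw [show rot x (1 : ZMod (2 * m)) = x by rw [← Nat.cast_one, A.mc.rot_natCast, pow_one]] at h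
  rw [h, hy, mul_one, mul_one, invo]
  rcases A.mc.kind with ⟨-, e⟩ | ⟨ha, -, -⟩
  · exfalso
    refine A.invo_ne_one ?_
    rw [invo, A.mc.rot_natCast, ← e, hy]
  · congr 1
    rw [← Nat.cast_one, ← Nat.cast_add, add_comm 1 a, ha]

theorem sq_out_q (hy : y * y = x ^ m) (i : ZMod (2 * m)) :
    rot x i * y * (rot x i * y) = invo x m := by
  rcases A.mc.kind with ⟨ha, -⟩ | ⟨-, e, -⟩
  · have h : ((1 : ZMod (2 * m)) + a) = 0 := by
      rw [← Nat.cast_one, ← Nat.cast_add, add_comm 1 a, ha, ZMod.natCast_self]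
    rw [A.mc.out_sq, h, zero_mul, A.mc.rot_zero, one_mul, hy, invo, A.mc.rot_natCast]
  · exfalso
    refine A.invo_ne_one ?_
    rw [invo, A.mc.rot_natCast, ← hy, e]

/-- A central involution makes the configuration regular and gives the count. -/
theorem rank_centre (hz : invo x m ∈ Subgroup.center G) :
    blockRank 2 B + (outReps M b x y).card = 3 := by
  haveI := A.mc.neZero
  haveI := Fact.mk Nat.prime_two
  obtain ⟨L, hsymm, hform⟩ := A.exists_rotData
  have hL : Cols M b x m a L := ⟨hsymm, hform⟩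
  obtain ⟨h, hh, hh0⟩ := Blocks.exists_height_zero (p := 2) A.max.1.2.1
  obtain ⟨v, hv⟩ := A.exists_val hh hh0
  rcases (A.gram hL hv).shape A.exists_two_pow_oddReps A.card_evenReps.1 with hR | hS
  · exact A.rank_of_regular hL hz hR
  · exfalso
    obtain ⟨hm, h5⟩ := A.special_central hL hz hS
    have hxm : invo x m = x ^ m := A.mc.rot_natCast m
    have h7 := card_trivial_centre A.modular A.max A.mc (by omega) (hxm ▸ hz)
    have heq : (B.toFinset.filter fun χ : IrrCharacter G =>
        (χ : G → ℂ) (x ^ m) = (χ : G → ℂ) 1) = B.toFinset.filter fun χ => centSign x m χ = 1 := by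
      refine Finset.filter_congr fun χ _ => ?_
      rw [centSign, hxm]
      split_ifs with e <;> simp [e]
    rw [heq] at h7
    have := h5 1
    omega

/-- The rank at the involution and the outer classes. -/
theorem rank_invo :
    (y * y = x ^ m →
      blockRank 2 (bu 2 M b (invo x m)).2 + (outReps M b x y).card = 3) ∧
    (y * y = 1 →
      blockRank 2 (bu 2 M b (invo x m)).2 + (outReps M b x y).card +
          (if ToRot M b x y then 1 else 0) = 3 ∧
        blockRank 2 (bu 2 M b (invo x m)).2 ≤ 2) := by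
  haveI := Fact.mk Nat.prime_two
  have hM := A.modular
  have hPC : b.1 ≤ Subgroup.centralizer ({(invo x m)} : Set G) := fun w hw =>
    Subgroup.mem_centralizer_singleton_iff.2 (A.mc.z_comm hw)
  obtain ⟨f, b', hQf, -, hb', hmax', hrk, hC, hup⟩ := exists_local hM A.max A.invo_mem
    (fun g _ _ => by
      rw [inf_eq_left.2 hPC]
      exact Subgroup.card_le_of_le inf_le_left)
  haveI := Fintype.ofFinite (Subgroup.centralizer (zpowers (invo x m) : Set G))
  have hPK : b.1 ≤ (Subgroup.centralizer (zpowers (invo x m) : Set G)) := hPC.trans (centralizer_zpowers (invo x m)).ge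
  rw [inf_eq_left.2 hPC] at hb'
  have hmemb : ∀ k : (Subgroup.centralizer (zpowers (invo x m) : Set G)), k ∈ b'.1 ↔ (k : G) ∈ b.1 := fun k => by
    rw [hb', Subgroup.mem_subgroupOf]
  set x' : (Subgroup.centralizer (zpowers (invo x m) : Set G)) := ⟨x, hPK A.mc.x_mem⟩ with hx'
  set y' : (Subgroup.centralizer (zpowers (invo x m) : Set G)) := ⟨y, hPK A.mc.y_mem⟩ with hy'
  have hzp : ∀ w : (Subgroup.centralizer (zpowers (invo x m) : Set G)), w ∈ zpowers x' ↔ (w : G) ∈ zpowers x := by
    intro w
    constructor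
    · rintro ⟨i, rfl⟩
      exact ⟨i, by simp [hx']⟩
    · rintro ⟨i, hi⟩
      exact ⟨i, Subtype.ext (by simpa [hx'] using hi)⟩
  have hmc : MC b'.1 x' y' m a := by
    refine ⟨A.mc.two_le, A.mc.isPow, (hmemb _).2 A.mc.x_mem, (hmemb _).2 A.mc.y_mem, ?_, ?_,
      fun w hw => ?_, fun h => A.mc.y_notMem ((hzp _).1 h), ?_, ?_⟩
    · rw [hx', Subgroup.orderOf_mk]
      exact A.mc.orderx
    · exact Subtype.ext A.mc.rel
    · rcases A.mc.decomp _ ((hmemb w).1 hw) with h | h
      · exact Or.inl ((hzp _).2 h)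
      · exact Or.inr ((hzp _).2 h)
    · rw [hb', Nat.card_congr (Subgroup.subgroupOfEquivOfLe hPK).toEquiv, A.mc.card]
    · rcases A.mc.kind with ⟨h1, h2⟩ | ⟨h1, h2, h3⟩
      · exact Or.inl ⟨h1, Subtype.ext h2⟩
      · exact Or.inr ⟨h1, Subtype.ext h2, h3⟩
  have A' : Setting M f b' x' y' m a := ⟨hM, hmax', hmc⟩
  have hcoe : ((invo x' m : (Subgroup.centralizer (zpowers (invo x m) : Set G))) : G) = (invo x m) :=
    SubmonoidClass.coe_pow x' _
  have hz' : invo x' m ∈ Subgroup.center (Subgroup.centralizer (zpowers (invo x m) : Set G)) := Subgroup.mem_center_iff.2 fun k => Subtype.ext (by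
    have hk : (k : G) ∈ Subgroup.centralizer ({(invo x m)} : Set G) := (centralizer_zpowers (invo x m)).le k.2
    rw [Subgroup.coe_mul, Subgroup.coe_mul, hcoe]
    exact Subgroup.mem_centralizer_singleton_iff.1 hk)
  have hsum : blockRank 2 (bu 2 M b (invo x m)).2 + (outReps M b' x' y').card = 3 := by
    rw [← hrk]
    exact A'.rank_centre hz'
  -- the fusion of the elements with square the involution
  have hbu : ∀ {u : (Subgroup.centralizer (zpowers (invo x m) : Set G))}, u ∈ b'.1 → (u : G) * u = (invo x m) → ∃ hCu,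
      upPair (bu 2 M b' u) hCu = bu 2 M b (u : G) := by
    intro u hu hsq
    have huw : (invo x m) ∈ zpowers (u : G) := by
      have h := mul_mem (mem_zpowers (u : G)) (mem_zpowers (u : G))
      rwa [hsq] at h
    exact ⟨_, bu_up hM A.max.1.1 hmax'.1.1 hC hup hu huw⟩
  have hfus : ∀ {u v : (Subgroup.centralizer (zpowers (invo x m) : Set G))}, u ∈ b'.1 → v ∈ b'.1 → (u : G) * u = (invo x m) → (v : G) * v = (invo x m) →
      (Fused 2 M b' u v ↔ Fused 2 M b (u : G) (v : G)) := by
    intro u v hu hv hus hvs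
    obtain ⟨hCu, heu⟩ := hbu hu hus
    obtain ⟨hCv, hev⟩ := hbu hv hvs
    constructor
    · rintro ⟨g, hg1, hg2⟩
      refine ⟨(g : G), by rw [← hg1]; simp, ?_⟩
      rw [← heu, ← upPair_conj _ g hCu (hg2.symm ▸ hCv), ← hev]
      congr 1
    · rintro ⟨g, hg1, hg2⟩
      have hgK : g ∈ (Subgroup.centralizer (zpowers (invo x m) : Set G)) := by
        rw [centralizer_zpowers, Subgroup.mem_centralizer_singleton_iff]
        refine mul_inv_eq_iff_eq_mul.1 ?_
        calc g * (invo x m) * g⁻¹ = (g * (u : G) * g⁻¹) * (g * (u : G) * g⁻¹) :=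
              (congrArg (fun w : G => g * w * g⁻¹) hus.symm).trans (by group)
          _ = (invo x m) := by rw [hg1, hvs]
      refine ⟨⟨g, hgK⟩, Subtype.ext hg1, ?_⟩
      have hC'' : Subgroup.centralizer
          (((conjPair (⟨g, hgK⟩ : (Subgroup.centralizer (zpowers (invo x m) : Set G))) (bu 2 M b' u)).1.map (Subgroup.centralizer (zpowers (invo x m) : Set G)).subtype : Subgroup G) : Set G) ≤ (Subgroup.centralizer (zpowers (invo x m) : Set G)) := by
        refine centralizer_up_zpowers (w := v) (by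
          have h := mul_mem (mem_zpowers (v : G)) (mem_zpowers (v : G))
          rwa [hvs] at h) ?_
        rw [conjPair_fst, bu_fst, MonoidHom.map_zpowers,
          show (MulAut.conj (⟨g, hgK⟩ : (Subgroup.centralizer (zpowers (invo x m) : Set G)))).toMonoidHom u = v from Subtype.ext hg1]
        exact mem_zpowers v
      refine upPair_injective hC'' hCv ?_
      rw [upPair_conj _ _ hCu hC'', heu, hev]
      exact hg2
  have htorot : ∀ {u : (Subgroup.centralizer (zpowers (invo x m) : Set G))}, u ∈ b'.1 → (u : G) * u = (invo x m) →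
      (ToRot M b' x' u ↔ ToRot M b x (u : G)) := by
    intro u hu hus
    have hsq : ∀ {v : G}, v ∈ zpowers x → Fused 2 M b v (u : G) → v * v = (invo x m) := by
      intro v hv hf
      obtain ⟨g, hg, -⟩ := hf
      have hord : orderOf (v * v) = 2 := by
        rw [show v * v = g⁻¹ * ((u : G) * u) * g⁻¹⁻¹ by rw [← hg]; group, hus,
          ← A.orderOf_invo]
        exact (MulAut.conj g⁻¹).orderOf_eq _
      obtain ⟨j, rfl⟩ := A.mc.exists_rot hv
      rw [← A.mc.rot_add] at hord ⊢
      rcases A.orderOf_rot_eq_one_or hord.dvd with e | e <;> rw [e] at hord ⊢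
      · rw [A.mc.rot_zero, orderOf_one] at hord
        omega
      · rfl
    constructor
    · rintro ⟨v, hv, hf⟩
      have hvb : v ∈ b'.1 := (Subgroup.zpowers_le.2 hmc.x_mem) hv
      have hvs : (v : G) * v = (invo x m) := by
        obtain ⟨g, hg, -⟩ := hf
        have hgz : (g : G) * (invo x m) = (invo x m) * g := Subgroup.mem_centralizer_singleton_iff.1
          ((centralizer_zpowers (invo x m)).le g.2)
        have hv' : (v : G) = (g : G)⁻¹ * u * g := by
          rw [← hg, Subgroup.coe_mul, Subgroup.coe_mul, Subgroup.coe_inv]; group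
        rw [hv', show (g : G)⁻¹ * u * g * ((g : G)⁻¹ * u * g) = (g : G)⁻¹ * ((u : G) * u) * g by group,
          hus, mul_assoc, ← hgz, inv_mul_cancel_left]
      exact ⟨v, (hzp v).1 hv, (hfus hvb hu hvs hus).1 hf⟩
    · rintro ⟨v, hv, hf⟩
      have hvP : v ∈ b.1 := Subgroup.zpowers_le.2 A.mc.x_mem hv
      refine ⟨⟨v, hPK hvP⟩, (hzp _).2 hv, (hfus ((hmemb _).2 hvP) hu (hsq hv hf) hus).2 hf⟩
  have hxy' : (((x' * y' : (Subgroup.centralizer (zpowers (invo x m) : Set G)))) : G) = x * y := rfl
  have hxymem : x' * y' ∈ b'.1 := mul_mem hmc.x_mem hmc.y_mem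
  refine ⟨fun hy => ?_, fun hy => ?_⟩
  · have hy2 : (y' : G) * y' = (invo x m) := by
      show y * y = (invo x m)
      have := A.sq_out_q hy 0
      rwa [A.mc.rot_zero, one_mul] at this
    have hxy2 : ((x' * y' : (Subgroup.centralizer (zpowers (invo x m) : Set G))) : G) * (x' * y' : (Subgroup.centralizer (zpowers (invo x m) : Set G))) = (invo x m) := by
      show x * y * (x * y) = (invo x m)
      have := A.sq_out_q hy 1
      rwa [show rot x (1 : ZMod (2 * m)) = x by rw [← Nat.cast_one, A.mc.rot_natCast, pow_one]]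
        at this
    have h1 := htorot hmc.y_mem hy2
    have h2 := htorot hxymem hxy2
    have h3 := hfus hmc.y_mem hxymem hy2 hxy2
    rw [hxy'] at h2 h3
    rw [A'.card_outReps_eq] at hsum
    rw [A.card_outReps_eq]
    simp only [h1, h2, h3] at hsum
    exact hsum
  · have hxy2 : ((x' * y' : (Subgroup.centralizer (zpowers (invo x m) : Set G))) : G) * (x' * y' : (Subgroup.centralizer (zpowers (invo x m) : Set G))) = (invo x m) := A.xy_sq_sd hy
    have h2 := htorot hxymem hxy2
    rw [hxy'] at h2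
    have hnot' : ¬ ToRot M b' x' y' := by
      rintro ⟨v, hv, g, hg, -⟩
      obtain ⟨j, rfl⟩ := hmc.exists_rot hv
      have hv2 : (rot x' j) * (rot x' j) = 1 := by
        have hy1 : y' * y' = 1 := Subtype.ext hy
        rw [show rot x' j = g⁻¹ * y' * g by rw [← hg]; group,
          show g⁻¹ * y' * g * (g⁻¹ * y' * g) = g⁻¹ * (y' * y') * g by group, hy1, mul_one,
          inv_mul_cancel]
      rw [← hmc.rot_add, ← two_mul, ← hmc.rot_zero (x := x')] at hv2
      refine hmc.y_notMem ?_
      rcases hmc.two_mul_eq_zero.1 (hmc.rot_injective hv2) with rfl | rfl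
      · rw [hmc.rot_zero, mul_one, mul_inv_cancel] at hg
        rw [← hg]
        exact one_mem _
      · rw [Subgroup.mem_center_iff.1 (show rot x' (m : ZMod (2 * m)) ∈ Subgroup.center (Subgroup.centralizer (zpowers (invo x m) : Set G)) from hz') g,
          mul_inv_cancel_right] at hg
        rw [← hg]
        exact hmc.rot_mem_zpowers _
    have hnf : ¬ Fused 2 M b y (x * y) := by
      rintro ⟨g, hg, -⟩
      refine A.invo_ne_one ?_
      rw [← A.xy_sq_sd hy, ← hg, show g * y * g⁻¹ * (g * y * g⁻¹) = g * (y * y) * g⁻¹ by group, hy,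
        mul_one, mul_inv_cancel]
    have hnf' : ¬ Fused 2 M b' y' (x' * y') := by
      rintro ⟨g, hg, -⟩
      refine A'.invo_ne_one ?_
      rw [← A'.xy_sq_sd (Subtype.ext hy), ← hg,
        show g * y' * g⁻¹ * (g * y' * g⁻¹) = g * (y' * y') * g⁻¹ by group,
        show y' * y' = 1 from Subtype.ext hy, mul_one, mul_inv_cancel]
    rw [A'.card_outReps_eq, if_neg hnot'] at hsum
    simp only [hnf', or_false, h2] at hsum
    rw [A.card_outReps_eq]
    simp only [hnf, or_false]
    constructor
    · split_ifs at hsum ⊢ <;> omega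
    · omega

end Setting

end Cfsg.Agent.Lib.MaxClassDefect
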