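import Cfsg.Agent.Lib.MaxClassDefect.Theta
import Mathlib

/-!
# The members without variation, and those with one representative
-/

set_option autoImplicit false
set_option linter.unusedSectionVars false
set_option linter.style.haveILetI false

namespace Cfsg.Agent.Lib.MaxClassDefect

open Cfsg
open Cfsg.Agent.Lib
open Cfsg.Agent.Lib.BrauerPairs
open Cfsg.Agent.Lib.NilBlock (bu bu_fst)
open Subgroup (zpowers mem_zpowers)
open scoped ComplexConjugate

universe u

attribute [local instance] Classical.propDecidable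

variable {G : Type u} [Group G] [Fintype G] {M : Ideal AlgInt} [M.IsPrime]
  {B : Set (IrrCharacter G)} {b : BrauerPairIdx G} {x y : G} {m a : ℕ}

/-- No variation on either parity. -/
def Flat (m a : ℕ) (L : IrrCharacter G → ZMod (2 * m) → ℕ) (χ : IrrCharacter G) : Prop :=
  dl L χ = 0 ∧ (∀ i ∈ evenReps m a, wv L i χ = 0) ∧
    ∀ p ∈ oddReps m a, ∀ q ∈ oddReps m a, ov L p χ = ov L q χ

/-- Values given by one fixed residue. -/
def PureCol (m : ℕ) [NeZero (2 * m)] (L : IrrCharacter G → ZMod (2 * m) → ℕ) (χ : IrrCharacter G) :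
    Prop :=
  ∃ (k : ZMod (2 * m)) (t : ℤ), (k = 0 ∨ k = (m : ZMod (2 * m))) ∧ (t = 1 ∨ t = -1) ∧
    ∀ i : ZMod (2 * m), i ≠ 0 → i ≠ (m : ZMod (2 * m)) →
      colFun L χ i = (t : ℂ) * ZMod.stdAddChar (k * i)

/-- Values given by one orbit. -/
def SingleCol (m a : ℕ) [NeZero (2 * m)] (L : IrrCharacter G → ZMod (2 * m) → ℕ)
    (j : ZMod (2 * m)) (χ : IrrCharacter G) : Prop :=
  j ∈ orbitReps m a ∧ ∃ t : ℤ, (t = 1 ∨ t = -1) ∧
    ∀ i : ZMod (2 * m), i ≠ 0 → i ≠ (m : ZMod (2 * m)) →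
      colFun L χ i = (t : ℂ) * ((ZMod.stdAddChar (j * i) : ℂ) +
        ZMod.stdAddChar ((a : ZMod (2 * m)) * j * i))

namespace Setting

variable (A : Setting M B b x y m a) [NeZero (2 * m)] {L : IrrCharacter G → ZMod (2 * m) → ℕ}
  (hL : Cols M b x m a L)
include A hL

theorem flat_notMem {χ : IrrCharacter G} (hχ : Flat m a L χ) : χ ∉ zeroSet B := fun h => by
  obtain ⟨h1, h2⟩ := mem_zeroSet.1 h
  have := A.odd_dl hL h1 h2
  rw [hχ.1] at this
  exact absurd this (by decide)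

theorem two_m_ne : (2 * m : ℂ) ≠ 0 := by
  have := A.mc.m_pos
  exact mul_ne_zero two_ne_zero (Nat.cast_ne_zero.2 (by omega))

theorem secMat_rot_eq {i : ZMod (2 * m)} (hi : i ∈ orbitReps m a) (χ ψ : IrrCharacter G) :
    secMat 2 M b (rot x i) χ ψ = (2 * m : ℂ)⁻¹ * (colFun L χ i * conj (colFun L ψ i)) := by
  rw [← hL.form i (A.orbitReps_ne hi).1 (A.orbitReps_ne hi).2, ← mul_assoc,
    inv_mul_cancel₀ (A.two_m_ne hL), one_mul]

theorem flat_rot {χ : IrrCharacter G} (hχ : Flat m a L χ) {i : ZMod (2 * m)}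
    (hi : i ∈ orbitReps m a) (ψ : IrrCharacter G) : secMat 2 M b (rot x i) χ ψ = 0 := by
  rw [A.secMat_rot_eq hL hi, A.colFun_eq_zero hL hχ.1 hχ.2.1 hχ.2.2 (A.orbitReps_ne hi).1
    (A.orbitReps_ne hi).2, zero_mul, mul_zero]

/-- The row of a flat member at the regular elements. -/
theorem flat_row {ξ : IrrCharacter G} (hξ : ξ ∈ B) (hf : Flat m a L ξ) :
    ∃ σ : IrrCharacter G → ℤ, (∀ φ ∈ zeroSet B, σ φ = 1 ∨ σ φ = -1) ∧
      (∀ φ, φ ∉ zeroSet B → σ φ = 0) ∧
      (∀ φ ∈ zeroSet B, 4 * BrauerFeit.regCoef 2 ξ φ = σ φ) ∧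
      BrauerFeit.regCoef 2 ξ ξ = 1 / 2 ∧
      ∀ φ ∈ B, φ ∉ zeroSet B → φ ≠ ξ → BrauerFeit.regCoef 2 ξ φ = 0 := by
  haveI := Fact.mk Nat.prime_two
  obtain ⟨-, hZ4⟩ := A.zeroSet_eq hL
  have hξZ := A.flat_notMem hL hf
  have hint : ∀ φ, ∃ n : ℤ, 4 * BrauerFeit.regCoef 2 ξ φ = n := by
    intro φ
    obtain ⟨N, hN⟩ := A.exists_int_reg hξ φ
    rw [Finset.sum_eq_zero (s := orbitReps m a) fun i hi => by
        rw [A.flat_rot hL hf hi, mul_zero],
      Finset.sum_eq_zero (s := outReps M b x y) fun u hu => by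
        rw [(A.out_support hZ4 hu).2 ξ hξZ φ, mul_zero], sub_zero, sub_zero] at hN
    refine ⟨N - thetaInvo m a * (if ξ = φ then 1 else 0), ?_⟩
    rw [hN]
    push_cast
    ring
  choose n hn using hint
  have hne : ∀ φ ∈ zeroSet B, n φ ≠ 0 := fun φ hφ e => by
    obtain ⟨hφB, hφ0⟩ := mem_zeroSet.1 hφ
    obtain ⟨v, hv⟩ := A.exists_val hφB hφ0
    have h := (hv ξ hξ).1
    have h0 : BrauerFeit.regCoef 2 ξ φ = 0 := by
      have := hn φ
      rw [e, Int.cast_zero] at this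
      exact (mul_eq_zero.1 this).resolve_left (by norm_num)
    rw [h0, mul_zero] at h
    exact (hv ξ hξ).2.2 (by rw [show v ξ = 0 by exact_mod_cast h.symm]; exact dvd_zero _)
  have hsq : ∑ φ ∈ B.toFinset, n φ * n φ = 4 * n ξ := by
    have : ((∑ φ ∈ B.toFinset, n φ * n φ : ℤ) : ℂ) = ((4 * n ξ : ℤ) : ℂ) := by
      push_cast
      rw [← hn ξ, ← BrauerFeit.sum_toFinset_regCoef_mul (BrauerFeit.regOrth A.modular)
        A.max.1.2.1 hξ, Finset.mul_sum, Finset.mul_sum]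
      refine Finset.sum_congr rfl fun φ _ => ?_
      rw [← hn φ, BrauerFeit.regCoef_comm 2 φ ξ]
      ring
    exact_mod_cast this
  set rest := (B.toFinset.erase ξ) \ zeroSet B with hrest
  have hsub : zeroSet B ⊆ B.toFinset.erase ξ := fun φ hφ =>
    Finset.mem_erase.2 ⟨fun e => hξZ (e ▸ hφ), Finset.mem_filter.1 hφ |>.1⟩
  rw [← Finset.add_sum_erase _ _ (Set.mem_toFinset.2 hξ), ← Finset.sum_sdiff hsub, ← hrest] at hsq
  have h1 : ∀ φ ∈ zeroSet B, 1 ≤ n φ * n φ := fun φ hφ => mul_self_pos.2 (hne φ hφ)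
  have h4 : (4 : ℤ) ≤ ∑ φ ∈ zeroSet B, n φ * n φ :=
    le_trans (by simp [hZ4]) (Finset.sum_le_sum h1)
  have h0 : 0 ≤ ∑ φ ∈ rest, n φ * n φ := Finset.sum_nonneg fun φ _ => mul_self_nonneg _
  have hsquare : 0 ≤ (n ξ - 2) * (n ξ - 2) := mul_self_nonneg _
  have hc : n ξ = 2 := by
    have : (n ξ - 2) * (n ξ - 2) ≤ 0 := by linarith
    have := mul_self_eq_zero.1 (le_antisymm this hsquare)
    omega
  rw [hc] at hsq
  have hZeq : ∀ φ ∈ zeroSet B, n φ * n φ = 1 := by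
    have h := (Finset.sum_eq_sum_iff_of_le h1).1 (by
      rw [Finset.sum_const, hZ4, nsmul_one]
      push_cast
      linarith)
    exact fun φ hφ => (h φ hφ).symm
  have hrest0 : ∀ φ ∈ rest, n φ * n φ = 0 :=
    (Finset.sum_eq_zero_iff_of_nonneg fun φ _ => mul_self_nonneg _).1 (by linarith)
  refine ⟨fun φ => if φ ∈ zeroSet B then n φ else 0, fun φ hφ => ?_, fun φ hφ => if_neg hφ,
    fun φ hφ => ?_, ?_, fun φ hφB hφ hne' => ?_⟩
  · dsimp only
    rw [if_pos hφ]
    exact mul_self_eq_one_iff.1 (hZeq φ hφ)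
  · dsimp only
    rw [if_pos hφ]
    exact hn φ
  · have := hn ξ
    rw [hc] at this
    push_cast at this
    linear_combination this / 4
  · have h := hrest0 φ (Finset.mem_sdiff.2
      ⟨Finset.mem_erase.2 ⟨hne', Set.mem_toFinset.2 hφB⟩, hφ⟩)
    have := hn φ
    rw [mul_self_eq_zero.1 h, Int.cast_zero] at this
    exact (mul_eq_zero.1 this).resolve_left (by norm_num)

/-- The signs of a flat member are orthogonal to the differences vanishing at it. -/
theorem flat_diff {ξ : IrrCharacter G} (hξ : ξ ∈ B) {σ : IrrCharacter G → ℤ}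
    (h0 : ∀ φ, φ ∉ zeroSet B → σ φ = 0)
    (h4 : ∀ φ ∈ zeroSet B, 4 * BrauerFeit.regCoef 2 ξ φ = σ φ)
    (hr : ∀ φ ∈ B, φ ∉ zeroSet B → φ ≠ ξ → BrauerFeit.regCoef 2 ξ φ = 0)
    {j k : ZMod (2 * m)} (hjk : j * (m : ZMod (2 * m)) = k * m) (he : (L ξ j : ℤ) = L ξ k) :
    ∑ φ ∈ B.toFinset, ((L φ j : ℤ) - L φ k) * σ φ = 0 := by
  have h := A.sum_diff_reg hL hjk ξ
  have : ((∑ φ ∈ B.toFinset, ((L φ j : ℤ) - L φ k) * σ φ : ℤ) : ℂ) = 0 := by
    rw [Int.cast_sum, show (0 : ℂ) = 4 * 0 by ring, ← h, Finset.mul_sum]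
    refine Finset.sum_congr rfl fun φ hφ => ?_
    rw [Int.cast_mul, BrauerFeit.regCoef_comm 2 φ ξ]
    by_cases hφZ : φ ∈ zeroSet B
    · rw [← h4 φ hφZ]; ring
    rw [h0 φ hφZ, Int.cast_zero, mul_zero]
    by_cases e : φ = ξ
    · rw [e, he, sub_self, Int.cast_zero, zero_mul, mul_zero]
    · rw [hr φ (Set.mem_toFinset.1 hφ) hφZ e, mul_zero, mul_zero]
  exact_mod_cast this

/-- Without sign vectors there is no flat member. -/
theorem not_flat (hno : NoSigns B.toFinset (evenReps m a) (oddReps m a) (dl L) (wv L) (ov L))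
    {ξ : IrrCharacter G} (hξ : ξ ∈ B) : ¬ Flat m a L ξ := fun hf => by
  obtain ⟨σ, h1, h0, h4, -, hr⟩ := A.flat_row hL hξ hf
  obtain ⟨hZeq, -⟩ := A.zeroSet_eq hL
  have hd0 : ∀ φ ∈ B.toFinset, dl L φ ≠ 0 → φ ∈ zeroSet B := fun φ hφ h => by
    rw [hZeq]
    exact Finset.mem_filter.2 ⟨hφ, h⟩
  refine hno σ (fun φ hφ h => h1 φ (hd0 φ hφ h)) (fun φ _ h => h0 φ fun hm => ?_) ?_
    (fun i hi => ?_) fun p hp q hq => ?_
  · rw [hZeq] at hm
    exact (Finset.mem_filter.1 hm).2 h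
  · exact A.flat_diff hL hξ h0 h4 hr (by rw [zero_mul, A.mc.m_mul_m]) (sub_eq_zero.1 hf.1)
  · exact A.flat_diff hL hξ h0 h4 hr (by rw [zero_mul, (A.mem_evenReps.1 hi).2])
      (sub_eq_zero.1 (hf.2.1 i hi))
  · exact A.flat_diff hL hξ h0 h4 hr
      (by rw [(A.mem_oddReps.1 hp).2, (A.mem_oddReps.1 hq).2]) (hf.2.2 p hp q hq)

/-- The height of a flat member. -/
theorem height_flat {ξ : IrrCharacter G} (hξ : ξ ∈ B) (hf : Flat m a L ξ) :
    2 ^ blockHeight 2 B (ξ : G → ℂ) = m := by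
  haveI := Fact.mk Nat.prime_two
  obtain ⟨σ, h1, -, h4, -, -⟩ := A.flat_row hL hξ hf
  obtain ⟨-, hZ4⟩ := A.zeroSet_eq hL
  obtain ⟨h, hh⟩ := Finset.card_pos.1 (show 0 < (zeroSet B).card by omega)
  obtain ⟨hhB, hh0⟩ := mem_zeroSet.1 hh
  obtain ⟨v, hv⟩ := A.exists_val hhB hh0
  obtain ⟨hval, hd, hnd⟩ := hv ξ hξ
  have hvm : v ξ = m * σ h := by
    have : ((v ξ : ℤ) : ℂ) = ((m * σ h : ℤ) : ℂ) := by
      rw [← hval, Int.cast_mul, ← h4 h hh]
      push_cast
      ring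
    exact_mod_cast this
  obtain ⟨e, he⟩ := A.mc.isPow
  set n := blockHeight 2 B (ξ : G → ℂ)
  have hdm : ∀ k : ℕ, ((2 : ℤ) ^ k ∣ v ξ ↔ k ≤ e) := fun k => by
    rw [hvm, he]
    push_cast
    constructor
    · intro hk
      have hk' : ((2 : ℤ) ^ k).natAbs ∣ ((2 : ℤ) ^ e * σ h).natAbs := Int.natAbs_dvd_natAbs.2 hk
      rw [Int.natAbs_mul, Int.natAbs_pow, Int.natAbs_pow,
        show (σ h).natAbs = 1 by rcases h1 h hh with e' | e' <;> rw [e'] <;> rfl, mul_one] at hk'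
      exact (Nat.pow_dvd_pow_iff_le_right (by norm_num)).1 hk'
    · exact fun hk => (pow_dvd_pow 2 hk).trans (dvd_mul_right _ _)
  have hne : n = e := by
    have h1 := (hdm n).1 hd
    have h2 : ¬ n + 1 ≤ e := fun hle => hnd ((hdm (n + 1)).2 hle)
    omega
  rw [hne, he]

/-- The row of a flat member at the involution. -/
theorem flat_secMat_invo {ξ : IrrCharacter G} (hξ : ξ ∈ B) (hf : Flat m a L ξ)
    (φ : IrrCharacter G) :
    secMat 2 M b (invo x m) ξ φ =
      (if ξ = φ then 1 else 0) - BrauerFeit.regCoef 2 ξ φ := by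
  haveI := Fact.mk Nat.prime_two
  obtain ⟨-, hZ4⟩ := A.zeroSet_eq hL
  have h := sum_secMat A.modular A.max A.isReps hξ φ
  rw [A.sum_reps, secMat_one A.modular A.max hξ,
    Finset.sum_eq_zero (s := orbitReps m a) fun i hi => A.flat_rot hL hf hi φ,
    Finset.sum_eq_zero (s := outReps M b x y) fun u hu =>
      (A.out_support hZ4 hu).2 ξ (A.flat_notMem hL hf) φ] at h
  linear_combination h

/-- The rank at the involution bounds the flat members. -/
theorem card_flat_le {S R : Finset (IrrCharacter G)} (hS : ∀ ξ ∈ S, ξ ∈ B ∧ Flat m a L ξ)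
    (hR : R ⊆ B.toFinset) (hSR : Disjoint S R) (hZR : Disjoint (zeroSet B) R) :
    (S.card : ℝ) + ∑ φ ∈ R, (secMat 2 M b (invo x m) φ φ).re ≤
      (blockRank 2 (bu 2 M b (invo x m)).2 : ℝ) := by
  haveI := Fact.mk Nat.prime_two
  obtain ⟨-, hZ4⟩ := A.zeroSet_eq hL
  set P := secMat 2 M b (invo x m) with hP
  have hnn : ∀ φ ∈ B.toFinset, 0 ≤ (P φ φ).re := by
    intro φ _
    rw [hP, ← secMat_idem A.modular A.max A.invo_mem φ φ, Complex.re_sum]
    refine Finset.sum_nonneg fun ψ _ => ?_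
    rw [← conj_secMat (invo x m) φ ψ, Complex.mul_conj, Complex.ofReal_re]
    exact Complex.normSq_nonneg _
  have hSB : S ⊆ B.toFinset := fun ξ h => Set.mem_toFinset.2 (hS ξ h).1
  have hhalf : ∀ ξ ∈ S, P ξ ξ = 1 / 2 := by
    intro ξ hξ
    obtain ⟨-, -, -, -, h, -⟩ := A.flat_row hL (hS ξ hξ).1 (hS ξ hξ).2
    rw [hP, A.flat_secMat_invo hL (hS ξ hξ).1 (hS ξ hξ).2, if_pos rfl, h]
    norm_num
  have hsymm : ∀ ξ ∈ S, ∀ φ ∈ B.toFinset, P φ ξ = P ξ φ ∧ conj (P ξ φ) = P ξ φ := by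
    intro ξ hξ φ _
    have hreal : conj (P ξ φ) = P ξ φ := by
      rw [hP, A.flat_secMat_invo hL (hS ξ hξ).1 (hS ξ hξ).2, map_sub, BrauerFeit.conj_regCoef,
        apply_ite conj, map_one, map_zero]
    exact ⟨by rw [← hreal, hP, conj_secMat], hreal⟩
  have hquarter : ∀ ξ ∈ S, ∀ h ∈ zeroSet B, (P ξ h).re * (P ξ h).re = 1 / 16 := by
    intro ξ hξ h hh
    obtain ⟨σ, h1, -, h4, -, -⟩ := A.flat_row hL (hS ξ hξ).1 (hS ξ hξ).2
    have e : P ξ h = ((-(σ h : ℝ) / 4 : ℝ) : ℂ) := by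
      rw [hP, A.flat_secMat_invo hL (hS ξ hξ).1 (hS ξ hξ).2,
        if_neg fun (e : ξ = h) => A.flat_notMem hL (hS ξ hξ).2 (e.symm ▸ hh)]
      push_cast
      linear_combination (-1 / 4) * h4 h hh
    rw [e, Complex.ofReal_re]
    rcases h1 h hh with e' | e' <;> rw [e'] <;> norm_num
  have hZ : ∀ h ∈ zeroSet B, (S.card : ℝ) / 8 ≤ (P h h).re := by
    intro h hh
    set r : IrrCharacter G → ℝ := fun φ => (P h φ).re with hr
    set s : IrrCharacter G → ℝ := fun φ => ∑ ξ ∈ S, 2 * (P ξ h).re * (P ξ φ).re with hs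
    have hh' : h ∈ B.toFinset := (Finset.mem_filter.1 hh).1
    have hrr : ∑ φ ∈ B.toFinset, r φ * r φ ≤ (P h h).re := by
      simp only [hr, hP]
      rw [← secMat_idem A.modular A.max A.invo_mem h h, Complex.re_sum]
      refine Finset.sum_le_sum fun φ _ => ?_
      rw [← conj_secMat (invo x m) h φ, Complex.mul_conj, Complex.ofReal_re, Complex.normSq_apply]
      nlinarith [mul_self_nonneg (P h φ).im]
    have hrs : ∀ ξ ∈ S, ∑ φ ∈ B.toFinset, r φ * (P ξ φ).re = (P ξ h).re := by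
      intro ξ hξ
      have e := congrArg Complex.re (secMat_idem A.modular A.max A.invo_mem ξ h)
      rw [Complex.re_sum] at e
      rw [← e]
      refine Finset.sum_congr rfl fun φ hφ => ?_
      have him : (P ξ φ).im = 0 := Complex.conj_eq_iff_im.1 (hsymm ξ hξ φ hφ).2
      rw [← conj_secMat (invo x m) h φ, Complex.mul_re, Complex.conj_re, ← hP, him]
      ring
    have hss : ∀ ξ ∈ S, ∀ ξ' ∈ S, ∑ φ ∈ B.toFinset, (P ξ φ).re * (P ξ' φ).re =
        if ξ = ξ' then 1 / 2 else 0 := by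
      intro ξ hξ ξ' hξ'
      have e := congrArg Complex.re (secMat_idem A.modular A.max A.invo_mem ξ ξ')
      rw [Complex.re_sum] at e
      rw [Finset.sum_congr rfl (g := fun φ => (P ξ φ * P φ ξ').re) fun φ hφ => by
        rw [(hsymm ξ' hξ' φ hφ).1, Complex.mul_re,
          Complex.conj_eq_iff_im.1 (hsymm ξ hξ φ hφ).2]
        ring, e]
      by_cases he : ξ = ξ'
      · rw [if_pos he, ← he, ← hP, hhalf ξ hξ]
        norm_num
      · rw [if_neg he]
        obtain ⟨σ, -, -, -, -, hr'⟩ := A.flat_row hL (hS ξ hξ).1 (hS ξ hξ).2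
        rw [A.flat_secMat_invo hL (hS ξ hξ).1 (hS ξ hξ).2, if_neg he,
          hr' ξ' (hS ξ' hξ').1 (A.flat_notMem hL (hS ξ' hξ').2) (Ne.symm he)]
        simp
    have h1 : ∑ φ ∈ B.toFinset, r φ * s φ = (S.card : ℝ) / 8 := by
      simp only [hs, Finset.mul_sum]
      rw [Finset.sum_comm, Finset.sum_congr rfl (g := fun _ => (1 / 8 : ℝ)) fun ξ hξ => by
        rw [Finset.sum_congr rfl fun φ _ => show r φ * (2 * (P ξ h).re * (P ξ φ).re) =
          2 * (P ξ h).re * (r φ * (P ξ φ).re) by ring, ← Finset.mul_sum, hrs ξ hξ, mul_assoc,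
          hquarter ξ hξ h hh]
        norm_num, Finset.sum_const, nsmul_eq_mul]
      ring
    have h2 : ∑ φ ∈ B.toFinset, s φ * s φ = (S.card : ℝ) / 8 := by
      simp only [hs, Finset.sum_mul_sum]
      rw [Finset.sum_comm, Finset.sum_congr rfl (g := fun _ => (1 / 8 : ℝ)) fun ξ hξ => by
        rw [Finset.sum_comm, Finset.sum_congr rfl fun ξ' hξ' => by
          rw [Finset.sum_congr rfl fun φ _ => show
            2 * (P ξ h).re * (P ξ φ).re * (2 * (P ξ' h).re * (P ξ' φ).re) =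
              4 * (P ξ h).re * (P ξ' h).re * ((P ξ φ).re * (P ξ' φ).re) by ring,
            ← Finset.mul_sum, hss ξ hξ ξ' hξ', mul_ite, mul_zero],
          Finset.sum_ite_eq, if_pos hξ]
        rw [show 4 * (P ξ h).re * (P ξ h).re * (1 / 2) = 2 * ((P ξ h).re * (P ξ h).re) by ring,
          hquarter ξ hξ h hh]
        norm_num, Finset.sum_const, nsmul_eq_mul]
      ring
    have h3 : 0 ≤ ∑ φ ∈ B.toFinset, (r φ - s φ) * (r φ - s φ) :=
      Finset.sum_nonneg fun φ _ => mul_self_nonneg _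
    rw [Finset.sum_congr rfl fun φ _ => show (r φ - s φ) * (r φ - s φ) =
      r φ * r φ - 2 * (r φ * s φ) + s φ * s φ by ring, Finset.sum_add_distrib,
      Finset.sum_sub_distrib, ← Finset.mul_sum, h1, h2] at h3
    linarith
  have hdS : Disjoint S (zeroSet B) := Finset.disjoint_left.2 fun ξ h =>
    A.flat_notMem hL (hS ξ h).2
  have hsub : (S ∪ zeroSet B) ∪ R ⊆ B.toFinset :=
    Finset.union_subset (Finset.union_subset hSB (Finset.filter_subset _ _)) hR
  have hle := Finset.sum_le_sum_of_subset_of_nonneg hsub fun φ hφ _ => hnn φ hφ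
  rw [Finset.sum_union (Finset.disjoint_union_left.2 ⟨hSR, hZR⟩), Finset.sum_union hdS] at hle
  have hS2 : ∑ ξ ∈ S, (P ξ ξ).re = (S.card : ℝ) / 2 := by
    rw [Finset.sum_congr rfl (g := fun _ => (1 / 2 : ℝ)) fun ξ hξ => by rw [hhalf ξ hξ]; norm_num,
      Finset.sum_const, nsmul_eq_mul]
    ring
  have hZ2 : (S.card : ℝ) / 2 ≤ ∑ h ∈ zeroSet B, (P h h).re := by
    refine le_trans (le_of_eq ?_) (Finset.sum_le_sum hZ)
    rw [Finset.sum_const, hZ4, nsmul_eq_mul]
    push_cast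
    ring
  have htot : ∑ φ ∈ B.toFinset, (P φ φ).re = (blockRank 2 (bu 2 M b (invo x m)).2 : ℝ) := by
    rw [← Complex.re_sum, hP, sum_secMat_self A.modular A.max A.invo_mem, Complex.natCast_re]
  rw [htot] at hle
  linarith

/-- Two members with known columns. -/
theorem single_sum {e h : IrrCharacter G} {j : ZMod (2 * m)} (he : SingleCol m a L j e)
    (hh : PureCol m L h) :
    ∃ (t : ℤ) (s : ZMod (2 * m)), (t = 1 ∨ t = -1) ∧ s ≠ 0 ∧ s ≠ (m : ZMod (2 * m)) ∧
      ∀ W : ZMod (2 * m) → ℂ, (∀ i, W ((a : ZMod (2 * m)) * i) = W i) →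
        2 * ∑ i ∈ orbitReps m a, W i * (colFun L e i * conj (colFun L h i)) = (t : ℂ) *
          (∑ i, W i * ((ZMod.stdAddChar (s * i) : ℂ) + ZMod.stdAddChar ((a : ZMod (2 * m)) * s * i)) -
            2 * W 0 - 2 * ZMod.stdAddChar (s * (m : ZMod (2 * m))) * W (m : ZMod (2 * m))) := by
  obtain ⟨hj, t, ht, hF⟩ := he
  obtain ⟨k, σ, hk, hσ, hH⟩ := hh
  obtain ⟨hj0, hjm⟩ := A.orbitReps_ne hj
  have hak : (a : ZMod (2 * m)) * k = k := A.mc.fixed_iff.2 hk
  have hk2 : k + k = 0 := by rw [← two_mul]; exact A.mc.two_mul_eq_zero.2 hk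
  refine ⟨t * σ, j + k, by rcases ht with h | h <;> rcases hσ with h' | h' <;> simp [h, h'],
    fun e' => ?_, fun e' => ?_, fun W hW => ?_⟩
  · rcases hk with rfl | rfl
    · exact hj0 (by rwa [add_zero] at e')
    · exact hjm (by rw [← A.mc.neg_m]; exact eq_neg_of_add_eq_zero_left e')
  · rcases hk with rfl | rfl
    · exact hjm (by rwa [add_zero] at e')
    · exact hj0 (by linear_combination e')
  set g : ZMod (2 * m) → ℂ := fun i => W i * ((ZMod.stdAddChar ((j + k) * i) : ℂ) +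
    ZMod.stdAddChar ((a : ZMod (2 * m)) * (j + k) * i)) with hg
  have hga : ∀ i, g ((a : ZMod (2 * m)) * i) = g i := by
    intro i
    simp only [hg, hW]
    rw [show (j + k) * ((a : ZMod (2 * m)) * i) = (a : ZMod (2 * m)) * (j + k) * i by ring,
      show (a : ZMod (2 * m)) * (j + k) * ((a : ZMod (2 * m)) * i) =
        (a : ZMod (2 * m)) * a * ((j + k) * i) by ring, A.mc.sq_eq_one, one_mul, add_comm]
  have hterm : ∀ i ∈ orbitReps m a, W i * (colFun L e i * conj (colFun L h i)) =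
      ((t * σ : ℤ) : ℂ) * g i := by
    intro i hi
    obtain ⟨h0, hm⟩ := A.orbitReps_ne hi
    rw [hF i h0 hm, hH i h0 hm, map_mul (starRingEnd ℂ), map_intCast, conj_stdAddChar,
      show -(k * i) = k * i from neg_eq_of_add_eq_zero_left (by rw [← add_mul, hk2, zero_mul])]
    simp only [hg]
    rw [add_mul j k i, show (a : ZMod (2 * m)) * (j + k) * i =
      (a : ZMod (2 * m)) * j * i + k * i by rw [mul_add, hak, add_mul],
      AddChar.map_add_eq_mul, AddChar.map_add_eq_mul]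
    push_cast
    ring
  rw [Finset.sum_congr rfl hterm, ← Finset.mul_sum]
  have hall := A.sum_orbits g
  simp only [hga] at hall
  rw [show ∑ i, W i * ((ZMod.stdAddChar ((j + k) * i) : ℂ) +
    ZMod.stdAddChar ((a : ZMod (2 * m)) * (j + k) * i)) = ∑ i, g i from rfl, hall,
    Finset.sum_add_distrib]
  simp only [hg, mul_zero, AddChar.map_zero_eq_one, A.mc.twist_mul_m]
  ring

theorem sum_pair_zero {s : ZMod (2 * m)} (hs : s ≠ 0) :
    ∑ i, ((ZMod.stdAddChar (s * i) : ℂ) + ZMod.stdAddChar ((a : ZMod (2 * m)) * s * i)) = 0 := by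
  rw [Finset.sum_add_distrib, sum_stdAddChar_mul, sum_stdAddChar_mul, if_neg hs, if_neg, add_zero]
  exact fun e => hs (by rw [← A.mc.twist_twist s, e, mul_zero])

/-- The height of a member with one orbit. -/
theorem height_single {e h : IrrCharacter G} (heB : e ∈ B) (heZ : e ∉ zeroSet B)
    {j : ZMod (2 * m)} (he : SingleCol m a L j e) (hhZ : h ∈ zeroSet B) (hh : PureCol m L h)
    (h4 : 4 ∣ m) :
    blockHeight 2 B (e : G → ℂ) = 1 ∧ secMat 2 M b (invo x m) e h ≠ 0 := by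
  haveI := Fact.mk Nat.prime_two
  obtain ⟨-, hZ4⟩ := A.zeroSet_eq hL
  obtain ⟨hhB, hh0⟩ := mem_zeroSet.1 hhZ
  obtain ⟨v, hv⟩ := A.exists_val hhB hh0
  obtain ⟨hval, hd, hnd⟩ := hv e heB
  obtain ⟨t, s, ht, hs0, hsm, hkey⟩ := A.single_sum hL he hh
  have hne : e ≠ h := fun hh' => heZ (hh' ▸ hhZ)
  have hout : ∀ u ∈ outReps M b x y, secMat 2 M b u e h = 0 := fun u hu =>
    (A.out_support hZ4 hu).2 e heZ h
  obtain ⟨N, hN⟩ := A.exists_int_reg heB h
  rw [if_neg hne, mul_zero, sub_zero,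
    Finset.sum_eq_zero (s := outReps M b x y) fun u hu => by rw [hout u hu, mul_zero], sub_zero]
    at hN
  have hW : ∀ i : ZMod (2 * m), thetaRot m a ((a : ZMod (2 * m)) * i) - thetaInvo m a =
      thetaRot m a i - thetaInvo m a := fun i => by
    rw [thetaRot, thetaRot, A.mc.twist_twist, ← mul_assoc (m : ZMod (2 * m)),
      mul_comm (m : ZMod (2 * m)) (a : ZMod (2 * m)), A.mc.twist_m]
    ring
  -- the full sum is a multiple of 4m
  set n : ℤ := (if 1 + s = 0 then 1 else 0) + if (a : ZMod (2 * m)) + s = 0 then 1 else 0 with hn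
  have hfull : ∑ i, (thetaRot m a i - thetaInvo m a) * ((ZMod.stdAddChar (s * i) : ℂ) +
      ZMod.stdAddChar ((a : ZMod (2 * m)) * s * i)) = (4 * m : ℂ) * n := by
    have has : ∀ c : ZMod (2 * m), ((a : ZMod (2 * m)) * c = 0 ↔ c = 0) := fun c =>
      ⟨fun e' => by rw [← A.mc.twist_twist c, e', mul_zero], fun e' => by rw [e', mul_zero]⟩
    have hm1 : ((a : ZMod (2 * m)) + (a : ZMod (2 * m)) * s = 0 ↔ 1 + s = 0) := by
      rw [← mul_one_add, has]
    have hm2 : (1 + (a : ZMod (2 * m)) * s = 0 ↔ (a : ZMod (2 * m)) + s = 0) := by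
      rw [← has, mul_add, mul_one, A.mc.twist_twist]
    have hm3 : (m : ZMod (2 * m)) + s ≠ 0 := fun e' => hsm (by
      rw [← A.mc.neg_m]; exact eq_neg_of_add_eq_zero_right e')
    have hm4 : (m : ZMod (2 * m)) + (a : ZMod (2 * m)) * s ≠ 0 := fun e' => hm3 ((has _).1 (by
      rw [mul_add, A.mc.twist_m]; exact e'))
    have has0 : (a : ZMod (2 * m)) * s ≠ 0 := fun e' => hs0 ((has s).1 e')
    simp only [thetaRot, sub_mul, add_mul, mul_add, mul_assoc, ← AddChar.map_add_eq_mul,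
      Finset.sum_add_distrib, Finset.sum_sub_distrib, ← Finset.mul_sum]
    simp only [← mul_assoc (a : ZMod (2 * m)) s]
    conv_lhs =>
      simp only [show ∀ i : ZMod (2 * m), i + s * i = (1 + s) * i from fun i => by ring,
        show ∀ i : ZMod (2 * m), i + (a : ZMod (2 * m)) * s * i = (1 + (a : ZMod (2 * m)) * s) * i
          from fun i => by ring, ← add_mul, sum_stdAddChar_mul]
    rw [if_congr hm1 rfl rfl, if_congr hm2 rfl rfl, if_neg hm3, if_neg hm4, if_neg hs0,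
      if_neg has0, hn]
    split_ifs <;> push_cast <;> ring
  have hz : thetaRot m a (m : ZMod (2 * m)) - thetaInvo m a = 0 := by
    rw [← A.theta_rot (x := x) (y := y), ← invo, A.theta_invo, sub_self]
  have h04 : thetaRot m a 0 - thetaInvo m a = 4 := by
    rw [← A.theta_rot (x := x) (y := y), A.mc.rot_zero, ← A.theta_invo, A.theta_one]
  have hsum := hkey (fun i => thetaRot m a i - thetaInvo m a) hW
  rw [hz, mul_zero, sub_zero, h04, hfull] at hsum
  obtain ⟨q, hq⟩ := h4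
  have hvv : v e = m * N - t * (m * n - 2) := by
    have : ((v e : ℤ) : ℂ) = ((m * N - t * (m * n - 2) : ℤ) : ℂ) := by
      rw [← hval, show (4 * m : ℂ) * BrauerFeit.regCoef 2 e h =
        (m : ℂ) * (4 * BrauerFeit.regCoef 2 e h) by ring, hN, mul_sub, Finset.mul_sum,
        Finset.sum_congr rfl fun i hi => show (m : ℂ) * ((thetaRot m a i - thetaInvo m a) *
          secMat 2 M b (rot x i) e h) = (1 / 2 : ℂ) * ((thetaRot m a i - thetaInvo m a) *
            (colFun L e i * conj (colFun L h i))) by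
          rw [A.secMat_rot_eq hL hi]
          have hm0 : (m : ℂ) ≠ 0 := Nat.cast_ne_zero.2 (by have := A.mc.m_pos; omega)
          field_simp, ← Finset.mul_sum]
      push_cast
      linear_combination (-1 / 4 : ℂ) * hsum
    exact_mod_cast this
  constructor
  · have h2 : ¬ (4 : ℤ) ∣ v e ∧ (2 : ℤ) ∣ v e := by
      rw [hvv, show (m : ℤ) = 4 * q by exact_mod_cast hq,
        show 4 * (q : ℤ) * N - t * (4 * q * n - 2) = 4 * (q * N - t * (q * n)) + 2 * t by ring]
      omega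
    have hn2 : blockHeight 2 B (e : G → ℂ) < 2 := by
      by_contra hlt
      exact h2.1 (dvd_trans (show (4 : ℤ) ∣ 2 ^ blockHeight 2 B (e : G → ℂ) from
        (show (4 : ℤ) = 2 ^ 2 by norm_num) ▸ pow_dvd_pow 2 (by omega)) hd)
    have hn0 : blockHeight 2 B (e : G → ℂ) ≠ 0 := fun h0 => heZ (mem_zeroSet.2 ⟨heB, h0⟩)
    omega
  · intro hzero
    have hall := sum_secMat A.modular A.max A.isReps heB h
    rw [A.sum_reps, secMat_one A.modular A.max heB, hzero, if_neg hne, add_zero,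
      Finset.sum_eq_zero (s := outReps M b x y) hout, add_zero] at hall
    have h1 := hkey (fun _ => 1) fun _ => rfl
    simp only [one_mul, mul_one] at h1
    rw [A.sum_pair_zero hL hs0, Finset.sum_congr rfl fun i hi => show
      colFun L e i * conj (colFun L h i) = (2 * m : ℂ) * secMat 2 M b (rot x i) e h by
      rw [hL.form i (A.orbitReps_ne hi).1 (A.orbitReps_ne hi).2], ← Finset.mul_sum] at h1
    have hv4 : v e = 0 ∨ v e = 4 * t := by
      rcases A.mc.mul_m_cases s with hsm' | hsm' <;> rw [hsm'] at h1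
      · right
        rw [AddChar.map_zero_eq_one] at h1
        have : ((v e : ℤ) : ℂ) = ((4 * t : ℤ) : ℂ) := by
          rw [← hval]
          push_cast
          linear_combination (4 * m : ℂ) * hall - h1
        exact_mod_cast this
      · left
        rw [A.mc.stdAddChar_m] at h1
        have : ((v e : ℤ) : ℂ) = 0 := by
          rw [← hval]
          linear_combination (4 * m : ℂ) * hall - h1
        exact_mod_cast this
    rw [hvv, show (m : ℤ) = 4 * q by exact_mod_cast hq,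
      show 4 * (q : ℤ) * N - t * (4 * q * n - 2) = 4 * (q * N - t * (q * n)) + 2 * t by ring] at hv4
    omega

/-- The members in the regular configuration. -/
theorem regular_members
    (hR : Regular B.toFinset (evenReps m a) (oddReps m a) (dl L) (wv L) (ov L)) :
    (∀ h ∈ zeroSet B, PureCol m L h) ∧
    ∃ (E : Finset (IrrCharacter G)) (idx : IrrCharacter G → ZMod (2 * m)),
      (∀ e ∈ E, e ∈ B ∧ e ∉ zeroSet B ∧ SingleCol m a L (idx e) e ∧
        (idx e ∈ evenReps m a ∨ idx e ∈ oddReps m a) ∧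
        (idx e ∈ evenReps m a → wv L (idx e) e ≠ 0) ∧
        (idx e ∈ oddReps m a → ∀ q ∈ oddReps m a, q ≠ idx e → ov L (idx e) e ≠ ov L q e)) ∧
      E.card = (if m = 2 then 0 else m - 1) ∧
      (∀ χ ∈ B, χ ∉ zeroSet B → χ ∉ E → Flat m a L χ) := by
  obtain ⟨hZeq, -⟩ := A.zeroSet_eq hL
  obtain ⟨hpure, E, idx, sg, hEsub, hE0, hEc, hEv, hrest⟩ := hR
  have hnot : ∀ χ, dl L χ = 0 → χ ∉ zeroSet B := fun χ h hm => by
    rw [hZeq] at hm
    exact (Finset.mem_filter.1 hm).2 h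
  refine ⟨fun h hh => ?_, E, idx, fun e he => ?_, ?_, fun χ hχ hZ hχE => ?_⟩
  · rw [hZeq] at hh
    obtain ⟨hhT, hd⟩ := Finset.mem_filter.1 hh
    obtain ⟨hw, hl⟩ := hpure h hhT hd
    obtain ⟨hhB, hh0⟩ := mem_zeroSet.1 (hZeq ▸ hh : h ∈ zeroSet B)
    obtain ⟨v, hv⟩ := A.exists_val hhB hh0
    have hd1 : dl L h = 1 ∨ dl L h = -1 := by
      have := (A.gram hL hv).delta_unit hhT
      omega
    rcases A.colFun_pure hL hw hl with hF | hF
    · exact ⟨0, dl L h, Or.inl rfl, hd1, fun i h0 hm => by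
        rw [hF i h0 hm, zero_mul, AddChar.map_zero_eq_one, mul_one]⟩
    · exact ⟨(m : ZMod (2 * m)), -dl L h, Or.inr rfl, by omega, fun i h0 hm => by
        rw [hF i h0 hm]; push_cast; ring⟩
  · obtain ⟨hj, hc, hw, hl⟩ := hEv e he
    obtain ⟨t, ht, hF⟩ := A.colFun_single hL (hE0 e he) hj hc hw hl
    refine ⟨Set.mem_toFinset.1 (hEsub he), hnot e (hE0 e he), ⟨hj.elim
      (fun h => (A.mem_evenReps.1 h).1) (fun h => (A.mem_oddReps.1 h).1), t, ht, hF⟩, hj,
      fun h => ?_, fun h q hq hne e' => ?_⟩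
    · rw [hw _ h, if_pos rfl]
      omega
    · have h' := hl _ h q hq
      rw [e', sub_self, if_pos rfl, if_neg hne, sub_zero] at h'
      omega
  · obtain ⟨h1, h2⟩ := A.card_evenReps
    rw [hEc]
    split_ifs <;> omega
  · have hd : dl L χ = 0 := by_contra fun h => hZ (hZeq.symm ▸
      Finset.mem_filter.2 ⟨Set.mem_toFinset.2 hχ, h⟩)
    exact ⟨hd, hrest χ (Set.mem_toFinset.2 hχ) hd hχE⟩

end Setting

end Cfsg.Agent.Lib.MaxClassDefect
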