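import Cfsg.Agent.Lib.MaxClassDefect.Local
import Cfsg.Agent.Lib.MaxClassDefect.Members
import Cfsg.Agent.Lib.KleinBlock.Basic
import Mathlib

/-!
# The invariants of a block with a quaternion or semidihedral defect group
-/

set_option autoImplicit false
set_option linter.unusedSectionVars false
set_option linter.style.haveILetI false

namespace Cfsg.Agent.Lib.MaxClassDefect

open Cfsg
open Cfsg.Agent.Lib
open Cfsg.Agent.Lib.BrauerPairs
open Cfsg.Agent.Lib.NilBlock (bu bu_fst)
open Subgroup (zpowers mem_zpowers)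
open scoped ComplexConjugate

universe u

attribute [local instance] Classical.propDecidable

variable {G : Type u} [Group G] [Fintype G] {M : Ideal AlgInt} [M.IsPrime]
  {B : Set (IrrCharacter G)} {b : BrauerPairIdx G} {x y : G} {m a : ℕ}

namespace Setting

variable (A : Setting M B b x y m a)
include A

theorem four_dvd (hm : m ≠ 2) : 4 ∣ m := by
  obtain ⟨e, he⟩ := A.mc.isPow
  have h2 := A.mc.two_le
  rcases e with _ | _ | e
  · simp at he; omega
  · simp at he; omega
  · exact he ▸ ⟨2 ^ e, by ring⟩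

theorem card_B : B.toFinset.card = Nat.card B := by
  rw [Nat.card_eq_fintype_card, Set.toFinset_card]

/-- The exceptional configurations give too few members. -/
theorem not_special [NeZero (2 * m)] {L : IrrCharacter G → ZMod (2 * m) → ℕ}
    (hL : Cols M b x m a L)
    (hS : Special B.toFinset (evenReps m a) (oddReps m a) (dl L) (wv L) (ov L)) : False := by
  obtain ⟨hno, -, hcard, -⟩ := hS
  rw [Finset.filter_true_of_mem fun χ hχ => ?_] at hcard
  · rw [A.card_B] at hcard
    obtain ⟨h1, h2⟩ := A.card_evenReps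
    have hk := A.card_block
    have hl := KleinBlock.blockRank_pos (M := M) Nat.prime_two A.max.1.2.1
    have hm := A.mc.two_le
    rcases A.mc.kind with ⟨-, hy⟩ | ⟨-, hy, -⟩
    · have := A.rank_invo.1 hy
      omega
    · have h3 := (A.rank_invo.2 hy).1
      split_ifs at h3 <;> omega
  · by_contra hc
    simp only [not_or, not_exists, not_and, not_not] at hc
    exact A.not_flat hL hno (Set.mem_toFinset.1 hχ) ⟨hc.1, hc.2.1, hc.2.2⟩

/-- The members outside the four of height zero. -/
theorem census : ∃ X : ℕ,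
    Nat.card B = 4 + (if m = 2 then 0 else m - 1) + X ∧
    X ≤ blockRank 2 (bu 2 M b (invo x m)).2 ∧
    (m ≠ 2 → X < blockRank 2 (bu 2 M b (invo x m)).2) ∧
    Nat.card {χ : IrrCharacter G // χ ∈ B ∧ blockHeight 2 B (χ : G → ℂ) = 0} = 4 ∧
    (m ≠ 2 → Nat.card {χ : IrrCharacter G // χ ∈ B ∧ blockHeight 2 B (χ : G → ℂ) = 1} = m - 1) ∧
    ∀ χ ∈ B, blockHeight 2 B (χ : G → ℂ) = 0 ∨ blockHeight 2 B (χ : G → ℂ) = 1 ∨
      2 ^ blockHeight 2 B (χ : G → ℂ) = m := by
  haveI := A.mc.neZero
  haveI := Fact.mk Nat.prime_two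
  obtain ⟨L, hsymm, hform⟩ := A.exists_rotData
  have hL : Cols M b x m a L := ⟨hsymm, hform⟩
  obtain ⟨hh, hhB, hh0⟩ := Blocks.exists_height_zero (p := 2) A.max.1.2.1
  obtain ⟨v, hv⟩ := A.exists_val hhB hh0
  have hR : Regular B.toFinset (evenReps m a) (oddReps m a) (dl L) (wv L) (ov L) :=
    ((A.gram hL hv).shape A.exists_two_pow_oddReps A.card_evenReps.1).resolve_right
      (A.not_special hL)
  obtain ⟨hpure, E, idx, hE, hEc, hflat⟩ := A.regular_members hL hR
  obtain ⟨-, hZ4⟩ := A.zeroSet_eq hL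
  have hZB : zeroSet B ⊆ B.toFinset := Finset.filter_subset _ _
  have hEB : E ⊆ B.toFinset := fun e he => Set.mem_toFinset.2 (hE e he).1
  have hZE : Disjoint (zeroSet B) E := Finset.disjoint_right.2 fun e he => (hE e he).2.1
  set X := B.toFinset \ (zeroSet B ∪ E) with hX
  have hXf : ∀ ξ ∈ X, ξ ∈ B ∧ Flat m a L ξ := fun ξ hξ => by
    obtain ⟨h1, h2⟩ := Finset.mem_sdiff.1 hξ
    rw [Finset.mem_union, not_or] at h2
    exact ⟨Set.mem_toFinset.1 h1, hflat ξ (Set.mem_toFinset.1 h1) h2.1 h2.2⟩
  have hXE : Disjoint X E := Finset.disjoint_left.2 fun ξ hξ he =>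
    (Finset.mem_sdiff.1 hξ).2 (Finset.mem_union_right _ he)
  have hcardB : Nat.card B = 4 + E.card + X.card := by
    rw [← A.card_B, ← hZ4, ← Finset.card_union_of_disjoint hZE, add_comm,
      hX, Finset.card_sdiff_add_card_eq_card (Finset.union_subset hZB hEB)]
  have hle : X.card ≤ blockRank 2 (bu 2 M b (invo x m)).2 := by
    have h := A.card_flat_le hL hXf (Finset.empty_subset _) (Finset.disjoint_empty_right _)
      (Finset.disjoint_empty_right _)
    rw [Finset.sum_empty, add_zero] at h
    exact_mod_cast h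
  obtain ⟨h, hhZ⟩ := Finset.card_pos.1 (show 0 < (zeroSet B).card by omega)
  have hone : m ≠ 2 → ∀ e ∈ E, blockHeight 2 B (e : G → ℂ) = 1 ∧
      secMat 2 M b (invo x m) e h ≠ 0 := fun hm e he =>
    A.height_single hL (hE e he).1 (hE e he).2.1 (hE e he).2.2.1 hhZ (hpure h hhZ) (A.four_dvd hm)
  refine ⟨X.card, by rw [hcardB, hEc], hle, fun hm => ?_, by rw [card_zeroSet, hZ4],
    fun hm => ?_, fun χ hχ => ?_⟩
  · obtain ⟨e, he⟩ := Finset.card_pos.1 (show 0 < E.card by
      rw [hEc, if_neg hm]; have := A.mc.two_le; omega)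
    have h' := A.card_flat_le hL hXf (R := {e}) (by simpa using hEB he)
      (Finset.disjoint_singleton_right.2 fun hx => Finset.disjoint_left.1 hXE hx he)
      (Finset.disjoint_singleton_right.2 fun hx => Finset.disjoint_left.1 hZE hx he)
    rw [Finset.sum_singleton] at h'
    have hpos : 0 < (secMat 2 M b (invo x m) e e).re := by
      rw [← secMat_idem A.modular A.max A.invo_mem e e, Complex.re_sum]
      refine Finset.sum_pos' (fun φ _ => ?_) ⟨h, hZB hhZ, ?_⟩
      · rw [← conj_secMat (invo x m) e φ, Complex.mul_conj, Complex.ofReal_re]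
        exact Complex.normSq_nonneg _
      · rw [← conj_secMat (invo x m) e h, Complex.mul_conj, Complex.ofReal_re]
        exact Complex.normSq_pos.2 (hone hm e he).2
    exact_mod_cast (show (X.card : ℝ) < (blockRank 2 (bu 2 M b (invo x m)).2 : ℝ) by linarith)
  · have heq : (B.toFinset.filter fun χ : IrrCharacter G =>
        blockHeight 2 B (χ : G → ℂ) = 1) = E := by
      ext χ
      rw [Finset.mem_filter, Set.mem_toFinset]
      refine ⟨fun ⟨hχ, h1⟩ => ?_, fun he => ⟨(hE χ he).1, (hone hm χ he).1⟩⟩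
      by_contra hne
      by_cases hz : χ ∈ zeroSet B
      · have := (mem_zeroSet.1 hz).2
        omega
      · have := A.height_flat hL hχ (hflat χ hχ hz hne)
        rw [h1] at this
        omega
    rw [Nat.card_eq_fintype_card, Fintype.card_of_subtype
      (B.toFinset.filter fun χ : IrrCharacter G => blockHeight 2 B (χ : G → ℂ) = 1)
      (fun χ => by simp), heq, hEc, if_neg hm]
  · by_cases hz : χ ∈ zeroSet B
    · exact Or.inl (mem_zeroSet.1 hz).2
    by_cases he : χ ∈ E
    · have hm : m ≠ 2 := fun h2 => by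
        rw [if_pos h2, Finset.card_eq_zero] at hEc
        simp [hEc] at he
      exact Or.inr (Or.inl (hone hm χ he).1)
    · exact Or.inr (Or.inr (A.height_flat hL hχ (hflat χ hχ hz he)))

/-- The invariants in the quaternion case. -/
theorem quaternion_invariants (hy : y * y = x ^ m) :
    1 ≤ blockRank 2 B ∧ blockRank 2 B ≤ 3 ∧ Nat.card B = blockRank 2 B + m + 2 := by
  obtain ⟨X, h1, h2, h3, -, -, -⟩ := A.census
  have hk := A.card_block
  have hl := KleinBlock.blockRank_pos (M := M) Nat.prime_two A.max.1.2.1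
  have hs := A.rank_invo.1 hy
  have := A.mc.two_le
  by_cases hm : m = 2
  · rw [if_pos hm] at h1
    omega
  · have := h3 hm
    rw [if_neg hm] at h1
    omega

/-- The invariants in the semidihedral case. -/
theorem semidihedral_invariants (hy : y * y = 1) (hm : 4 ≤ m) :
    (Nat.card B = m + 3 ∨ Nat.card B = m + 4) ∧ 1 ≤ blockRank 2 B ∧ blockRank 2 B ≤ 3 ∧
      (blockRank 2 B = 3 → Nat.card B = m + 4) ∧ (blockRank 2 B = 1 → Nat.card B = m + 3) := by
  obtain ⟨X, h1, -, h3, -, -, -⟩ := A.census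
  have hk := A.card_block
  obtain ⟨hs, hL2⟩ := A.rank_invo.2 hy
  have := h3 (by omega)
  rw [if_neg (by omega)] at h1
  split_ifs at hs <;> omega

end Setting

end Cfsg.Agent.Lib.MaxClassDefect
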