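import Cfsg.Agent.Lib.MaxClassDefect.Spec
import Mathlib

/-!
# The subsections at the outer classes
-/

set_option autoImplicit false
set_option linter.unusedSectionVars false
set_option linter.style.haveILetI false

namespace Cfsg.Agent.Lib.MaxClassDefect

open Cfsg
open Cfsg.Agent.Lib
open Cfsg.Agent.Lib.BrauerPairs
open Cfsg.Agent.Lib.NilBlock (bu bu_fst)
open Subgroup (zpowers mem_zpowers)
open scoped ComplexConjugate

universe u

attribute [local instance] Classical.propDecidable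

variable {G : Type u} [Group G] [Fintype G] {M : Ideal AlgInt} [M.IsPrime]
  {B : Set (IrrCharacter G)} {b : BrauerPairIdx G} {x y : G} {m a : ℕ}

namespace MC

variable {P : Subgroup G} (D : MC P x y m a)
include D

/-- The square of an outer element. -/
theorem out_sq_cases (i : ZMod (2 * m)) :
    (rot x i * y) * (rot x i * y) = 1 ∨ (rot x i * y) * (rot x i * y) = invo x m := by
  rw [D.out_sq, invo]
  rcases D.kind with ⟨ha, hy⟩ | ⟨ha, hy, -⟩
  · right
    have h : ((1 : ZMod (2 * m)) + a) = 0 := by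
      rw [← Nat.cast_one, ← Nat.cast_add, add_comm 1 a, ha, ZMod.natCast_self]
    rw [h, zero_mul, D.rot_zero, one_mul, hy, D.rot_natCast]
  · have h : ((1 : ZMod (2 * m)) + a) = (m : ZMod (2 * m)) := by
      rw [← Nat.cast_one, ← Nat.cast_add, add_comm 1 a, ha]
    rw [h, hy, mul_one, mul_comm (m : ZMod (2 * m)) i]
    rcases D.mul_m_cases i with e | e <;> rw [e]
    · exact Or.inl D.rot_zero
    · exact Or.inr rfl

/-- An outer element times the central involution is conjugate to it. -/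
theorem exists_conj_out_invo (i : ZMod (2 * m)) :
    ∃ s ∈ P, s * (rot x i * y) * s⁻¹ = rot x i * y * invo x m := by
  obtain ⟨k, hk⟩ := D.even_m
  obtain ⟨s, hs, h⟩ := D.out_conj_class i (i + (m : ZMod (2 * m))) ⟨(k : ZMod (2 * m)), by
    rw [add_sub_cancel_left]
    have := congrArg (Nat.cast : ℕ → ZMod (2 * m)) hk
    rwa [Nat.cast_mul, Nat.cast_ofNat] at this⟩
  refine ⟨s, hs, ?_⟩
  rw [h, invo, D.z_comm (D.out_mem i), ← mul_assoc, ← D.rot_add, add_comm]

end MC

namespace Setting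

variable (A : Setting M B b x y m a)
include A

theorem card_le_out {u : G} (hu : u ∈ outReps M b x y) (g : G) (hg : g * u * g⁻¹ ∈ b.1)
    (hgb : conjPair g (bu 2 M b u) = bu 2 M b (g * u * g⁻¹)) :
    Nat.card ↥(b.1 ⊓ Subgroup.centralizer ({g * u * g⁻¹} : Set G)) ≤
      Nat.card ↥(b.1 ⊓ Subgroup.centralizer ({u} : Set G)) := by
  obtain ⟨-, hno, i, hi⟩ := A.outReps_cases hu
  have hcard : Nat.card (b.1 ⊓ Subgroup.centralizer ({u} : Set G) : Subgroup G) = 4 :=
    hi ▸ A.mc.card_centralizer_out i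
  rcases A.mc.cases_mem hg with ⟨j, hj⟩ | ⟨j, hj⟩
  · exact absurd ⟨rot x j, A.mc.rot_mem_zpowers j,
      hj ▸ A.fused_symm (A.outReps_mem hu) ⟨g, rfl, hgb⟩⟩ hno
  · rw [← hj, A.mc.card_centralizer_out, hcard]

theorem pow_defect_out {u : G} (hu : u ∈ outReps M b x y) :
    2 ^ blockDefect 2 (bu 2 M b u).2 = 4 := by
  haveI := Fact.mk Nat.prime_two
  obtain ⟨-, -, i, hi⟩ := A.outReps_cases hu
  obtain ⟨f, b', hQf, -, hb', hmax', -, -⟩ :=
    exists_local A.modular A.max (A.outReps_mem hu) (A.card_le_out hu)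
  haveI := Fintype.ofFinite (Subgroup.centralizer (zpowers u : Set G))
  rw [hQf, ← NilBlock.card_eq A.modular hmax', hb', Nat.card_congr (Subgroup.subgroupOfEquivOfLe
    (inf_le_right.trans (centralizer_zpowers u).ge)).toEquiv, ← hi]
  exact A.mc.card_centralizer_out i

/-- At an outer class the subsection is supported on the members of height zero. -/
theorem out_support (hZ : (zeroSet B).card = 4) {u : G} (hu : u ∈ outReps M b x y) :
    (∀ χ ∈ zeroSet B, 4 * secMat 2 M b u χ χ = 1) ∧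
      ∀ χ, χ ∉ zeroSet B → ∀ ψ, secMat 2 M b u χ ψ = 0 := by
  haveI := Fact.mk Nat.prime_two
  have hM := A.modular
  have huP := A.outReps_mem hu
  obtain ⟨-, -, i, hi⟩ := A.outReps_cases hu
  obtain ⟨j, hj⟩ := NilBlock.exists_orderOf_eq hM A.max huP
  obtain ⟨l, Q, Am, X, hl, -, -, hQA, hA, -, hX, hform, -⟩ :=
    Contrib.exists_columns hM hj (NilBlock.centralizer_bu u) (NilBlock.isInducedBlock_bu hM A.max huP)
  rw [A.blockRank_out hu] at hl
  subst hl
  have h4 : (2 : ℂ) ^ blockDefect 2 (bu 2 M b u).2 = 4 := by exact_mod_cast A.pow_defect_out hu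
  have hQ : (1 : ℝ) ≤ (Q 0 0 : ℝ) := by
    have h := hQA 0 0
    rw [Fin.sum_univ_one, if_pos rfl] at h
    have hA0 : 0 ≤ Am 0 0 := by simpa using hA fun _ => 1
    have hpos : 0 < Q 0 0 * Am 0 0 := h ▸ pow_pos (by norm_num) _
    exact_mod_cast Int.add_one_le_iff.2 (pos_of_mul_pos_left hpos hA0)
  have hpow : ∀ t : ℕ, ¬ 2 ∣ t → ∀ χ ψ, secMat 2 M b (u ^ t) χ ψ = secMat 2 M b u χ ψ := by
    intro t ht χ ψ
    obtain ⟨k, rfl⟩ : Odd t := by rwa [← Nat.not_even_iff_odd, even_iff_two_dvd]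
    have hz : u ^ (2 * k + 1) = u ∨ u ^ (2 * k + 1) = u * invo x m := by
      rw [pow_succ', pow_mul, sq]
      have hinv : invo x m ^ k = 1 ∨ invo x m ^ k = invo x m := by
        rcases Nat.even_or_odd' k with ⟨n, rfl | rfl⟩
        · left
          rw [pow_mul, ← A.orderOf_invo, pow_orderOf_eq_one, one_pow]
        · right
          rw [pow_succ, pow_mul, ← A.orderOf_invo, pow_orderOf_eq_one, one_pow, one_mul]
      rcases A.mc.out_sq_cases i with e | e <;> rw [hi] at e <;> rw [e]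
      · exact Or.inl (by rw [one_pow, mul_one])
      · rcases hinv with e' | e' <;> rw [e']
        · exact Or.inl (mul_one _)
        · exact Or.inr rfl
    rcases hz with e | e <;> rw [e]
    obtain ⟨s, hs, hse⟩ := A.mc.exists_conj_out_invo i
    rw [hi] at hse
    rw [← hse]
    exact secMat_eq_of_fused hM A.max (A.fused_inP huP hs) χ ψ
  have hsq : ∀ t : ℕ, ¬ 2 ∣ t → ∀ χ, 4 * secMat 2 M b u χ χ =
      (((Q 0 0 : ℝ) * ‖X χ 0 t‖ ^ 2 : ℝ) : ℂ) := by
    intro t ht χ
    have hcop : (orderOf u).Coprime t :=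
      hj ▸ Nat.Coprime.pow_left j (Nat.prime_two.coprime_iff_not_dvd.2 ht)
    rw [← hpow t ht, secMat, NilBlock.con, NilBlock.bu_pow hM A.max.1.1 huP hcop]
    have h := hform t ht χ χ
    rw [Nat.cast_ofNat, h4] at h
    refine h.trans ?_
    rw [Fin.sum_univ_one, Fin.sum_univ_one, ← Complex.normSq_eq_norm_sq]
    push_cast
    rw [← Complex.mul_conj]
    ring
  have h1 : ¬ 2 ∣ 1 := by norm_num
  set c : IrrCharacter G → ℝ := fun χ => (Q 0 0 : ℝ) * ‖X χ 0 1‖ ^ 2 with hc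
  have hc0 : ∀ χ, 0 ≤ c χ := fun χ => by positivity
  have hlow : ∀ χ ∈ zeroSet B, 1 ≤ c χ := by
    intro χ hχ
    obtain ⟨hχB, hχ0⟩ := mem_zeroSet.1 hχ
    have hne := A.not_memLocalIdeal_secMat huP (A.card_le_out hu) hχB hχ0
    rw [← hi, A.mc.card_centralizer_out, hi, Nat.cast_ofNat, hsq 1 h1] at hne
    have hX1 : X χ 0 1 ≠ 0 := fun e => hne (by
      rw [e, norm_zero, zero_pow two_ne_zero, mul_zero, Complex.ofReal_zero]
      exact Blocks.memLocalIdeal_zero)
    have hmean := (hX χ 0).card_le_sum_norm_sq Nat.prime_two j.succ_pos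
      (Contrib.isPrimitiveRoot_theRoot 2 j) hX1
    set U := Contrib.primResidues 2 (j + 1) with hU
    have hall : ∀ t ∈ U, (Q 0 0 : ℝ) * ‖X χ 0 t‖ ^ 2 = c χ := fun t ht => by
      have := (hsq t (Finset.mem_filter.1 ht).2 χ).symm.trans (hsq 1 h1 χ)
      exact_mod_cast this
    have h2 : (Q 0 0 : ℝ) * (U.card : ℝ) ≤ (U.card : ℝ) * c χ := by
      refine (mul_le_mul_of_nonneg_left hmean (le_trans zero_le_one hQ)).trans (le_of_eq ?_)
      rw [Finset.mul_sum, Finset.sum_congr rfl hall, Finset.sum_const, nsmul_eq_mul]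
    have hUpos : (0 : ℝ) < U.card := by
      rw [Nat.cast_pos, Finset.card_pos]
      exact ⟨1, Contrib.one_mem_primResidues Nat.prime_two j.succ_pos⟩
    nlinarith
  have htot : ∑ χ ∈ B.toFinset, c χ = 4 := by
    have : ((∑ χ ∈ B.toFinset, c χ : ℝ) : ℂ) = 4 := by
      rw [Complex.ofReal_sum, Finset.sum_congr rfl fun χ _ => (hsq 1 h1 χ).symm, ← Finset.mul_sum,
        sum_secMat_self hM A.max huP, A.blockRank_out hu, Nat.cast_one, mul_one]
    exact_mod_cast this
  have hsub : zeroSet B ⊆ B.toFinset := Finset.filter_subset _ _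
  rw [← Finset.sum_sdiff hsub] at htot
  have hZlow : (4 : ℝ) ≤ ∑ χ ∈ zeroSet B, c χ :=
    le_trans (by rw [Finset.sum_const, hZ, nsmul_one]; norm_num) (Finset.sum_le_sum hlow)
  have hnon : 0 ≤ ∑ χ ∈ B.toFinset \ zeroSet B, c χ := Finset.sum_nonneg fun χ _ => hc0 χ
  have hZeq : ∀ χ ∈ zeroSet B, c χ = 1 := by
    have h := (Finset.sum_eq_sum_iff_of_le hlow).1 (by
      rw [Finset.sum_const, hZ, nsmul_one]
      push_cast
      linarith)
    exact fun χ hχ => (h χ hχ).symm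
  have hrest : ∀ χ ∈ B.toFinset \ zeroSet B, c χ = 0 :=
    (Finset.sum_eq_zero_iff_of_nonneg fun χ _ => hc0 χ).1 (by linarith)
  refine ⟨fun χ hχ => ?_, fun χ hχ ψ => ?_⟩
  · rw [hsq 1 h1, show (Q 0 0 : ℝ) * ‖X χ 0 1‖ ^ 2 = 1 from hZeq χ hχ, Complex.ofReal_one]
  by_cases hχB : χ ∈ B
  swap
  · exact secMat_eq_zero hM A.max huP hχB ψ
  have hzero : secMat 2 M b u χ χ = 0 := by
    have h := hsq 1 h1 χ
    rw [show (Q 0 0 : ℝ) * ‖X χ 0 1‖ ^ 2 = 0 from
      hrest χ (Finset.mem_sdiff.2 ⟨Set.mem_toFinset.2 hχB, hχ⟩), Complex.ofReal_zero] at h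
    exact (mul_eq_zero.1 h).resolve_left (by norm_num)
  by_cases hψ : ψ ∈ B
  swap
  · rw [← conj_secMat u ψ χ, secMat_eq_zero hM A.max huP hψ, map_zero]
  have h0 : ∑ φ ∈ B.toFinset, Complex.normSq (secMat 2 M b u χ φ) = 0 := by
    have h : ((∑ φ ∈ B.toFinset, Complex.normSq (secMat 2 M b u χ φ) : ℝ) : ℂ) = 0 := by
      rw [Complex.ofReal_sum, ← hzero, ← secMat_idem hM A.max huP χ χ]
      exact Finset.sum_congr rfl fun φ _ => by rw [← conj_secMat u χ φ, Complex.mul_conj]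
    exact_mod_cast h
  exact Complex.normSq_eq_zero.1
    ((Finset.sum_eq_zero_iff_of_nonneg fun φ _ => Complex.normSq_nonneg _).1 h0 ψ
      (Set.mem_toFinset.2 hψ))

end Setting

end Cfsg.Agent.Lib.MaxClassDefect
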