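import Mathlib

/-!
# Integer vectors with the Gram matrix of a block with maximal class defect group
-/

set_option autoImplicit false

namespace Cfsg.Agent.Lib.MaxClassDefect

universe u v

variable {I : Type u} {ι : Type v} [DecidableEq I] [DecidableEq ι]

/-- The Gram data: `δ`, the vectors `w` (even orbits) and the differences of `l` (odd orbits). -/
structure Gram (T : Finset I) (J₀ J₁ : Finset ι) (δ : I → ℤ) (w l : ι → I → ℤ) (v : I → ℤ) :
    Prop where
  disjoint : ∀ p ∈ J₁, ∀ i ∈ J₀, p ≠ i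
  delta : ∑ χ ∈ T, δ χ * δ χ = 4
  odd : ∃ χ ∈ T, Odd (δ χ)
  self : ∀ i ∈ J₀, ∑ χ ∈ T, w i χ * w i χ = 3
  pair : ∀ i ∈ J₀, ∀ k ∈ J₀, i ≠ k → ∑ χ ∈ T, w i χ * w k χ = 2
  cross : ∀ i ∈ J₀, ∑ χ ∈ T, w i χ * δ χ = 2
  diff : ∀ p ∈ J₁, ∀ q ∈ J₁, ∀ r ∈ J₁, ∀ s ∈ J₁,
    ∑ χ ∈ T, (l p χ - l q χ) * (l r χ - l s χ) =
      (if p = r then 1 else 0) - (if p = s then 1 else 0) - (if q = r then 1 else 0) +
        (if q = s then 1 else 0)
  diff_delta : ∀ p ∈ J₁, ∀ q ∈ J₁, ∑ χ ∈ T, (l p χ - l q χ) * δ χ = 0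
  diff_w : ∀ p ∈ J₁, ∀ q ∈ J₁, ∀ i ∈ J₀, ∑ χ ∈ T, (l p χ - l q χ) * w i χ = 0
  ne_zero : ∀ χ ∈ T, v χ ≠ 0
  diff_v : ∀ p ∈ J₁, ∀ q ∈ J₁, ∑ χ ∈ T, (l p χ - l q χ) * v χ = 0

/-- The members where `δ` does not vanish. -/
def supp4 (T : Finset I) (δ : I → ℤ) : Finset I := T.filter fun χ => δ χ ≠ 0

/-- No vector of signs on the support of `δ` is orthogonal to everything. -/
def NoSigns (T : Finset I) (J₀ J₁ : Finset ι) (δ : I → ℤ) (w l : ι → I → ℤ) : Prop :=
  ∀ σ : I → ℤ, (∀ χ ∈ T, δ χ ≠ 0 → σ χ = 1 ∨ σ χ = -1) → (∀ χ ∈ T, δ χ = 0 → σ χ = 0) →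
    (∑ χ ∈ T, δ χ * σ χ = 0) → (∀ i ∈ J₀, ∑ χ ∈ T, w i χ * σ χ = 0) →
    (∀ p ∈ J₁, ∀ q ∈ J₁, ∑ χ ∈ T, (l p χ - l q χ) * σ χ = 0) → False

/-- The regular configuration. -/
def Regular (T : Finset I) (J₀ J₁ : Finset ι) (δ : I → ℤ) (w l : ι → I → ℤ) : Prop :=
  (∀ χ ∈ T, δ χ ≠ 0 → ((∀ i ∈ J₀, w i χ = 0) ∨ (∀ i ∈ J₀, w i χ = δ χ)) ∧
      ∀ p ∈ J₁, ∀ q ∈ J₁, l p χ = l q χ) ∧
    ∃ (E : Finset I) (idx : I → ι) (sg : I → ℤ),
      E ⊆ T ∧ (∀ χ ∈ E, δ χ = 0) ∧
      E.card = (if J₁.card ≤ 1 then J₀.card else J₀.card + J₁.card) ∧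
      (∀ χ ∈ E, (idx χ ∈ J₀ ∨ idx χ ∈ J₁) ∧ (sg χ = 1 ∨ sg χ = -1) ∧
        (∀ i ∈ J₀, w i χ = if i = idx χ then sg χ else 0) ∧
        (∀ p ∈ J₁, ∀ q ∈ J₁, l p χ - l q χ =
          (if p = idx χ then sg χ else 0) - (if q = idx χ then sg χ else 0))) ∧
      ∀ χ ∈ T, δ χ = 0 → χ ∉ E →
        (∀ i ∈ J₀, w i χ = 0) ∧ ∀ p ∈ J₁, ∀ q ∈ J₁, l p χ = l q χ

/-- The exceptional configurations. -/
def Special (T : Finset I) (J₀ J₁ : Finset ι) (δ : I → ℤ) (w l : ι → I → ℤ) : Prop :=
  NoSigns T J₀ J₁ δ w l ∧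
    (∃ χ ∈ T, δ χ ≠ 0 ∧ ((∀ i ∈ J₀, w i χ = 0) ∨ (∀ i ∈ J₀, w i χ = δ χ)) ∧
      ∀ p ∈ J₁, ∀ q ∈ J₁, l p χ = l q χ) ∧
    (T.filter fun χ => δ χ ≠ 0 ∨ (∃ i ∈ J₀, w i χ ≠ 0) ∨
        ∃ p ∈ J₁, ∃ q ∈ J₁, l p χ ≠ l q χ).card = J₀.card + J₁.card + 2 ∧
    ((∃ χ ∈ T, δ χ ≠ 0 ∧ ∃ p ∈ J₁, ∃ q ∈ J₁, l p χ ≠ l q χ) ∨
      (J₁.card = 4 ∧ ∃ S ⊆ T, S.card = 5 ∧ (∀ χ ∈ S, δ χ ≠ 0 ∨ ∃ i ∈ J₀, w i χ ≠ 0) ∧
        ∀ χ ∈ T, χ ∉ S → (δ χ ≠ 0 ∨ (∃ i ∈ J₀, w i χ ≠ 0) ∨
          ∃ p ∈ J₁, ∃ q ∈ J₁, l p χ ≠ l q χ) → ∃ p ∈ J₁, ∃ q ∈ J₁, l p χ ≠ l q χ))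

namespace Gram

variable {T : Finset I} {J₀ J₁ : Finset ι} {δ : I → ℤ} {w l : ι → I → ℤ} {v : I → ℤ}
  (S : Gram T J₀ J₁ δ w l v)
include S

theorem delta_unit {χ : I} (hχ : χ ∈ T) : δ χ = -1 ∨ δ χ = 0 ∨ δ χ = 1 := by
  have hle : δ χ * δ χ ≤ 4 :=
    S.delta ▸ Finset.single_le_sum (f := fun χ => δ χ * δ χ) (fun i _ => mul_self_nonneg _) hχ
  have hb : -2 ≤ δ χ ∧ δ χ ≤ 2 := ⟨by nlinarith, by nlinarith⟩
  by_contra hne
  have he : δ χ = 2 ∨ δ χ = -2 := by omega
  have he4 : δ χ * δ χ = 4 := by rcases he with h | h <;> rw [h] <;> norm_num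
  obtain ⟨χ', hχ', hodd⟩ := S.odd
  have hne' : χ' ≠ χ := fun e => by
    rw [e] at hodd
    rcases he with h | h <;> rw [h] at hodd <;> exact absurd hodd (by decide)
  have h := S.delta
  rw [← Finset.add_sum_erase _ _ hχ, he4] at h
  have h0 := (Finset.sum_eq_zero_iff_of_nonneg fun i _ => mul_self_nonneg (δ i)).1
    (by linarith : ∑ i ∈ T.erase χ, δ i * δ i = 0) χ' (Finset.mem_erase.2 ⟨hne', hχ'⟩)
  rw [mul_self_eq_zero.1 h0] at hodd
  exact absurd hodd (by decide)

theorem card_supp4 : (supp4 T δ).card = 4 := by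
  have : (((supp4 T δ).card : ℕ) : ℤ) = 4 := by
    rw [← S.delta, supp4, Finset.card_filter]
    push_cast
    refine Finset.sum_congr rfl fun χ hχ => ?_
    rcases S.delta_unit hχ with h | h | h <;> simp [h]
  exact_mod_cast this

theorem delta_ne {χ : I} (hχ : χ ∈ supp4 T δ) : δ χ = 1 ∨ δ χ = -1 := by
  obtain ⟨hT, hne⟩ := Finset.mem_filter.1 hχ
  rcases S.delta_unit hT with h | h | h
  · exact Or.inr h
  · exact absurd h hne
  · exact Or.inl h

omit S in
theorem unit_of_sum {f : I → ℤ} {c : ℤ} (h : ∑ χ ∈ T, f χ * f χ = c) (hc : c ≤ 3) {χ : I}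
    (hχ : χ ∈ T) : f χ = -1 ∨ f χ = 0 ∨ f χ = 1 := by
  have hle : f χ * f χ ≤ 3 :=
    (h ▸ Finset.single_le_sum (f := fun χ => f χ * f χ) (fun i _ => mul_self_nonneg _) hχ).trans hc
  have h1 : f χ ≤ 1 := by nlinarith
  have h2 : -1 ≤ f χ := by nlinarith
  omega

/-- Each vector `w i` meets the support in a pair and leaves it once. -/
theorem exists_pair {i : ι} (hi : i ∈ J₀) :
    ∃ (P : Finset I) (e : I), P ⊆ supp4 T δ ∧ P.card = 2 ∧ e ∈ T ∧ δ e = 0 ∧ w i e ≠ 0 ∧
      (∀ χ ∈ P, w i χ = δ χ) ∧ ∀ χ ∈ T, χ ∉ P → χ ≠ e → w i χ = 0 := by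
  set H := supp4 T δ with hH
  set P := H.filter fun χ => w i χ = δ χ with hP
  set N := H.filter fun χ => w i χ = -δ χ with hN
  set O := T.filter fun χ => δ χ = 0 ∧ w i χ ≠ 0 with hO
  have hval : ∀ χ ∈ T, w i χ = -1 ∨ w i χ = 0 ∨ w i χ = 1 := fun χ hχ =>
    unit_of_sum (S.self i hi) le_rfl hχ
  have h1 : ((P.card : ℤ)) - N.card = 2 := by
    rw [← S.cross i hi, hP, hN, hH, supp4]
    simp only [Finset.filter_filter, Finset.card_filter]
    push_cast
    rw [← Finset.sum_sub_distrib]
    refine Finset.sum_congr rfl fun χ hχ => ?_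
    rcases S.delta_unit hχ with h | h | h <;> rcases hval χ hχ with h' | h' | h' <;> simp [h, h']
  have h2 : (P.card : ℤ) + N.card + O.card = 3 := by
    rw [← S.self i hi, hP, hN, hO, hH, supp4]
    simp only [Finset.filter_filter, Finset.card_filter]
    push_cast
    rw [← Finset.sum_add_distrib, ← Finset.sum_add_distrib]
    refine Finset.sum_congr rfl fun χ hχ => ?_
    rcases S.delta_unit hχ with h | h | h <;> rcases hval χ hχ with h' | h' | h' <;> simp [h, h']
  have hP4 : P.card ≤ 3 := by omega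
  -- the inner product with itself forces a pair
  have hN0 : N.card = 0 := by omega
  have hP2 : P.card = 2 := by omega
  obtain ⟨e, he⟩ := Finset.card_eq_one.1 (show O.card = 1 by omega)
  have heO : e ∈ O := by rw [he]; exact Finset.mem_singleton_self e
  obtain ⟨heT, he0, hew⟩ := Finset.mem_filter.1 heO
  refine ⟨P, e, Finset.filter_subset _ _, hP2, heT, he0, hew,
    fun χ hχ => (Finset.mem_filter.1 hχ).2, fun χ hχ hχP hne => ?_⟩
  by_contra h0
  by_cases hd : δ χ = 0
  · have : χ ∈ O := Finset.mem_filter.2 ⟨hχ, hd, h0⟩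
    rw [he, Finset.mem_singleton] at this
    exact hne this
  · have hχH : χ ∈ H := Finset.mem_filter.2 ⟨hχ, hd⟩
    have hn : w i χ ≠ -δ χ := fun h => absurd (Finset.card_eq_zero.1 hN0)
      (Finset.nonempty_iff_ne_empty.1 ⟨χ, Finset.mem_filter.2 ⟨hχH, h⟩⟩)
    have hp : w i χ ≠ δ χ := fun h => hχP (Finset.mem_filter.2 ⟨hχH, h⟩)
    rcases S.delta_unit hχ with h | h | h <;> rcases hval χ hχ with h' | h' | h' <;> omega

theorem diff_self {p q : ι} (hp : p ∈ J₁) (hq : q ∈ J₁) (hpq : p ≠ q) :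
    ∑ χ ∈ T, (l p χ - l q χ) * (l p χ - l q χ) = 2 := by
  rw [S.diff p hp q hq p hp q hq, if_pos rfl, if_neg hpq, if_neg hpq.symm, if_pos rfl]
  norm_num

/-- Each difference is supported on two members, both inside or both outside. -/
theorem exists_diff_pair {p q : ι} (hp : p ∈ J₁) (hq : q ∈ J₁) (hpq : p ≠ q) :
    ∃ a b : I, a ≠ b ∧ a ∈ T ∧ b ∈ T ∧ (l p a - l q a = 1 ∨ l p a - l q a = -1) ∧
      (l p b - l q b = 1 ∨ l p b - l q b = -1) ∧
      (∀ χ ∈ T, χ ≠ a → χ ≠ b → l p χ = l q χ) ∧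
      ((δ a = 0 ∧ δ b = 0) ∨
        (δ a ≠ 0 ∧ δ b ≠ 0 ∧ δ a * (l p a - l q a) = -(δ b * (l p b - l q b)))) := by
  have hval : ∀ χ ∈ T, l p χ - l q χ = -1 ∨ l p χ - l q χ = 0 ∨ l p χ - l q χ = 1 := fun χ hχ =>
    unit_of_sum (S.diff_self hp hq hpq) (by norm_num) hχ
  have hc : (T.filter fun χ => l p χ - l q χ ≠ 0).card = 2 := by
    have : (((T.filter fun χ => l p χ - l q χ ≠ 0).card : ℕ) : ℤ) = 2 := by
      rw [← S.diff_self hp hq hpq, Finset.card_filter]
      push_cast
      refine Finset.sum_congr rfl fun χ hχ => ?_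
      rcases hval χ hχ with h | h | h <;> simp [h]
    exact_mod_cast this
  obtain ⟨a, b, hab, hset⟩ := Finset.card_eq_two.1 hc
  have ha : a ∈ T.filter fun χ => l p χ - l q χ ≠ 0 := by rw [hset]; simp
  have hb : b ∈ T.filter fun χ => l p χ - l q χ ≠ 0 := by rw [hset]; simp
  obtain ⟨haT, ha0⟩ := Finset.mem_filter.1 ha
  obtain ⟨hbT, hb0⟩ := Finset.mem_filter.1 hb
  have hout : ∀ χ ∈ T, χ ≠ a → χ ≠ b → l p χ = l q χ := by
    intro χ hχ n1 n2
    by_contra h
    have : χ ∈ T.filter fun χ => l p χ - l q χ ≠ 0 :=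
      Finset.mem_filter.2 ⟨hχ, sub_ne_zero.2 h⟩
    rw [hset] at this
    simp [n1, n2] at this
  refine ⟨a, b, hab, haT, hbT, ?_, ?_, hout, ?_⟩
  · have := hval a haT; omega
  · have := hval b hbT; omega
  · have h := S.diff_delta p hp q hq
    rw [Finset.sum_eq_add a b hab (fun χ hχ hne => by
      rw [hout χ hχ hne.1 hne.2, sub_self, zero_mul]) (fun h => absurd haT h)
      (fun h => absurd hbT h)] at h
    by_cases hda : δ a = 0
    · left
      refine ⟨hda, ?_⟩
      rw [hda, mul_zero, zero_add] at h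
      exact (mul_eq_zero.1 h).resolve_left hb0
    · right
      refine ⟨hda, fun hdb => ?_, by linarith⟩
      rw [hdb, mul_zero, add_zero] at h
      exact hda ((mul_eq_zero.1 h).resolve_left ha0)

/-- Differences lying outside form a star. -/
theorem exists_star (hne : J₁.Nonempty) (h3 : J₁.card ≠ 3) (h2 : 1 < J₁.card)
    (hout : ∀ p ∈ J₁, ∀ q ∈ J₁, ∀ χ ∈ T, δ χ ≠ 0 → l p χ = l q χ) :
    ∃ (f : ι → I) (s : ι → ℤ), Set.InjOn f J₁ ∧
      (∀ p ∈ J₁, f p ∈ T ∧ δ (f p) = 0 ∧ (s p = 1 ∨ s p = -1)) ∧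
      ∀ p ∈ J₁, ∀ q ∈ J₁, ∀ χ ∈ T, l p χ - l q χ =
        (if χ = f p then s p else 0) - (if χ = f q then s q else 0) := by
  obtain ⟨p₀, hp₀⟩ := hne
  have hex : ∀ p ∈ J₁.erase p₀, ∃ a b : I, a ≠ b ∧ a ∈ T ∧ b ∈ T ∧ δ a = 0 ∧ δ b = 0 ∧
      (l p₀ a - l p a = 1 ∨ l p₀ a - l p a = -1) ∧ (l p₀ b - l p b = 1 ∨ l p₀ b - l p b = -1) ∧
      ∀ χ ∈ T, χ ≠ a → χ ≠ b → l p₀ χ = l p χ := by
    intro p hp
    obtain ⟨hne, hpJ⟩ := Finset.mem_erase.1 hp
    obtain ⟨a, b, hab, haT, hbT, va, vb, hz, h | ⟨h, -, -⟩⟩ := S.exists_diff_pair hp₀ hpJ hne.symm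
    · exact ⟨a, b, hab, haT, hbT, h.1, h.2, va, vb, hz⟩
    · have := hout p₀ hp₀ p hpJ a haT h
      omega
  -- a common point
  have hinner : ∀ p ∈ J₁.erase p₀, ∀ q ∈ J₁.erase p₀, p ≠ q →
      ∑ χ ∈ T, (l p₀ χ - l p χ) * (l p₀ χ - l q χ) = 1 := by
    intro p hp q hq hpq
    obtain ⟨n1, hpJ⟩ := Finset.mem_erase.1 hp
    obtain ⟨n2, hqJ⟩ := Finset.mem_erase.1 hq
    rw [S.diff p₀ hp₀ p hpJ p₀ hp₀ q hqJ, if_pos rfl, if_neg n2.symm, if_neg n1, if_neg hpq]
    norm_num
  have hshare : ∀ p ∈ J₁.erase p₀, ∀ q ∈ J₁.erase p₀, p ≠ q → ∀ a b : I, a ≠ b →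
      a ∈ T → b ∈ T → (∀ χ ∈ T, χ ≠ a → χ ≠ b → l p₀ χ = l p χ) →
      (l p₀ a - l p a = 1 ∨ l p₀ a - l p a = -1) → (l p₀ b - l p b = 1 ∨ l p₀ b - l p b = -1) →
      (l p₀ a - l q a = l p₀ a - l p a ∧ l p₀ b - l q b = 0) ∨
        (l p₀ a - l q a = 0 ∧ l p₀ b - l q b = l p₀ b - l p b) := by
    intro p hp q hq hpq a b hab haT hbT hz va vb
    have h := hinner p hp q hq hpq
    rw [Finset.sum_eq_add a b hab (fun χ hχ hne => by
      rw [hz χ hχ hne.1 hne.2, sub_self, zero_mul]) (fun h => absurd haT h)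
      (fun h => absurd hbT h)] at h
    obtain ⟨n2, hqJ⟩ := Finset.mem_erase.1 hq
    have hqa := unit_of_sum (S.diff_self hp₀ hqJ n2.symm) (by norm_num) haT
    have hqb := unit_of_sum (S.diff_self hp₀ hqJ n2.symm) (by norm_num) hbT
    rcases va with va | va <;> rcases vb with vb | vb <;> rcases hqa with qa | qa | qa <;>
      rcases hqb with qb | qb | qb <;> rw [va, vb, qa, qb] at h <;> omega
  obtain ⟨p₁, hp₁⟩ : (J₁.erase p₀).Nonempty := by
    rw [← Finset.card_pos, Finset.card_erase_of_mem hp₀]; omega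
  obtain ⟨a₁, b₁, hab₁, ha₁, hb₁, da₁, db₁, va₁, vb₁, hz₁⟩ := hex p₁ hp₁
  -- the centre
  have hcentre : ∃ c ∈ T, δ c = 0 ∧ (l p₀ c - l p₁ c = 1 ∨ l p₀ c - l p₁ c = -1) ∧
      ∀ p ∈ J₁.erase p₀, l p₀ c - l p c = l p₀ c - l p₁ c := by
    by_cases hall : ∀ p ∈ J₁.erase p₀, l p₀ a₁ - l p a₁ = l p₀ a₁ - l p₁ a₁
    · exact ⟨a₁, ha₁, da₁, va₁, hall⟩
    by_cases hall' : ∀ p ∈ J₁.erase p₀, l p₀ b₁ - l p b₁ = l p₀ b₁ - l p₁ b₁
    · exact ⟨b₁, hb₁, db₁, vb₁, hall'⟩
    exfalso
    push Not at hall hall'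
    obtain ⟨p, hp, hpa⟩ := hall
    obtain ⟨q, hq, hqb⟩ := hall'
    have hp1 : p₁ ≠ p := fun e => hpa (by rw [e])
    have hq1 : p₁ ≠ q := fun e => hqb (by rw [e])
    obtain ⟨hpa0, hpb⟩ := (hshare p₁ hp₁ p hp hp1 a₁ b₁ hab₁ ha₁ hb₁ hz₁ va₁ vb₁).resolve_left
      fun h => hpa h.1
    obtain ⟨hqa, hqb0⟩ := (hshare p₁ hp₁ q hq hq1 a₁ b₁ hab₁ ha₁ hb₁ hz₁ va₁ vb₁).resolve_right
      fun h => hqb h.2
    have hpq : p ≠ q := fun e => by
      rw [e] at hpa0
      rw [hpa0] at hqa
      rcases va₁ with h | h <;> omega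
    obtain ⟨n1, hpJ⟩ := Finset.mem_erase.1 hp
    obtain ⟨n2, hqJ⟩ := Finset.mem_erase.1 hq
    obtain ⟨n0, hp₁J⟩ := Finset.mem_erase.1 hp₁
    -- the third point
    obtain ⟨a, b, hab, haT, hbT, -, -, va, vb, hz⟩ := hex p hp
    have hb_in : b₁ = a ∨ b₁ = b := by
      by_contra hn
      simp only [not_or] at hn
      have := hz b₁ hb₁ hn.1 hn.2
      rcases vb₁ with h | h <;> omega
    obtain ⟨c, hcT, hcb, vc, hzc⟩ : ∃ c, c ∈ T ∧ c ≠ b₁ ∧
        (l p₀ c - l p c = 1 ∨ l p₀ c - l p c = -1) ∧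
        ∀ χ ∈ T, χ ≠ b₁ → χ ≠ c → l p₀ χ = l p χ := by
      rcases hb_in with e | e
      · exact ⟨b, hbT, fun h => hab (by rw [h, e]), vb, fun χ hχ m1 m2 => hz χ hχ (e ▸ m1) m2⟩
      · exact ⟨a, haT, fun h => hab (by rw [h, e]), va, fun χ hχ m1 m2 => hz χ hχ m2 (e ▸ m1)⟩
    have vb' : l p₀ b₁ - l p b₁ = 1 ∨ l p₀ b₁ - l p b₁ = -1 := by rw [hpb]; exact vb₁
    obtain ⟨-, hqc⟩ := (hshare p hp q hq hpq b₁ c hcb.symm hb₁ hcT hzc vb' vc).resolve_left
      fun h => by rw [hqb0] at h; rcases vb' with e | e <;> omega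
    have hca : c ≠ a₁ := fun e => by
      rw [e, hpa0] at vc
      omega
    -- the vector that vanishes nowhere
    have e1 := S.diff_v p₀ hp₀ p₁ hp₁J
    rw [Finset.sum_eq_add a₁ b₁ hab₁ (fun χ hχ hne => by
      rw [hz₁ χ hχ hne.1 hne.2, sub_self, zero_mul]) (fun h => absurd ha₁ h)
      (fun h => absurd hb₁ h)] at e1
    have e2 := S.diff_v p₀ hp₀ p hpJ
    rw [Finset.sum_eq_add b₁ c hcb.symm (fun χ hχ hne => by
      rw [hzc χ hχ hne.1 hne.2, sub_self, zero_mul]) (fun h => absurd hb₁ h)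
      (fun h => absurd hcT h), hpb] at e2
    have hqz : ∀ χ ∈ T, χ ≠ a₁ → χ ≠ c → l p₀ χ = l q χ := by
      obtain ⟨a', b', -, -, -, -, -, -, -, hz'⟩ := hex q hq
      intro χ hχ m1 m2
      by_contra hne
      have hmem : ∀ z ∈ T, l p₀ z ≠ l q z → z = a' ∨ z = b' := fun z hz hn => by
        by_contra h
        simp only [not_or] at h
        exact hn (hz' z ‹z ∈ T› h.1 h.2)
      have h1 := hmem a₁ ha₁ (fun e => by rw [e, sub_self] at hqa; rcases va₁ with h | h <;> omega)
      have h2 := hmem c hcT (fun e => by rw [e, sub_self] at hqc; rcases vc with h | h <;> omega)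
      have h3 := hmem χ hχ hne
      rcases h1 with rfl | rfl <;> rcases h2 with rfl | rfl <;> rcases h3 with rfl | rfl <;>
        contradiction
    have e3 := S.diff_v p₀ hp₀ q hqJ
    rw [Finset.sum_eq_add a₁ c hca.symm (fun χ hχ hne => by
      rw [hqz χ hχ hne.1 hne.2, sub_self, zero_mul]) (fun h => absurd ha₁ h)
      (fun h => absurd hcT h), hqa, hqc] at e3
    have : (l p₀ a₁ - l p₁ a₁) * v a₁ = 0 := by linarith
    rcases mul_eq_zero.1 this with h | h
    · rcases va₁ with h' | h' <;> omega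
    · exact S.ne_zero a₁ ha₁ h
  obtain ⟨c, hcT, hdc, vc, hc⟩ := hcentre
  have hleaf : ∀ p, ∃ b : I, p ∈ J₁.erase p₀ → b ≠ c ∧ b ∈ T ∧ δ b = 0 ∧
      (l p₀ b - l p b = 1 ∨ l p₀ b - l p b = -1) ∧
      ∀ χ ∈ T, χ ≠ c → χ ≠ b → l p₀ χ = l p χ := by
    intro p
    by_cases hp : p ∈ J₁.erase p₀
    swap
    · exact ⟨c, fun h => absurd h hp⟩
    obtain ⟨a, b, hab, haT, hbT, da, db, va, vb, hz⟩ := hex p hp
    have hin : c = a ∨ c = b := by
      by_contra hn
      simp only [not_or] at hn
      have := hz c hcT hn.1 hn.2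
      have := hc p hp
      rcases vc with h | h <;> omega
    rcases hin with e | e
    · exact ⟨b, fun _ => ⟨fun h => hab (by rw [h, e]), hbT, db, vb,
        fun χ hχ m1 m2 => hz χ hχ (e ▸ m1) m2⟩⟩
    · exact ⟨a, fun _ => ⟨fun h => hab (by rw [h, e]), haT, da, va,
        fun χ hχ m1 m2 => hz χ hχ m2 (e ▸ m1)⟩⟩
  choose g hg using hleaf
  have hginj : ∀ p ∈ J₁.erase p₀, ∀ q ∈ J₁.erase p₀, g p = g q → p = q := by
    intro p hp q hq e
    by_contra hpq
    obtain ⟨gc, gT, -, gv, gz⟩ := hg p hp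
    rcases hshare p hp q hq hpq c (g p) gc.symm hcT gT gz
      (by rw [hc p hp]; exact vc) gv with ⟨-, h⟩ | ⟨h, -⟩
    · obtain ⟨-, -, -, qv, -⟩ := hg q hq
      rw [← e, h] at qv
      omega
    · rw [hc q hq] at h
      omega
  refine ⟨fun p => if p = p₀ then c else g p,
    fun p => if p = p₀ then l p₀ c - l p₁ c else -(l p₀ (g p) - l p (g p)), ?_, ?_, ?_⟩
  · intro p hp q hq e
    by_contra hpq
    by_cases h1 : p = p₀ <;> by_cases h2 : q = p₀ <;> simp only [h1, h2, if_true, if_false] at e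
    · exact hpq (h1.trans h2.symm)
    · exact (hg q (Finset.mem_erase.2 ⟨h2, hq⟩)).1 e.symm
    · exact (hg p (Finset.mem_erase.2 ⟨h1, hp⟩)).1 e
    · exact hpq (hginj p (Finset.mem_erase.2 ⟨h1, hp⟩) q (Finset.mem_erase.2 ⟨h2, hq⟩) e)
  · intro p hp
    by_cases h1 : p = p₀
    · simp only [h1, if_true]
      exact ⟨hcT, hdc, vc⟩
    · obtain ⟨-, gT, gd, gv, -⟩ := hg p (Finset.mem_erase.2 ⟨h1, hp⟩)
      simp only [h1, if_false]
      exact ⟨gT, gd, by omega⟩
  · have key : ∀ p ∈ J₁, ∀ χ ∈ T, l p₀ χ - l p χ = (if χ = c then l p₀ c - l p₁ c else 0) -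
        (if χ = (if p = p₀ then c else g p) then
          (if p = p₀ then l p₀ c - l p₁ c else -(l p₀ (g p) - l p (g p))) else 0) := by
      intro p hp χ hχ
      by_cases h1 : p = p₀
      · simp [h1]
      · obtain ⟨gc, -, -, -, gz⟩ := hg p (Finset.mem_erase.2 ⟨h1, hp⟩)
        simp only [h1, if_false]
        by_cases e1 : χ = c
        · rw [if_pos e1, if_neg (fun e => gc (e.symm.trans e1)), e1,
            hc p (Finset.mem_erase.2 ⟨h1, hp⟩), sub_zero]
        · rw [if_neg e1]
          by_cases e2 : χ = g p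
          · rw [if_pos e2, e2]; ring
          · rw [if_neg e2, gz χ hχ e1 e2, sub_self, sub_zero]
    intro p hp q hq χ hχ
    have e1 := key p hp χ hχ
    have e2 := key q hq χ hχ
    linarith

/-- Pairs meeting pairwise in one point are at most three. -/
theorem card_le_three {A : Finset ι} {P : ι → Finset I}
    (hP : ∀ i ∈ A, P i ⊆ supp4 T δ ∧ (P i).card = 2)
    (hmeet : ∀ i ∈ A, ∀ k ∈ A, i ≠ k → (P i ∩ P k).card = 1) : A.card ≤ 3 := by
  set H := supp4 T δ
  have hH4 : H.card = 4 := S.card_supp4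
  have hPinj : Set.InjOn P A := fun j hj k hk h => by
    by_contra hne
    have := hmeet j hj k hk hne
    rw [h, Finset.inter_self, (hP k hk).2] at this
    omega
  have hcompl : ∀ j ∈ A, ∀ k ∈ A, H \ P j ≠ P k := by
    intro j hj k hk h
    rcases eq_or_ne j k with rfl | hne
    · obtain ⟨x, hx⟩ := Finset.card_pos.1 (show 0 < (P j).card by rw [(hP j hj).2]; norm_num)
      exact (Finset.mem_sdiff.1 (h.symm ▸ hx : x ∈ H \ P j)).2 hx
    · have := hmeet j hj k hk hne
      rw [← h, Finset.inter_sdiff_self, Finset.card_empty] at this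
      omega
  have hdisj : Disjoint (A.image P) (A.image fun j => H \ P j) := by
    refine Finset.disjoint_left.2 fun X hX hX' => ?_
    obtain ⟨k, hk, rfl⟩ := Finset.mem_image.1 hX
    obtain ⟨j, hj, h⟩ := Finset.mem_image.1 hX'
    exact hcompl j hj k hk h
  have h1 := Finset.card_le_card (s := A.image P ∪ A.image fun j => H \ P j)
    (t := H.powersetCard 2) ?_
  · rw [Finset.card_union_of_disjoint hdisj, Finset.card_image_of_injOn hPinj,
      Finset.card_image_of_injOn, Finset.card_powersetCard, hH4,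
      show Nat.choose 4 2 = 6 by decide] at h1
    · omega
    · intro j hj k hk h
      refine hPinj hj hk ?_
      rw [← Finset.sdiff_sdiff_eq_self (hP j hj).1, show H \ P j = H \ P k from h,
        Finset.sdiff_sdiff_eq_self (hP k hk).1]
  · refine Finset.union_subset ?_ ?_ <;> intro X hX <;>
      obtain ⟨j, hj, rfl⟩ := Finset.mem_image.1 hX <;> rw [Finset.mem_powersetCard]
    · exact hP j hj
    · exact ⟨Finset.sdiff_subset, by
        rw [Finset.card_sdiff_of_subset (hP j hj).1, hH4, (hP j hj).2]⟩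

/-- The shape of the vectors. -/
theorem shape (hk : ∃ k : ℕ, J₁.card = 2 ^ k) (hc : J₀.card + 1 = J₁.card) :
    Regular T J₀ J₁ δ w l ∨ Special T J₀ J₁ δ w l := by
  classical
  obtain ⟨k, hk⟩ := hk
  have hJ1ne : J₁.Nonempty := Finset.card_pos.1 (by rw [hk]; positivity)
  set H := supp4 T δ with hHdef
  have hH4 : H.card = 4 := S.card_supp4
  have hmemH : ∀ {χ}, χ ∈ H ↔ χ ∈ T ∧ δ χ ≠ 0 := fun {χ} => by simp [hHdef, supp4]
  obtain ⟨χd, hχd, hδd⟩ : ∃ χ ∈ T, δ χ ≠ 0 := by
    obtain ⟨χ, hχ⟩ := Finset.card_pos.1 (show 0 < H.card by omega)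
    exact ⟨χ, hmemH.1 hχ⟩
  have hp : ∀ i, ∃ (P : Finset I) (e : I), i ∈ J₀ → P ⊆ H ∧ P.card = 2 ∧ e ∈ T ∧ δ e = 0 ∧
      w i e ≠ 0 ∧ (∀ χ ∈ P, w i χ = δ χ) ∧ ∀ χ ∈ T, χ ∉ P → χ ≠ e → w i χ = 0 := fun i => by
    by_cases hi : i ∈ J₀
    · obtain ⟨P, e, h⟩ := S.exists_pair hi
      exact ⟨P, e, fun _ => h⟩
    · exact ⟨∅, χd, fun h => absurd h hi⟩
  choose P e hPe using hp
  have hwval : ∀ i ∈ J₀, ∀ χ ∈ T, w i χ =
      if χ ∈ P i then δ χ else if χ = e i then w i (e i) else 0 := by
    intro i hi χ hχ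
    obtain ⟨-, -, -, -, -, h1, h2⟩ := hPe i hi
    split_ifs with a b
    · exact h1 χ a
    · rw [b]
    · exact h2 χ hχ a b
  have hweu : ∀ i ∈ J₀, w i (e i) = 1 ∨ w i (e i) = -1 := fun i hi => by
    obtain ⟨-, -, heT, -, hne, -⟩ := hPe i hi
    have := unit_of_sum (S.self i hi) le_rfl heT
    omega
  have heP : ∀ i ∈ J₀, ∀ k ∈ J₀, e i ∉ P k := fun i hi k hk h =>
    (hmemH.1 ((hPe k hk).1 h)).2 (hPe i hi).2.2.2.1
  have hdelta1 : ∀ {χ}, χ ∈ H → δ χ * δ χ = 1 := fun {χ} h => by
    rcases S.delta_ne h with e | e <;> rw [e] <;> norm_num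
  -- inner products with sums over the pairs
  have hsumW : ∀ i ∈ J₀, ∀ g : I → ℤ, ∑ χ ∈ T, w i χ * g χ =
      ∑ χ ∈ P i, δ χ * g χ + w i (e i) * g (e i) := by
    intro i hi g
    obtain ⟨hPH, -, heT, -, -, h1, h2⟩ := hPe i hi
    have hsub : insert (e i) (P i) ⊆ T :=
      Finset.insert_subset heT fun χ h => (hmemH.1 (hPH h)).1
    rw [← Finset.sum_subset hsub fun χ hχ hn => by
        rw [Finset.mem_insert, not_or] at hn
        rw [h2 χ hχ hn.2 hn.1, zero_mul],
      Finset.sum_insert (heP i hi i hi), add_comm]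
    congr 1
    exact Finset.sum_congr rfl fun χ h => by rw [h1 χ h]
  have hpair : ∀ i ∈ J₀, ∀ k ∈ J₀, i ≠ k → (e i ≠ e k ∧ P i = P k) ∨
      (e i = e k ∧ w i (e i) = w k (e k) ∧ (P i ∩ P k).card = 1) := by
    intro i hi k hk hik
    have h := S.pair i hi k hk hik
    rw [hsumW i hi] at h
    have hin : ∑ χ ∈ P i, δ χ * w k χ = ((P i ∩ P k).card : ℤ) := by
      rw [← Finset.sum_inter_add_sum_sdiff (P i) (P k)]
      rw [Finset.sum_eq_zero (s := P i \ P k), add_zero, Finset.sum_congr rfl (g := fun _ => (1 : ℤ))]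
      · simp
      · intro χ hχ
        obtain ⟨a, b⟩ := Finset.mem_inter.1 hχ
        rw [hwval k hk χ (hmemH.1 ((hPe i hi).1 a)).1, if_pos b, hdelta1 ((hPe i hi).1 a)]
      · intro χ hχ
        obtain ⟨a, b⟩ := Finset.mem_sdiff.1 hχ
        rw [hwval k hk χ (hmemH.1 ((hPe i hi).1 a)).1, if_neg b,
          if_neg (fun (e' : χ = e k) => heP k hk i hi (e' ▸ a)), mul_zero]
    rw [hin, hwval k hk (e i) (hPe i hi).2.2.1, if_neg (heP i hi k hk)] at h
    have hle : (P i ∩ P k).card ≤ 2 :=
      (Finset.card_le_card Finset.inter_subset_left).trans (hPe i hi).2.1.le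
    by_cases hee : e i = e k
    · rw [if_pos hee] at h
      refine Or.inr ⟨hee, ?_⟩
      rcases hweu i hi with a | a <;> rcases hweu k hk with b | b <;> rw [a, b] at h ⊢ <;>
        constructor <;> omega
    · rw [if_neg hee, mul_zero, add_zero] at h
      refine Or.inl ⟨hee, ?_⟩
      have hc2 : (P i ∩ P k).card = 2 := by omega
      rw [← Finset.eq_of_subset_of_card_le Finset.inter_subset_left
        (hc2 ▸ (hPe i hi).2.1.le : (P i).card ≤ (P i ∩ P k).card),
        Finset.eq_of_subset_of_card_le Finset.inter_subset_right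
        (hc2 ▸ (hPe k hk).2.1.le : (P k).card ≤ (P i ∩ P k).card)]
  -- differences avoid the outer points of the pairs
  have hdiffw : ∀ p ∈ J₁, ∀ q ∈ J₁, ∀ i ∈ J₀,
      ∑ χ ∈ P i, δ χ * (l p χ - l q χ) + w i (e i) * (l p (e i) - l q (e i)) = 0 :=
    fun p hp q hq i hi => by
      rw [← hsumW i hi, ← S.diff_w p hp q hq i hi]
      exact Finset.sum_congr rfl fun χ _ => mul_comm _ _
  by_cases hin : ∃ p ∈ J₁, ∃ q ∈ J₁, ∃ χ ∈ T, δ χ ≠ 0 ∧ l p χ ≠ l q χ
  · -- a difference inside
    obtain ⟨p, hp, q, hq, χ, hχ, hχd, hne⟩ := hin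
    have hpq : p ≠ q := fun e => hne (by rw [e])
    obtain ⟨a, b, hab, haT, hbT, va, vb, hz, hor⟩ := S.exists_diff_pair hp hq hpq
    have hχab : χ = a ∨ χ = b := by
      by_contra h
      simp only [not_or] at h
      exact hne (hz χ hχ h.1 h.2)
    obtain ⟨hda, hdb, hopp⟩ := hor.resolve_left fun h => by
      rcases hχab with rfl | rfl
      · exact hχd h.1
      · exact hχd h.2
    have haH : a ∈ H := hmemH.2 ⟨haT, hda⟩
    have hbH : b ∈ H := hmemH.2 ⟨hbT, hdb⟩
    have hboth : ∀ i ∈ J₀, (a ∈ P i ↔ b ∈ P i) := by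
      intro i hi
      have h := hdiffw p hp q hq i hi
      rw [hz (e i) (hPe i hi).2.2.1 (fun e' => hda (e' ▸ (hPe i hi).2.2.2.1))
        (fun e' => hdb (e' ▸ (hPe i hi).2.2.2.1)), sub_self, mul_zero, add_zero] at h
      have hne0 : δ a * (l p a - l q a) ≠ 0 :=
        mul_ne_zero hda (by rcases va with e' | e' <;> rw [e'] <;> norm_num)
      constructor <;> intro hm <;> by_contra hm'
      · rw [Finset.sum_eq_single a (fun χ' h1 h2 => by
          rw [hz χ' (hmemH.1 ((hPe i hi).1 h1)).1 h2 (fun e' => hm' (e' ▸ h1)), sub_self, mul_zero])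
          (fun h' => absurd hm h')] at h
        exact hne0 h
      · rw [Finset.sum_eq_single b (fun χ' h1 h2 => by
          rw [hz χ' (hmemH.1 ((hPe i hi).1 h1)).1 (fun e' => hm' (e' ▸ h1)) h2, sub_self, mul_zero])
          (fun h' => absurd hm h')] at h
        exact hne0 (by rw [hopp, h, neg_zero])
    -- the pairs are equal
    have hPsame : ∀ i ∈ J₀, ∀ k ∈ J₀, P i = P k := by
      intro i hi k hk
      rcases eq_or_ne i k with rfl | hik
      · rfl
      rcases hpair i hi k hk hik with ⟨-, h⟩ | ⟨-, -, h1⟩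
      · exact h
      exfalso
      obtain ⟨hiH, hi2, -⟩ := hPe i hi
      obtain ⟨hkH, hk2, -⟩ := hPe k hk
      by_cases hai : a ∈ P i
      · have hPi : P i = {a, b} := (Finset.eq_of_subset_of_card_le
          (Finset.insert_subset hai (Finset.singleton_subset_iff.2 ((hboth i hi).1 hai)))
          (by rw [hi2, Finset.card_pair hab])).symm
        by_cases hak : a ∈ P k
        · have hPk : P k = {a, b} := (Finset.eq_of_subset_of_card_le
            (Finset.insert_subset hak (Finset.singleton_subset_iff.2 ((hboth k hk).1 hak)))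
            (by rw [hk2, Finset.card_pair hab])).symm
          rw [hPi, hPk, Finset.inter_self, Finset.card_pair hab] at h1
          omega
        · rw [hPi, Finset.insert_inter_of_notMem hak,
            Finset.singleton_inter_of_notMem (fun h => hak ((hboth k hk).2 h))] at h1
          simp at h1
      · by_cases hak : a ∈ P k
        · have hPk : P k = {a, b} := (Finset.eq_of_subset_of_card_le
            (Finset.insert_subset hak (Finset.singleton_subset_iff.2 ((hboth k hk).1 hak)))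
            (by rw [hk2, Finset.card_pair hab])).symm
          rw [hPk, Finset.inter_comm, Finset.insert_inter_of_notMem hai,
            Finset.singleton_inter_of_notMem (fun h => hai ((hboth i hi).2 h))] at h1
          simp at h1
        · have hs : ∀ j ∈ J₀, a ∉ P j → P j ⊆ (H.erase a).erase b := fun j hj ha' χ' h' =>
            Finset.mem_erase.2 ⟨fun e' => ha' ((hboth j hj).2 (e' ▸ h')),
              Finset.mem_erase.2 ⟨fun e' => ha' (e' ▸ h'), (hPe j hj).1 h'⟩⟩
          have hc2 : ((H.erase a).erase b).card = 2 := by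
            rw [Finset.card_erase_of_mem (Finset.mem_erase.2 ⟨hab.symm, hbH⟩),
              Finset.card_erase_of_mem haH, hH4]
          rw [Finset.eq_of_subset_of_card_le (hs i hi hai) (by rw [hc2, hi2]),
            Finset.eq_of_subset_of_card_le (hs k hk hak) (by rw [hc2, hk2]), Finset.inter_self,
            hc2] at h1
          omega
    -- then there are only two odd orbits
    have hJ1 : J₁.card = 2 := by
      have h2 : 1 < J₁.card := Finset.one_lt_card.2 ⟨p, hp, q, hq, hpq⟩
      by_contra hne2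
      obtain ⟨r, hr, hrn⟩ : ∃ r ∈ J₁, r ∉ ({p, q} : Finset ι) :=
        Finset.exists_mem_notMem_of_card_lt_card (by rw [Finset.card_pair hpq]; omega)
      simp only [Finset.mem_insert, Finset.mem_singleton, not_or] at hrn
      obtain ⟨a', b', hab', haT', hbT', va', vb', hz', hor'⟩ := S.exists_diff_pair hp hr (Ne.symm hrn.1)
      have h1 : ∑ χ ∈ T, (l p χ - l q χ) * (l p χ - l r χ) = 1 := by
        rw [S.diff p hp q hq p hp r hr, if_pos rfl, if_neg (Ne.symm hrn.1), if_neg hpq.symm,
          if_neg (Ne.symm hrn.2)]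
        norm_num
      rw [Finset.sum_eq_add a b hab (fun χ' hχ' hne' => by
        rw [hz χ' hχ' hne'.1 hne'.2, sub_self, zero_mul]) (fun h => absurd haT h)
        (fun h => absurd hbT h)] at h1
      have hra := unit_of_sum (S.diff_self hp hr (Ne.symm hrn.1)) (by norm_num) haT
      have hrb := unit_of_sum (S.diff_self hp hr (Ne.symm hrn.1)) (by norm_num) hbT
      -- one of the two points, never both
      have hone : (l p a - l r a ≠ 0 ∧ l p b - l r b = 0) ∨
          (l p a - l r a = 0 ∧ l p b - l r b ≠ 0) := by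
        rcases va with x | x <;> rcases vb with y | y <;> rw [x, y] at h1 <;> omega
      -- the new pair is inside
      have hmem : ∀ χ' ∈ T, l p χ' - l r χ' ≠ 0 → χ' = a' ∨ χ' = b' := fun χ' h' hn => by
        by_contra h
        simp only [not_or] at h
        exact hn (by rw [hz' χ' h' h.1 h.2, sub_self])
      obtain ⟨hda', hdb', -⟩ := hor'.resolve_left fun h => by
        rcases hone with ⟨hn, -⟩ | ⟨-, hn⟩
        · rcases hmem a haT hn with rfl | rfl
          exacts [hda h.1, hda h.2]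
        · rcases hmem b hbT hn with rfl | rfl
          exacts [hdb h.1, hdb h.2]
      have h3 : 4 ≤ J₁.card := by
        rcases k with _ | _ | k
        · simp at hk; omega
        · simp at hk; omega
        · rw [hk, pow_succ, pow_succ]
          have := Nat.one_le_two_pow (n := k)
          omega
      obtain ⟨i, hi⟩ := Finset.card_pos.1 (show 0 < J₀.card by omega)
      have hside : ∀ z ∈ H, ∀ z' ∈ H, (z ∈ P i ↔ a ∈ P i) → (z' ∈ P i ↔ a ∈ P i) → z ≠ a →
          z ≠ b → z' = z ∨ z' = a ∨ z' = b := by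
        intro z hz1 z' hz1' hzi hzi' n1 n2
        by_cases hai : a ∈ P i
        · have hPi : P i = {a, b} := (Finset.eq_of_subset_of_card_le
            (Finset.insert_subset hai (Finset.singleton_subset_iff.2 ((hboth i hi).1 hai)))
            (by rw [(hPe i hi).2.1, Finset.card_pair hab])).symm
          have := hzi.2 hai
          rw [hPi] at this
          simp [n1, n2] at this
        · have hPi : P i = (H.erase a).erase b := Finset.eq_of_subset_of_card_le
            (fun χ' h' => Finset.mem_erase.2 ⟨fun e' => hai ((hboth i hi).2 (e' ▸ h')),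
              Finset.mem_erase.2 ⟨fun e' => hai (e' ▸ h'), (hPe i hi).1 h'⟩⟩)
            (by rw [Finset.card_erase_of_mem (Finset.mem_erase.2 ⟨hab.symm, hbH⟩),
              Finset.card_erase_of_mem haH, hH4, (hPe i hi).2.1])
          exact absurd (hzi.1 (by rw [hPi]; simp [n1, n2, hz1])) hai
      have hpr : a' ∈ P i ↔ b' ∈ P i := by
        have h := hdiffw p hp r hr i hi
        have hen : e i ≠ a' ∧ e i ≠ b' :=
          ⟨fun e' => hda' (e' ▸ (hPe i hi).2.2.2.1), fun e' => hdb' (e' ▸ (hPe i hi).2.2.2.1)⟩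
        rw [hz' (e i) (hPe i hi).2.2.1 hen.1 hen.2, sub_self, mul_zero, add_zero] at h
        constructor <;> intro hm <;> by_contra hm'
        · rw [Finset.sum_eq_single a' (fun χ' h1' h2' => by
            rw [hz' χ' (hmemH.1 ((hPe i hi).1 h1')).1 h2' (fun e' => hm' (e' ▸ h1')), sub_self,
              mul_zero]) (fun h' => absurd hm h')] at h
          rcases mul_eq_zero.1 h with h | h
          · exact hda' h
          · rcases va' with x | x <;> omega
        · rw [Finset.sum_eq_single b' (fun χ' h1' h2' => by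
            rw [hz' χ' (hmemH.1 ((hPe i hi).1 h1')).1 (fun e' => hm' (e' ▸ h1')) h2', sub_self,
              mul_zero]) (fun h' => absurd hm h')] at h
          rcases mul_eq_zero.1 h with h | h
          · exact hdb' h
          · rcases vb' with x | x <;> omega
      have ha'H : a' ∈ H := hmemH.2 ⟨haT', hda'⟩
      have hb'H : b' ∈ H := hmemH.2 ⟨hbT', hdb'⟩
      have hd : ∀ z ∈ ({a', b'} : Finset I), l p z - l r z ≠ 0 := by
        intro z hz0
        simp only [Finset.mem_insert, Finset.mem_singleton] at hz0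
        rcases hz0 with rfl | rfl
        · rcases va' with x | x <;> omega
        · rcases vb' with x | x <;> omega
      rcases hone with ⟨hn, hn0⟩ | ⟨hn0, hn⟩
      · have hb' : ∀ z ∈ ({a', b'} : Finset I), z ≠ b := fun z hz0 e' => hd z hz0 (e' ▸ hn0)
        rcases hmem a haT hn with rfl | rfl
        · have := hside b' hb'H b' hb'H hpr.symm hpr.symm hab'.symm (hb' b' (by simp))
          exact absurd this (by
            rintro (h | h | h)
            · have hbi := hboth i hi
              exact (hb' b' (by simp)) (by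
                by_cases hai : a ∈ P i
                · have hPi : P i = {a, b} := (Finset.eq_of_subset_of_card_le
                    (Finset.insert_subset hai (Finset.singleton_subset_iff.2 (hbi.1 hai)))
                    (by rw [(hPe i hi).2.1, Finset.card_pair hab])).symm
                  have := hpr.1 hai
                  rw [hPi] at this
                  simpa [hab'.symm] using this
                · exfalso
                  have hPi : P i = (H.erase a).erase b := Finset.eq_of_subset_of_card_le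
                    (fun χ' h' => Finset.mem_erase.2 ⟨fun e' => hai (hbi.2 (e' ▸ h')),
                      Finset.mem_erase.2 ⟨fun e' => hai (e' ▸ h'), (hPe i hi).1 h'⟩⟩)
                    (by rw [Finset.card_erase_of_mem (Finset.mem_erase.2 ⟨hab.symm, hbH⟩),
                      Finset.card_erase_of_mem haH, hH4, (hPe i hi).2.1])
                  exact hai (hpr.2 (by rw [hPi]; simp [hab'.symm, hb' b' (by simp), hb'H])))
            · exact hab' h.symm
            · exact hb' b' (by simp) h)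
        · have n := hb' a' (by simp)
          by_cases hai : a ∈ P i
          · have hPi : P i = {a, b} := (Finset.eq_of_subset_of_card_le
              (Finset.insert_subset hai (Finset.singleton_subset_iff.2 ((hboth i hi).1 hai)))
              (by rw [(hPe i hi).2.1, Finset.card_pair hab])).symm
            have := hpr.2 hai
            rw [hPi] at this
            simp [hab', n] at this
          · have hPi : P i = (H.erase a).erase b := Finset.eq_of_subset_of_card_le
              (fun χ' h' => Finset.mem_erase.2 ⟨fun e' => hai ((hboth i hi).2 (e' ▸ h')),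
                Finset.mem_erase.2 ⟨fun e' => hai (e' ▸ h'), (hPe i hi).1 h'⟩⟩)
              (by rw [Finset.card_erase_of_mem (Finset.mem_erase.2 ⟨hab.symm, hbH⟩),
                Finset.card_erase_of_mem haH, hH4, (hPe i hi).2.1])
            exact hai (hpr.1 (by rw [hPi]; simp [hab', n, ha'H]))
      · have hb' : ∀ z ∈ ({a', b'} : Finset I), z ≠ a := fun z hz0 e' => hd z hz0 (e' ▸ hn0)
        have hmemS : ∀ z ∈ H, z ≠ a → z ≠ b → (z ∈ P i ↔ b ∈ P i) → False := by
          intro z hzH n1 n2 hiff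
          have := hside z hzH z hzH (hiff.trans (hboth i hi).symm) (hiff.trans (hboth i hi).symm) n1 n2
          by_cases hai : a ∈ P i
          · have hPi : P i = {a, b} := (Finset.eq_of_subset_of_card_le
              (Finset.insert_subset hai (Finset.singleton_subset_iff.2 ((hboth i hi).1 hai)))
              (by rw [(hPe i hi).2.1, Finset.card_pair hab])).symm
            have := hiff.2 ((hboth i hi).1 hai)
            rw [hPi] at this
            simp [n1, n2] at this
          · have hPi : P i = (H.erase a).erase b := Finset.eq_of_subset_of_card_le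
              (fun χ' h' => Finset.mem_erase.2 ⟨fun e' => hai ((hboth i hi).2 (e' ▸ h')),
                Finset.mem_erase.2 ⟨fun e' => hai (e' ▸ h'), (hPe i hi).1 h'⟩⟩)
              (by rw [Finset.card_erase_of_mem (Finset.mem_erase.2 ⟨hab.symm, hbH⟩),
                Finset.card_erase_of_mem haH, hH4, (hPe i hi).2.1])
            exact hai ((hboth i hi).2 (hiff.1 (by rw [hPi]; simp [n1, n2, hzH])))
        rcases hmem b hbT hn with rfl | rfl
        · exact hmemS b' hb'H (hb' b' (by simp)) hab'.symm hpr.symm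
        · exact hmemS a' ha'H (hb' a' (by simp)) hab' hpr
    obtain ⟨i, hJ0⟩ := Finset.card_eq_one.1 (show J₀.card = 1 by omega)
    have hi : i ∈ J₀ := by rw [hJ0]; exact Finset.mem_singleton_self i
    have honly : ∀ j ∈ J₀, j = i := fun j hj => by rw [hJ0] at hj; exact Finset.mem_singleton.1 hj
    have hJ1eq : J₁ = {p, q} := (Finset.eq_of_subset_of_card_le
      (Finset.insert_subset hp (Finset.singleton_subset_iff.2 hq))
      (by rw [hJ1, Finset.card_pair hpq])).symm
    have hsame : ∀ χ' ∈ T, χ' ≠ a → χ' ≠ b → ∀ r ∈ J₁, ∀ s ∈ J₁, l r χ' = l s χ' := by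
      intro χ' h' n1 n2 r hr s hs
      rw [hJ1eq] at hr hs
      have := hz χ' h' n1 n2
      simp only [Finset.mem_insert, Finset.mem_singleton] at hr hs
      rcases hr with rfl | rfl <;> rcases hs with rfl | rfl <;> simp [this]
    refine Or.inr ⟨?_, ?_, ?_, Or.inl ⟨a, haT, hda, p, hp, q, hq,
      fun e' => by rcases va with h | h <;> omega⟩⟩
    · intro σ h1 h0 hδ hw hd
      have hw' := hw i hi
      rw [hsumW i hi, h0 (e i) (hPe i hi).2.2.1 (hPe i hi).2.2.2.1, mul_zero, add_zero] at hw'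
      have hd' := hd p hp q hq
      rw [Finset.sum_eq_add a b hab (fun χ' h' hne' => by
        rw [hz χ' h' hne'.1 hne'.2, sub_self, zero_mul]) (fun h => absurd haT h)
        (fun h => absurd hbT h)] at hd'
      have hδH : ∑ χ' ∈ H, δ χ' * σ χ' = 0 := by
        rw [← hδ]
        exact Finset.sum_subset (Finset.filter_subset _ _) fun χ' h' hn => by
          have : δ χ' = 0 := by_contra fun hne' => hn (hmemH.2 ⟨h', hne'⟩)
          rw [this, zero_mul]
      have heq : δ a * σ a = δ b * σ b := by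
        rcases va with x | x <;> rcases vb with y | y <;>
          rcases S.delta_ne haH with z | z <;> rcases S.delta_ne hbH with t | t <;>
          rw [x, y, z, t] at hopp <;> rw [x, y] at hd' <;> rw [z, t] <;> omega
      have hpm : δ a * σ a = 1 ∨ δ a * σ a = -1 := by
        rcases S.delta_ne haH with x | x <;> rcases h1 a haT hda with y | y <;> simp [x, y]
      by_cases hai : a ∈ P i
      · have hPi : P i = {a, b} := (Finset.eq_of_subset_of_card_le
          (Finset.insert_subset hai (Finset.singleton_subset_iff.2 ((hboth i hi).1 hai)))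
          (by rw [(hPe i hi).2.1, Finset.card_pair hab])).symm
        rw [hPi, Finset.sum_pair hab] at hw'
        omega
      · have hPi : P i = (H.erase a).erase b := Finset.eq_of_subset_of_card_le
          (fun χ' h' => Finset.mem_erase.2 ⟨fun e' => hai ((hboth i hi).2 (e' ▸ h')),
            Finset.mem_erase.2 ⟨fun e' => hai (e' ▸ h'), (hPe i hi).1 h'⟩⟩)
          (by rw [Finset.card_erase_of_mem (Finset.mem_erase.2 ⟨hab.symm, hbH⟩),
            Finset.card_erase_of_mem haH, hH4, (hPe i hi).2.1])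
        rw [hPi] at hw'
        rw [← Finset.add_sum_erase H _ haH,
          ← Finset.add_sum_erase _ _ (Finset.mem_erase.2 ⟨hab.symm, hbH⟩), hw'] at hδH
        omega
    · obtain ⟨c, hcH, hcn⟩ := Finset.exists_mem_notMem_of_card_lt_card (s := ({a, b} : Finset I))
        (t := H) (by rw [hH4, Finset.card_pair hab]; norm_num)
      simp only [Finset.mem_insert, Finset.mem_singleton, not_or] at hcn
      obtain ⟨hcT, hcd⟩ := hmemH.1 hcH
      refine ⟨c, hcT, hcd, ?_, hsame c hcT hcn.1 hcn.2⟩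
      by_cases hci : c ∈ P i
      · exact Or.inr fun j hj => by rw [honly j hj, hwval i hi c hcT, if_pos hci]
      · exact Or.inl fun j hj => by
          rw [honly j hj, hwval i hi c hcT, if_neg hci,
            if_neg (fun (e' : c = e i) => hcd (e' ▸ (hPe i hi).2.2.2.1))]
    · have hset : (T.filter fun χ' => δ χ' ≠ 0 ∨ (∃ j ∈ J₀, w j χ' ≠ 0) ∨
          ∃ r ∈ J₁, ∃ s ∈ J₁, l r χ' ≠ l s χ') = insert (e i) H := by
        ext χ'
        simp only [Finset.mem_filter, Finset.mem_insert, hmemH]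
        constructor
        · rintro ⟨h', h | ⟨j, hj, h⟩ | ⟨r, hr, s, hs, h⟩⟩
          · exact Or.inr ⟨h', h⟩
          · rw [honly j hj, hwval i hi χ' h'] at h
            by_cases hm : χ' ∈ P i
            · exact Or.inr (hmemH.1 ((hPe i hi).1 hm))
            · rw [if_neg hm] at h
              exact Or.inl (by_contra fun hn => h (if_neg hn))
          · by_cases n1 : χ' = a
            · exact Or.inr ⟨h', n1 ▸ hda⟩
            by_cases n2 : χ' = b
            · exact Or.inr ⟨h', n2 ▸ hdb⟩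
            exact absurd (hsame χ' h' n1 n2 r hr s hs) h
        · rintro (rfl | ⟨h', h⟩)
          · exact ⟨(hPe i hi).2.2.1, Or.inr (Or.inl ⟨i, hi, (hPe i hi).2.2.2.2.1⟩)⟩
          · exact ⟨h', Or.inl h⟩
      rw [hset, Finset.card_insert_of_notMem (fun h => (hmemH.1 h).2 (hPe i hi).2.2.2.1), hH4]
      omega
  · -- all differences outside
    push Not at hin
    have hout : ∀ p ∈ J₁, ∀ q ∈ J₁, ∀ χ ∈ T, δ χ ≠ 0 → l p χ = l q χ := hin
    -- the star
    obtain ⟨f, s, hfinj, hfs, hfl⟩ : ∃ (f : ι → I) (s : ι → ℤ), (1 < J₁.card → Set.InjOn f J₁) ∧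
        (1 < J₁.card → ∀ p ∈ J₁, f p ∈ T ∧ δ (f p) = 0 ∧ (s p = 1 ∨ s p = -1)) ∧
        ∀ p ∈ J₁, ∀ q ∈ J₁, ∀ χ ∈ T, l p χ - l q χ =
          (if χ = f p then s p else 0) - (if χ = f q then s q else 0) := by
      by_cases h2 : 1 < J₁.card
      · obtain ⟨f, s, h1, h2', h3⟩ := S.exists_star hJ1ne (by
          intro h
          rw [hk] at h
          rcases k with _ | k
          · simp at h
          · rw [pow_succ] at h; omega) h2 hout
        exact ⟨f, s, fun _ => h1, fun _ => h2', h3⟩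
      · refine ⟨fun _ => χd, fun _ => 0, fun h => absurd h h2, fun h => absurd h h2, ?_⟩
        intro p hp q hq χ _
        rw [Finset.card_le_one.1 (not_lt.1 h2) p hp q hq]
        simp
    have hfe : 1 < J₁.card → ∀ p ∈ J₁, ∀ i ∈ J₀, f p ≠ e i := by
      intro h2 p hp i hi he'
      obtain ⟨q, hq, hqp⟩ := Finset.exists_mem_ne h2 p
      have h := hdiffw p hp q hq i hi
      rw [Finset.sum_eq_zero fun χ hχ => by
          obtain ⟨hχT, hχd⟩ := hmemH.1 ((hPe i hi).1 hχ)
          rw [hout p hp q hq χ hχT hχd, sub_self, mul_zero], zero_add,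
        hfl p hp q hq (e i) (hPe i hi).2.2.1, if_pos he'.symm,
        if_neg (fun e' => hqp (hfinj h2 hq hp (e'.symm.trans he'.symm)))] at h
      rcases (hfs h2 p hp).2.2 with x | x <;> rcases hweu i hi with y | y <;> rw [x, y] at h <;>
        norm_num at h
    by_cases hinj : Set.InjOn e J₀
    · -- regular
      refine Or.inl ⟨fun χ hχ hd => ⟨?_, fun p hp q hq => hout p hp q hq χ hχ hd⟩, ?_⟩
      · rcases J₀.eq_empty_or_nonempty with h0 | ⟨i, hi⟩
        · left
          simp [h0]
        have hsameP : ∀ j ∈ J₀, P j = P i := by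
          intro j hj
          rcases eq_or_ne j i with rfl | hji
          · rfl
          rcases hpair j hj i hi hji with ⟨-, h⟩ | ⟨h, -⟩
          · exact h
          · exact absurd (hinj hj hi h) hji
        by_cases hm : χ ∈ P i
        · exact Or.inr fun j hj => by rw [hwval j hj χ hχ, if_pos (hsameP j hj ▸ hm)]
        · exact Or.inl fun j hj => by
            rw [hwval j hj χ hχ, if_neg (hsameP j hj ▸ hm),
              if_neg (fun (e' : χ = e j) => hd (e' ▸ (hPe j hj).2.2.2.1))]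
      · -- the outer members
        set E0 := J₀.image e
        set E1 := if 1 < J₁.card then J₁.image f else ∅ with hE1
        have hE1m : ∀ {χ}, χ ∈ E1 → 1 < J₁.card ∧ ∃ p ∈ J₁, f p = χ := by
          intro χ h
          by_cases h2 : 1 < J₁.card
          · rw [hE1, if_pos h2] at h
            exact ⟨h2, Finset.mem_image.1 h⟩
          · rw [hE1, if_neg h2] at h
            simp at h
        have hdisj : Disjoint E0 E1 := by
          refine Finset.disjoint_left.2 fun χ h0 h1 => ?_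
          obtain ⟨i, hi, rfl⟩ := Finset.mem_image.1 h0
          obtain ⟨h2, p, hp, hpe⟩ := hE1m h1
          exact hfe h2 p hp i hi hpe
        have hidx : ∀ χ, ∃ (j : ι) (c : ℤ), χ ∈ E0 ∪ E1 →
            (j ∈ J₀ ∨ j ∈ J₁) ∧ (c = 1 ∨ c = -1) ∧
            (∀ i ∈ J₀, w i χ = if i = j then c else 0) ∧
            (∀ p ∈ J₁, ∀ q ∈ J₁, l p χ - l q χ =
              (if p = j then c else 0) - (if q = j then c else 0)) := by
          intro χ
          by_cases h : χ ∈ E0 ∪ E1
          swap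
          · exact ⟨hJ1ne.choose, 0, fun h' => absurd h' h⟩
          rcases Finset.mem_union.1 h with h0 | h1
          · obtain ⟨i, hi, rfl⟩ := Finset.mem_image.1 h0
            refine ⟨i, w i (e i), fun _ => ⟨Or.inl hi, hweu i hi, fun j hj => ?_, fun p hp q hq => ?_⟩⟩
            · split_ifs with hji
              · rw [hji]
              · exact (hwval j hj (e i) (hPe i hi).2.2.1).trans (by
                  rw [if_neg (heP i hi j hj), if_neg fun e' => hji (hinj hj hi e'.symm)])
            · have hl0 : ∀ r ∈ J₁, ∀ r' ∈ J₁, l r (e i) - l r' (e i) = 0 := by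
                intro r hr r' hr'
                by_cases h2 : 1 < J₁.card
                · rw [hfl r hr r' hr' (e i) (hPe i hi).2.2.1, if_neg (hfe h2 r hr i hi).symm,
                    if_neg (hfe h2 r' hr' i hi).symm, sub_zero]
                · rw [Finset.card_le_one.1 (not_lt.1 h2) r hr r' hr', sub_self]
              rw [hl0 p hp q hq]
              by_cases h2 : 1 < J₁.card
              · rw [if_neg (S.disjoint p hp i hi), if_neg (S.disjoint q hq i hi), sub_self]
              · rw [Finset.card_le_one.1 (not_lt.1 h2) p hp q hq, sub_self]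
          · obtain ⟨h2, p₀, hp₀, rfl⟩ := hE1m h1
            refine ⟨p₀, s p₀, fun _ => ⟨Or.inr hp₀, (hfs h2 p₀ hp₀).2.2, fun j hj => ?_,
              fun p hp q hq => ?_⟩⟩
            · rw [hwval j hj _ (hfs h2 p₀ hp₀).1, if_neg (fun hm =>
                (hmemH.1 ((hPe j hj).1 hm)).2 (hfs h2 p₀ hp₀).2.1), if_neg (hfe h2 p₀ hp₀ j hj),
                if_neg (fun e' => S.disjoint p₀ hp₀ j hj e'.symm)]
            · rw [hfl p hp q hq _ (hfs h2 p₀ hp₀).1]
              have hiff : ∀ r ∈ J₁, (f p₀ = f r ↔ r = p₀) := fun r hr =>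
                ⟨fun e' => hfinj h2 hr hp₀ e'.symm, fun e' => by rw [e']⟩
              simp only [hiff p hp, hiff q hq]
              congr 1 <;> split_ifs with x <;> simp only [x]
        choose idx sg hidx using hidx
        refine ⟨E0 ∪ E1, idx, sg, ?_, ?_, ?_, fun χ h => hidx χ h, ?_⟩
        · intro χ h
          rcases Finset.mem_union.1 h with h | h
          · obtain ⟨i, hi, rfl⟩ := Finset.mem_image.1 h
            exact (hPe i hi).2.2.1
          · obtain ⟨h2, p, hp, rfl⟩ := hE1m h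
            exact (hfs h2 p hp).1
        · intro χ h
          rcases Finset.mem_union.1 h with h | h
          · obtain ⟨i, hi, rfl⟩ := Finset.mem_image.1 h
            exact (hPe i hi).2.2.2.1
          · obtain ⟨h2, p, hp, rfl⟩ := hE1m h
            exact (hfs h2 p hp).2.1
        · rw [Finset.card_union_of_disjoint hdisj, Finset.card_image_of_injOn hinj, hE1]
          by_cases h2 : 1 < J₁.card
          · rw [if_pos h2, if_neg (not_le.2 h2), Finset.card_image_of_injOn (hfinj h2)]
          · rw [if_neg h2, if_pos (not_lt.1 h2), Finset.card_empty, add_zero]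
        · intro χ hχ hd hn
          rw [Finset.mem_union, not_or] at hn
          refine ⟨fun i hi => ?_, fun p hp q hq => ?_⟩
          · rw [hwval i hi χ hχ, if_neg (fun hm => (hmemH.1 ((hPe i hi).1 hm)).2 hd),
              if_neg (fun e' => hn.1 (Finset.mem_image.2 ⟨i, hi, e'.symm⟩))]
          · by_cases h2 : 1 < J₁.card
            · have hne' : ∀ r ∈ J₁, χ ≠ f r := fun r hr e' => hn.2 (by
                rw [hE1, if_pos h2]; exact Finset.mem_image.2 ⟨r, hr, e'.symm⟩)
              have := hfl p hp q hq χ hχ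
              rw [if_neg (hne' p hp), if_neg (hne' q hq), sub_self] at this
              omega
            · rw [Finset.card_le_one.1 (not_lt.1 h2) p hp q hq]
    · -- three pairs
      simp only [Set.InjOn, Finset.mem_coe] at hinj
      push Not at hinj
      obtain ⟨i₀, hi₀, k₀, hk₀, heq₀, hne₀⟩ := hinj
      have hall : ∀ j ∈ J₀, e j = e i₀ := by
        intro j hj
        by_contra h
        rcases eq_or_ne j i₀ with rfl | hj0; · exact h rfl
        rcases hpair j hj i₀ hi₀ hj0 with ⟨-, hP1⟩ | ⟨h', -⟩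
        · rcases eq_or_ne j k₀ with rfl | hjk; · exact h heq₀.symm
          rcases hpair j hj k₀ hk₀ hjk with ⟨-, hP2⟩ | ⟨h', -⟩
          · rcases hpair i₀ hi₀ k₀ hk₀ hne₀ with ⟨h', -⟩ | ⟨-, -, h'⟩
            · exact h' heq₀
            · rw [← hP1, ← hP2, Finset.inter_self, (hPe j hj).2.1] at h'
              omega
          · exact h (h'.trans heq₀.symm)
        · exact h h'
      have hmeet : ∀ i ∈ J₀, ∀ j ∈ J₀, i ≠ j → (P i ∩ P j).card = 1 := by
        intro i hi j hj hij
        rcases hpair i hi j hj hij with ⟨h, -⟩ | ⟨-, -, h⟩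
        · exact absurd ((hall i hi).trans (hall j hj).symm) h
        · exact h
      have h3 := S.card_le_three (fun i hi => ⟨(hPe i hi).1, (hPe i hi).2.1⟩) hmeet
      have h2 : 2 ≤ J₀.card := Finset.one_lt_card.2 ⟨i₀, hi₀, k₀, hk₀, hne₀⟩
      have hJ0 : J₀.card = 3 := by
        rcases k with _ | _ | k
        · simp at hk; omega
        · simp at hk; omega
        · rw [pow_succ, pow_succ] at hk
          have := Nat.one_le_two_pow (n := k)
          omega
      have hJ1 : J₁.card = 4 := by omega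
      have h2' : 1 < J₁.card := by omega
      obtain ⟨i₁, i₂, i₃, n12, n13, n23, hJ0eq⟩ := Finset.card_eq_three.1 hJ0
      have m1 : i₁ ∈ J₀ := by rw [hJ0eq]; simp
      have m2 : i₂ ∈ J₀ := by rw [hJ0eq]; simp
      have m3 : i₃ ∈ J₀ := by rw [hJ0eq]; simp
      have hpq : ∀ {i j}, i ∈ J₀ → j ∈ J₀ → i ≠ j → ∀ {x}, x ∈ P i → x ∈ P j →
          ∀ {y}, y ∈ P i → y ∈ P j → x = y := fun {i j} hi hj hij {x} hx hx' {y} hy hy' =>
        Finset.card_le_one.1 (hmeet i hi j hj hij).le x (Finset.mem_inter.2 ⟨hx, hx'⟩) y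
          (Finset.mem_inter.2 ⟨hy, hy'⟩)
      -- the member common to all or none
      obtain ⟨c, hcH, hcw⟩ : ∃ c ∈ H, (∀ i ∈ J₀, c ∈ P i) ∨ (∀ i ∈ J₀, c ∉ P i) := by
        obtain ⟨x, hx⟩ := Finset.card_eq_one.1 (hmeet i₁ m1 i₂ m2 n12)
        obtain ⟨hx1, hx2⟩ := Finset.mem_inter.1 (hx ▸ Finset.mem_singleton_self x : x ∈ P i₁ ∩ P i₂)
        by_cases hx3 : x ∈ P i₃
        · refine ⟨x, (hPe i₁ m1).1 hx1, Or.inl fun i hi => ?_⟩
          rw [hJ0eq] at hi
          simp only [Finset.mem_insert, Finset.mem_singleton] at hi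
          rcases hi with rfl | rfl | rfl <;> assumption
        · obtain ⟨y, hy⟩ := Finset.card_eq_one.1 (hmeet i₁ m1 i₃ m3 n13)
          obtain ⟨z, hz⟩ := Finset.card_eq_one.1 (hmeet i₂ m2 i₃ m3 n23)
          obtain ⟨hy1, hy3⟩ := Finset.mem_inter.1 (hy ▸ Finset.mem_singleton_self y : y ∈ P i₁ ∩ P i₃)
          obtain ⟨hz2, hz3⟩ := Finset.mem_inter.1 (hz ▸ Finset.mem_singleton_self z : z ∈ P i₂ ∩ P i₃)
          have nxy : x ≠ y := fun h => hx3 (h ▸ hy3)
          have nxz : x ≠ z := fun h => hx3 (h ▸ hz3)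
          have nyz : y ≠ z := fun h => nxy (hpq m1 m2 n12 hx1 hx2 hy1 (h ▸ hz2))
          obtain ⟨c, hc, hcn⟩ := Finset.exists_mem_notMem_of_card_lt_card (s := ({x, y, z} : Finset I))
            (t := H) (by rw [hH4]; simp [nxy, nxz, nyz])
          simp only [Finset.mem_insert, Finset.mem_singleton, not_or] at hcn
          refine ⟨c, hc, Or.inr fun i hi hci => ?_⟩
          rw [hJ0eq] at hi
          simp only [Finset.mem_insert, Finset.mem_singleton] at hi
          rcases hi with rfl | rfl | rfl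
          · have : P i = {x, y} := (Finset.eq_of_subset_of_card_le
              (Finset.insert_subset hx1 (Finset.singleton_subset_iff.2 hy1))
              (by rw [(hPe i m1).2.1, Finset.card_pair nxy])).symm
            rw [this] at hci
            simp [hcn.1, hcn.2.1] at hci
          · have : P i = {x, z} := (Finset.eq_of_subset_of_card_le
              (Finset.insert_subset hx2 (Finset.singleton_subset_iff.2 hz2))
              (by rw [(hPe i m2).2.1, Finset.card_pair nxz])).symm
            rw [this] at hci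
            simp [hcn.1, hcn.2.2] at hci
          · have : P i = {y, z} := (Finset.eq_of_subset_of_card_le
              (Finset.insert_subset hy3 (Finset.singleton_subset_iff.2 hz3))
              (by rw [(hPe i m3).2.1, Finset.card_pair nyz])).symm
            rw [this] at hci
            simp [hcn.2.1, hcn.2.2] at hci
      have hSset : ∀ χ ∈ T, (δ χ ≠ 0 ∨ ∃ i ∈ J₀, w i χ ≠ 0) ↔ χ ∈ insert (e i₀) H := by
        intro χ hχ
        simp only [Finset.mem_insert, hmemH, hχ, true_and]
        constructor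
        · rintro (h | ⟨i, hi, h⟩)
          · exact Or.inr h
          · by_cases hd : δ χ = 0
            · rw [hwval i hi χ hχ, if_neg (fun hm => (hmemH.1 ((hPe i hi).1 hm)).2 hd)] at h
              exact Or.inl (by_contra fun hn => h (if_neg (hall i hi ▸ hn)))
            · exact Or.inr hd
        · rintro (rfl | h)
          · exact Or.inr ⟨i₀, hi₀, (hPe i₀ hi₀).2.2.2.2.1⟩
          · exact Or.inl h
      have hfne : ∀ p ∈ J₁, f p ∉ insert (e i₀) H := fun p hp h => by
        rcases Finset.mem_insert.1 h with h | h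
        · exact hfe h2' p hp i₀ hi₀ h
        · exact (hmemH.1 h).2 (hfs h2' p hp).2.1
      refine Or.inr ⟨?_, ⟨c, (hmemH.1 hcH).1, (hmemH.1 hcH).2, ?_, fun p hp q hq =>
        hout p hp q hq c (hmemH.1 hcH).1 (hmemH.1 hcH).2⟩, ?_, Or.inr ⟨hJ1, insert (e i₀) H, ?_, ?_, ?_, ?_⟩⟩
      · intro σ h1 h0 hδ hw _
        have hpm : ∀ x ∈ H, δ x * σ x = 1 ∨ δ x * σ x = -1 := fun x hx => by
          rcases S.delta_ne hx with a | a <;> rcases h1 x (hmemH.1 hx).1 (hmemH.1 hx).2 with b | b <;>
            simp [a, b]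
        have hPsum : ∀ i ∈ J₀, ∑ χ ∈ P i, δ χ * σ χ = 0 := fun i hi => by
          have h := hw i hi
          rwa [hsumW i hi, h0 (e i) (hPe i hi).2.2.1 (hPe i hi).2.2.2.1, mul_zero, add_zero] at h
        have hother : ∀ i ∈ J₀, ∀ x ∈ P i, ∀ y ∈ P i, x ≠ y → δ x * σ x = -(δ y * σ y) := by
          intro i hi x hx y hy hxy
          have : P i = {x, y} := (Finset.eq_of_subset_of_card_le
            (Finset.insert_subset hx (Finset.singleton_subset_iff.2 hy))
            (by rw [(hPe i hi).2.1, Finset.card_pair hxy])).symm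
          have h := hPsum i hi
          rw [this, Finset.sum_pair hxy] at h
          linarith
        rcases hcw with hall' | hnone
        · -- a star
          have hneigh : ∀ x ∈ H.erase c, δ x * σ x = -(δ c * σ c) := by
            intro x hx
            obtain ⟨hxc, hxH⟩ := Finset.mem_erase.1 hx
            obtain ⟨i, hi, hxi⟩ : ∃ i ∈ J₀, x ∈ P i := by
              by_contra hn
              push Not at hn
              have hinjP : ∀ i ∈ J₀, P i ⊆ insert c ((H.erase c).erase x) := fun i hi z hz => by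
                by_cases hzc : z = c
                · simp [hzc]
                · exact Finset.mem_insert_of_mem (Finset.mem_erase.2 ⟨fun e' => hn i hi (e' ▸ hz),
                    Finset.mem_erase.2 ⟨hzc, (hPe i hi).1 hz⟩⟩)
              have hothers : ∀ i ∈ J₀, ∃ z ∈ (H.erase c).erase x, z ∈ P i := fun i hi => by
                obtain ⟨z, hz, hzc⟩ := Finset.exists_mem_ne (by rw [(hPe i hi).2.1]; norm_num) c
                refine ⟨z, ?_, hz⟩
                rcases Finset.mem_insert.1 (hinjP i hi hz) with h | h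
                · exact absurd h hzc
                · exact h
              choose g hg hgP using hothers
              have hcard := Finset.card_le_card_of_injOn (s := J₀.attach)
                (t := (H.erase c).erase x) (fun i => g i i.2) (fun i _ => hg i i.2) (by
                  intro i _ j _ e'
                  by_contra hij
                  have := hpq i.2 j.2 (fun h => hij (Subtype.ext h)) (hall' i i.2) (hall' j j.2)
                    (hgP i i.2) (by simp only at e'; rw [e']; exact hgP j j.2)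
                  exact (Finset.mem_erase.1 (Finset.mem_erase.1 (hg i i.2)).2).1 this.symm)
              rw [Finset.card_attach, hJ0, Finset.card_erase_of_mem hx,
                Finset.card_erase_of_mem hcH, hH4] at hcard
              omega
            exact hother i hi x hxi c (hall' i hi) hxc
          have hδH : ∑ χ ∈ H, δ χ * σ χ = 0 := by
            rw [← hδ]
            exact Finset.sum_subset (Finset.filter_subset _ _) fun χ' h' hn => by
              have : δ χ' = 0 := by_contra fun hne' => hn (hmemH.2 ⟨h', hne'⟩)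
              rw [this, zero_mul]
          rw [← Finset.add_sum_erase H _ hcH, Finset.sum_congr rfl hneigh, Finset.sum_const,
            Finset.card_erase_of_mem hcH, hH4] at hδH
          rcases hpm c hcH with h | h <;> rw [h] at hδH <;> norm_num at hδH
        · -- a triangle
          obtain ⟨x, hx⟩ := Finset.card_eq_one.1 (hmeet i₁ m1 i₂ m2 n12)
          obtain ⟨y, hy⟩ := Finset.card_eq_one.1 (hmeet i₁ m1 i₃ m3 n13)
          obtain ⟨z, hz⟩ := Finset.card_eq_one.1 (hmeet i₂ m2 i₃ m3 n23)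
          obtain ⟨hx1, hx2⟩ := Finset.mem_inter.1 (hx ▸ Finset.mem_singleton_self x : x ∈ P i₁ ∩ P i₂)
          obtain ⟨hy1, hy3⟩ := Finset.mem_inter.1 (hy ▸ Finset.mem_singleton_self y : y ∈ P i₁ ∩ P i₃)
          obtain ⟨hz2, hz3⟩ := Finset.mem_inter.1 (hz ▸ Finset.mem_singleton_self z : z ∈ P i₂ ∩ P i₃)
          have nxy : x ≠ y := fun h => by
            -- otherwise the point is common to all three
            have hcx : x ∈ P i₃ := h ▸ hy3
            have hPi : ∀ i ∈ J₀, P i ⊆ H.erase c := fun i hi u hu =>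
              Finset.mem_erase.2 ⟨fun e' => hnone i hi (e' ▸ hu), (hPe i hi).1 hu⟩
            have hothers : ∀ i ∈ J₀, ∃ u ∈ (H.erase c).erase x, u ∈ P i := fun i hi => by
              obtain ⟨u, hu, hux⟩ := Finset.exists_mem_ne (by rw [(hPe i hi).2.1]; norm_num) x
              exact ⟨u, Finset.mem_erase.2 ⟨hux, hPi i hi hu⟩, hu⟩
            have hxall : ∀ i ∈ J₀, x ∈ P i := fun i hi => by
              rw [hJ0eq] at hi
              simp only [Finset.mem_insert, Finset.mem_singleton] at hi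
              rcases hi with rfl | rfl | rfl <;> assumption
            choose g hg hgP using hothers
            have hcard := Finset.card_le_card_of_injOn (s := J₀.attach)
              (t := (H.erase c).erase x) (fun i => g i i.2) (fun i _ => hg i i.2) (by
                intro i _ j _ e'
                by_contra hij
                have := hpq i.2 j.2 (fun h => hij (Subtype.ext h)) (hxall i i.2) (hxall j j.2)
                  (hgP i i.2) (by simp only at e'; rw [e']; exact hgP j j.2)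
                exact (Finset.mem_erase.1 (hg i i.2)).1 this.symm)
            rw [Finset.card_attach, hJ0, Finset.card_erase_of_mem (Finset.mem_erase.2
              ⟨fun (e' : x = c) => hnone i₁ m1 (e' ▸ hx1), (hPe i₁ m1).1 hx1⟩),
              Finset.card_erase_of_mem hcH, hH4] at hcard
            omega
          have nxz : x ≠ z := fun h => nxy (hpq m1 m3 n13 hx1 (h ▸ hz3) hy1 hy3)
          have nyz : y ≠ z := fun h => nxy (hpq m1 m2 n12 hx1 hx2 hy1 (h ▸ hz2))
          have a1 := hother i₁ m1 x hx1 y hy1 nxy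
          have a2 := hother i₂ m2 x hx2 z hz2 nxz
          have a3 := hother i₃ m3 y hy3 z hz3 nyz
          rcases hpm x ((hPe i₁ m1).1 hx1) with h | h <;> omega
      · rcases hcw with h | h
        · exact Or.inr fun i hi => by rw [hwval i hi c (hmemH.1 hcH).1, if_pos (h i hi)]
        · exact Or.inl fun i hi => by
            rw [hwval i hi c (hmemH.1 hcH).1, if_neg (h i hi),
              if_neg (fun (e' : c = e i) => (hmemH.1 hcH).2 (e' ▸ (hPe i hi).2.2.2.1))]
      · have hset : (T.filter fun χ => δ χ ≠ 0 ∨ (∃ i ∈ J₀, w i χ ≠ 0) ∨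
            ∃ p ∈ J₁, ∃ q ∈ J₁, l p χ ≠ l q χ) = insert (e i₀) H ∪ J₁.image f := by
          ext χ
          simp only [Finset.mem_filter, Finset.mem_union]
          constructor
          · rintro ⟨hχ, h⟩
            by_cases hS' : χ ∈ insert (e i₀) H
            · exact Or.inl hS'
            right
            rcases h with h | h | ⟨p, hp, q, hq, h⟩
            · exact absurd ((hSset χ hχ).1 (Or.inl h)) hS'
            · exact absurd ((hSset χ hχ).1 (Or.inr h)) hS'
            · by_contra hn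
              have := hfl p hp q hq χ hχ
              rw [if_neg (fun e' => hn (Finset.mem_image.2 ⟨p, hp, e'.symm⟩)),
                if_neg (fun e' => hn (Finset.mem_image.2 ⟨q, hq, e'.symm⟩))] at this
              exact h (by linarith)
          · rintro (h | h)
            · have hχ : χ ∈ T := by
                rcases Finset.mem_insert.1 h with rfl | h'
                exacts [(hPe i₀ hi₀).2.2.1, (hmemH.1 h').1]
              rcases (hSset χ hχ).2 h with h' | h'
              exacts [⟨hχ, Or.inl h'⟩, ⟨hχ, Or.inr (Or.inl h')⟩]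
            · obtain ⟨p, hp, rfl⟩ := Finset.mem_image.1 h
              obtain ⟨q, hq, hqp⟩ := Finset.exists_mem_ne h2' p
              refine ⟨(hfs h2' p hp).1, Or.inr (Or.inr ⟨p, hp, q, hq, fun e' => ?_⟩)⟩
              have := hfl p hp q hq _ (hfs h2' p hp).1
              rw [e', sub_self, if_pos rfl, if_neg (fun e'' => hqp (hfinj h2' hq hp e''.symm))] at this
              rcases (hfs h2' p hp).2.2 with x | x <;> omega
        rw [hset, Finset.card_union_of_disjoint, Finset.card_image_of_injOn (hfinj h2'),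
          Finset.card_insert_of_notMem (fun h => (hmemH.1 h).2 (hPe i₀ hi₀).2.2.2.1), hH4]
        · omega
        · rw [Finset.disjoint_right]
          intro χ h
          obtain ⟨p, hp, rfl⟩ := Finset.mem_image.1 h
          exact hfne p hp
      · exact Finset.insert_subset (hPe i₀ hi₀).2.2.1 (Finset.filter_subset _ _)
      · rw [Finset.card_insert_of_notMem (fun h => (hmemH.1 h).2 (hPe i₀ hi₀).2.2.2.1), hH4]
      · intro χ hχ
        refine (hSset χ ?_).2 hχ
        rcases Finset.mem_insert.1 hχ with rfl | h'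
        exacts [(hPe i₀ hi₀).2.2.1, (hmemH.1 h').1]
      · intro χ hχ hn hor
        rcases hor with h | h | h
        · exact absurd ((hSset χ hχ).1 (Or.inl h)) hn
        · exact absurd ((hSset χ hχ).1 (Or.inr h)) hn
        · exact h

end Gram

end Cfsg.Agent.Lib.MaxClassDefect
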