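import Cfsg.Agent.Lib.MaxClassDefect.Col
import Cfsg.Agent.Lib.MaxClassDefect.Shape
import Mathlib

/-!
# The integer vectors belonging to the rotations
-/

set_option autoImplicit false
set_option linter.unusedSectionVars false
set_option linter.style.haveILetI false

namespace Cfsg.Agent.Lib.MaxClassDefect

open Cfsg
open Cfsg.Agent.Lib
open Cfsg.Agent.Lib.BrauerPairs
open Cfsg.Agent.Lib.NilBlock (bu bu_fst)
open Subgroup (zpowers mem_zpowers)
open scoped ComplexConjugate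

universe u

attribute [local instance] Classical.propDecidable

variable {G : Type u} [Group G] [Fintype G] {M : Ideal AlgInt} [M.IsPrime]
  {B : Set (IrrCharacter G)} {b : BrauerPairIdx G} {x y : G} {m a : ℕ}

/-- The multiplicities at the rotations. -/
structure Cols (M : Ideal AlgInt) (b : BrauerPairIdx G) (x : G) (m a : ℕ) [NeZero (2 * m)]
    (L : IrrCharacter G → ZMod (2 * m) → ℕ) : Prop where
  symm : ∀ χ j, L χ ((a : ZMod (2 * m)) * j) = L χ j
  form : ∀ i : ZMod (2 * m), i ≠ 0 → i ≠ (m : ZMod (2 * m)) → ∀ χ ψ : IrrCharacter G,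
    (2 * m : ℂ) * secMat 2 M b (rot x i) χ ψ = colFun L χ i * conj (colFun L ψ i)

/-- The even representatives. -/
noncomputable def evenReps (m a : ℕ) : Finset (ZMod (2 * m)) :=
  (orbitReps m a).filter fun j => j * (m : ZMod (2 * m)) = 0

/-- The odd representatives. -/
noncomputable def oddReps (m a : ℕ) : Finset (ZMod (2 * m)) :=
  (orbitReps m a).filter fun j => ¬ j * (m : ZMod (2 * m)) = 0

/-- The difference at the two fixed residues. -/
def dl (L : IrrCharacter G → ZMod (2 * m) → ℕ) (χ : IrrCharacter G) : ℤ :=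
  (L χ 0 : ℤ) - L χ (m : ZMod (2 * m))

/-- The difference at an even residue. -/
def wv (L : IrrCharacter G → ZMod (2 * m) → ℕ) (i : ZMod (2 * m)) (χ : IrrCharacter G) : ℤ :=
  (L χ 0 : ℤ) - L χ i

/-- The multiplicity at an odd residue. -/
def ov (L : IrrCharacter G → ZMod (2 * m) → ℕ) (p : ZMod (2 * m)) (χ : IrrCharacter G) : ℤ :=
  (L χ p : ℤ)

/-- The members of height zero. -/
noncomputable def zeroSet (B : Set (IrrCharacter G)) : Finset (IrrCharacter G) :=
  B.toFinset.filter fun χ => blockHeight 2 B (χ : G → ℂ) = 0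

theorem mem_zeroSet {χ : IrrCharacter G} :
    χ ∈ zeroSet B ↔ χ ∈ B ∧ blockHeight 2 B (χ : G → ℂ) = 0 := by
  simp [zeroSet]

theorem card_zeroSet : Nat.card {χ : IrrCharacter G // χ ∈ B ∧ blockHeight 2 B (χ : G → ℂ) = 0} =
    (zeroSet B).card := by
  rw [Nat.card_eq_fintype_card, Fintype.card_subtype]
  congr 1
  ext χ
  simp [mem_zeroSet]

theorem sum_stdAddChar_mul [NeZero (2 * m)] (k : ZMod (2 * m)) :
    ∑ i : ZMod (2 * m), (ZMod.stdAddChar (k * i) : ℂ) = if k = 0 then (2 * m : ℂ) else 0 := by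
  rw [Finset.sum_congr rfl fun i _ => by rw [mul_comm k i],
    AddChar.sum_mulShift k (ZMod.isPrimitive_stdAddChar _), ZMod.card]
  split_ifs <;> push_cast <;> ring

theorem conj_stdAddChar [NeZero (2 * m)] (j : ZMod (2 * m)) :
    conj (ZMod.stdAddChar j : ℂ) = (ZMod.stdAddChar (-j) : ℂ) :=
  (AddChar.map_neg_eq_conj _ j).symm

theorem sum_char_pair [NeZero (2 * m)] (s t : ZMod (2 * m)) :
    ∑ i : ZMod (2 * m), (ZMod.stdAddChar (-(s * i)) : ℂ) * ZMod.stdAddChar (t * i) =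
      if s = t then (2 * m : ℂ) else 0 := by
  rw [Finset.sum_congr rfl fun i _ => by
    rw [← AddChar.map_add_eq_mul, show -(s * i) + t * i = (t - s) * i by ring], sum_stdAddChar_mul]
  exact if_congr ⟨fun h => (sub_eq_zero.1 h).symm, fun h => by rw [h, sub_self]⟩ rfl rfl

namespace MC

variable {P : Subgroup G} (D : MC P x y m a)
include D

theorem mul_m_cases (j : ZMod (2 * m)) :
    j * (m : ZMod (2 * m)) = 0 ∨ j * (m : ZMod (2 * m)) = m := by
  rcases D.exists_two_mul_or j with ⟨k, rfl⟩ | ⟨k, rfl⟩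
  · exact Or.inl (by rw [mul_right_comm, D.cast_two_m, zero_mul])
  · exact Or.inr (by rw [add_mul, mul_right_comm, D.cast_two_m, zero_mul, zero_add, one_mul])

theorem m_mul_m : (m : ZMod (2 * m)) * (m : ZMod (2 * m)) = 0 := by
  obtain ⟨k, hk⟩ := D.even_m
  rw [← Nat.cast_mul, ZMod.natCast_eq_zero_iff]
  exact ⟨k, by rw [hk]; ring⟩

theorem twist_mul_m (j : ZMod (2 * m)) :
    (a : ZMod (2 * m)) * j * (m : ZMod (2 * m)) = j * (m : ZMod (2 * m)) := by
  rw [mul_comm (a : ZMod (2 * m)) j, mul_assoc, D.twist_m]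

theorem stdAddChar_m [NeZero (2 * m)] :
    (ZMod.stdAddChar (m : ZMod (2 * m)) : ℂ) = -1 := by
  have h : (ZMod.stdAddChar (m : ZMod (2 * m)) : ℂ) * ZMod.stdAddChar (m : ZMod (2 * m)) = 1 := by
    rw [← AddChar.map_add_eq_mul, ← two_mul, D.cast_two_m, AddChar.map_zero_eq_one]
  refine (mul_self_eq_one_iff.1 h).resolve_left fun h1 => D.m_ne_zero (addChar_inj ?_)
  rw [h1, AddChar.map_zero_eq_one]

theorem one_ne [NeZero (2 * m)] :
    (1 : ZMod (2 * m)) ≠ 0 ∧ (1 : ZMod (2 * m)) ≠ (m : ZMod (2 * m)) := by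
  have := D.two_le
  haveI : Fact (1 < 2 * m) := ⟨by omega⟩
  refine ⟨one_ne_zero, fun e => ?_⟩
  have := congrArg ZMod.val e
  rw [ZMod.val_one, ZMod.val_natCast_of_lt (by omega)] at this
  omega

end MC

namespace Setting

variable (A : Setting M B b x y m a)
include A

theorem mem_evenReps {j : ZMod (2 * m)} :
    j ∈ evenReps m a ↔ j ∈ orbitReps m a ∧ j * (m : ZMod (2 * m)) = 0 := by
  simp [evenReps]

theorem mem_oddReps {j : ZMod (2 * m)} :
    j ∈ oddReps m a ↔ j ∈ orbitReps m a ∧ j * (m : ZMod (2 * m)) = m := by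
  simp only [oddReps, Finset.mem_filter]
  refine and_congr_right fun _ => ⟨(A.mc.mul_m_cases j).resolve_left, fun h h0 => A.mc.m_ne_zero ?_⟩
  rw [← h, h0]

/-- The numbers of even and of odd representatives. -/
theorem card_evenReps : (evenReps m a).card + 1 = (oddReps m a).card ∧
    2 * (oddReps m a).card = m := by
  haveI := A.mc.neZero
  set S := (Finset.univ : Finset (ZMod (2 * m))).filter fun j => j * (m : ZMod (2 * m)) = 0 with hS
  have hhalf : 2 * S.card = 2 * m := by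
    have hc : S.card + (Finset.univ.filter fun j : ZMod (2 * m) => ¬ j * (m : ZMod (2 * m)) = 0).card =
        2 * m := by
      rw [hS, Finset.card_filter_add_card_filter_not, Finset.card_univ, ZMod.card]
    have he : (Finset.univ.filter fun j : ZMod (2 * m) => ¬ j * (m : ZMod (2 * m)) = 0).card =
        S.card := by
      refine Finset.card_bij (fun j _ => j + 1) (fun j hj => ?_) (fun _ _ _ _ h => add_right_cancel h)
        (fun j hj => ⟨j - 1, ?_, sub_add_cancel _ _⟩)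
      · simp only [hS, Finset.mem_filter, Finset.mem_univ, true_and] at hj ⊢
        rw [add_mul, (A.mc.mul_m_cases j).resolve_left hj, one_mul, ← two_mul, A.mc.cast_two_m]
      · simp only [hS, Finset.mem_filter, Finset.mem_univ, true_and] at hj ⊢
        rw [sub_mul, hj, one_mul, zero_sub, A.mc.neg_m]
        exact A.mc.m_ne_zero
    omega
  have hsum := A.sum_orbits (β := ℕ) fun j => if j * (m : ZMod (2 * m)) = 0 then 1 else 0
  rw [← Finset.card_filter, ← hS] at hsum
  simp only [zero_mul, A.mc.m_mul_m, if_true, A.mc.twist_mul_m, Finset.sum_add_distrib,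
    ← Finset.card_filter] at hsum
  have hsplit : (evenReps m a).card + (oddReps m a).card = (orbitReps m a).card :=
    Finset.card_filter_add_card_filter_not _
  rw [show ((orbitReps m a).filter fun j => j * (m : ZMod (2 * m)) = 0).card = (evenReps m a).card
    from rfl] at hsum
  have := A.card_orbitReps
  omega

theorem exists_two_pow_oddReps : ∃ k : ℕ, (oddReps m a).card = 2 ^ k := by
  obtain ⟨e, he⟩ := A.mc.isPow
  have h := A.card_evenReps.2
  rcases e with _ | e
  · have := A.mc.two_le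
    omega
  · exact ⟨e, by rw [pow_succ] at he; omega⟩

/-- Centralisers at the rotations are as large as possible. -/
theorem card_le_rot {i : ZMod (2 * m)} (h0 : i ≠ 0) (hm : i ≠ (m : ZMod (2 * m))) (g : G)
    (hg : g * rot x i * g⁻¹ ∈ b.1) :
    Nat.card ↥(b.1 ⊓ Subgroup.centralizer ({g * rot x i * g⁻¹} : Set G)) ≤
      Nat.card ↥(b.1 ⊓ Subgroup.centralizer ({rot x i} : Set G)) := by
  have hR : Nat.card (zpowers x) = 2 * m := (Nat.card_zpowers x).trans A.mc.orderx
  rw [A.mc.centralizer_rot h0 hm, hR]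
  rcases A.mc.cases_mem hg with ⟨j, hj⟩ | ⟨j, hj⟩
  · rw [← hj, A.mc.centralizer_rot, hR]
    · rintro rfl
      rw [A.mc.rot_zero] at hj
      exact h0 (A.mc.rot_injective ((conj_eq_one_iff.1 hj.symm).trans A.mc.rot_zero.symm))
    · rintro rfl
      have ho : orderOf (rot x i) = orderOf (invo x m) :=
        ((MulAut.conj g).orderOf_eq _).symm.trans (congrArg orderOf hj.symm)
      exact (A.orderOf_rot_eq_one_or (ho ▸ A.orderOf_invo.dvd)).elim h0 hm
  · rw [← hj, A.mc.card_centralizer_out]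
    have := A.mc.two_le
    omega

/-- The scaled contribution at height zero is a unit. -/
theorem not_memLocalIdeal_secMat {u : G} (hu : u ∈ b.1)
    (hcard : ∀ g : G, g * u * g⁻¹ ∈ b.1 → conjPair g (bu 2 M b u) = bu 2 M b (g * u * g⁻¹) →
      Nat.card ↥(b.1 ⊓ Subgroup.centralizer ({g * u * g⁻¹} : Set G)) ≤
        Nat.card ↥(b.1 ⊓ Subgroup.centralizer ({u} : Set G)))
    {χ : IrrCharacter G} (hχ : χ ∈ B) (h0 : blockHeight 2 B (χ : G → ℂ) = 0) :
    ¬ MemLocalIdeal M ((Nat.card ↥(b.1 ⊓ Subgroup.centralizer ({u} : Set G)) : ℂ) *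
      secMat 2 M b u χ χ) := by
  haveI := Fact.mk Nat.prime_two
  have hM := A.modular
  obtain ⟨f, b', hQf, -, hb', hmax', -, -⟩ := exists_local hM A.max hu hcard
  haveI := Fintype.ofFinite (Subgroup.centralizer (zpowers u : Set G))
  have hd : Nat.card ↥(b.1 ⊓ Subgroup.centralizer ({u} : Set G)) =
      2 ^ blockDefect 2 (bu 2 M b u).2 := by
    rw [hQf]
    rw [← NilBlock.card_eq hM hmax', hb', Nat.card_congr (Subgroup.subgroupOfEquivOfLe
      (inf_le_right.trans (centralizer_zpowers u).ge)).toEquiv]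
  rw [hd, secMat, NilBlock.con]
  have key : ∀ (C : Subgroup G) (e : Set (IrrCharacter C)),
      C = Subgroup.centralizer ({u} : Set G) → IsInducedBlock M C e B →
      ¬ MemLocalIdeal M (((2 ^ blockDefect 2 e : ℕ) : ℂ) * Contrib.contrib 2 u e χ χ) := by
    rintro C e rfl he hz
    obtain ⟨lam, hlR, hlU, hl⟩ :=
      Contrib.contrib_congr hM (NilBlock.exists_orderOf_eq hM A.max hu) rfl he.1
    have hV := Contrib.blockVal_subsection hM (NilBlock.exists_orderOf_eq hM A.max hu) he hχ h0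
    have hVR := Contrib.memLocalRing_blockVal hM e
      (Chars.isCharacter_restrict (Subgroup.centralizer ({u} : Set G)) (Chars.irr_isCharacter χ))
    refine Blocks.not_memLocalIdeal_mul (Blocks.mem_localRing.1 (mul_mem
      (Blocks.mem_localRing.2 hlR) (Blocks.mem_localRing.2 hVR))) hVR
      (Blocks.not_memLocalIdeal_mul hlR hVR hlU hV) hV ?_
    rw [Nat.cast_pow] at hz
    simpa using Blocks.memLocalIdeal_sub hz (hl χ χ)
  exact key _ _ (NilBlock.centralizer_bu u) (NilBlock.isInducedBlock_bu hM A.max hu)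

/-- The values against a member of height zero. -/
theorem exists_val {h : IrrCharacter G} (hh : h ∈ B) (h0 : blockHeight 2 B (h : G → ℂ) = 0) :
    ∃ v : IrrCharacter G → ℤ, ∀ χ ∈ B,
      (4 * m : ℂ) * BrauerFeit.regCoef 2 χ h = v χ ∧
      (2 : ℤ) ^ blockHeight 2 B (χ : G → ℂ) ∣ v χ ∧
      ¬ (2 : ℤ) ^ (blockHeight 2 B (χ : G → ℂ) + 1) ∣ v χ := by
  haveI := Fact.mk Nat.prime_two
  obtain ⟨w, hw, hsym, -, hdvd, hndvd, -⟩ := BrauerFeit.exists_int_matrix A.modular
    (BrauerFeit.regOrth A.modular) (BrauerFeit.regGen 2) A.max.1.2.1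
  have hd : (2 : ℂ) ^ blockDefect 2 B = (4 * m : ℂ) := by
    have h := NilBlock.card_eq A.modular A.max
    rw [A.mc.card] at h
    have h' := congrArg (Nat.cast : ℕ → ℂ) h
    push_cast at h'
    exact h'.symm
  refine ⟨fun χ => w χ h, fun χ hχ => ⟨?_, ?_, ?_⟩⟩
  · rw [← hd, ← hw χ hχ h, Nat.cast_ofNat]
  · simp only
    rw [hsym χ hχ h hh]
    exact hdvd h hh χ hχ
  · simp only
    rw [hsym χ hχ h hh]
    exact hndvd h hh χ hχ h0

variable [NeZero (2 * m)] {L : IrrCharacter G → ZMod (2 * m) → ℕ} (hL : Cols M b x m a L)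
include hL

theorem colFun_symm (χ : IrrCharacter G) (i : ZMod (2 * m)) :
    colFun L χ ((a : ZMod (2 * m)) * i) = colFun L χ i := by
  refine Fintype.sum_bijective (fun j => (a : ZMod (2 * m)) * j)
    (Function.Involutive.bijective fun j => A.mc.twist_twist j) _ _ fun j => ?_
  rw [hL.symm]
  congr 2
  ring

/-- The orthogonality of the rotations. -/
theorem sum_col_mul {i i' : ZMod (2 * m)} (h0 : i ≠ 0) (hm : i ≠ (m : ZMod (2 * m)))
    (h0' : i' ≠ 0) (hm' : i' ≠ (m : ZMod (2 * m))) :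
    ∑ φ ∈ B.toFinset, colFun L φ i * conj (colFun L φ i') =
      (2 * m : ℂ) * ((if i' = i then 1 else 0) + if i' = (a : ZMod (2 * m)) * i then 1 else 0) := by
  haveI := Fact.mk Nat.prime_two
  have hself : ∀ k : ZMod (2 * m), k ≠ 0 → k ≠ (m : ZMod (2 * m)) →
      ∑ φ ∈ B.toFinset, colFun L φ k * conj (colFun L φ k) = (2 * m : ℂ) := by
    intro k k0 km
    rw [Finset.sum_congr rfl fun φ _ => (hL.form k k0 km φ φ).symm, ← Finset.mul_sum,
      sum_secMat_self A.modular A.max (A.mc.rot_mem k), A.blockRank_rot k0 km, Nat.cast_one, mul_one]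
  have hne : (a : ZMod (2 * m)) * i ≠ i := fun e =>
    (A.mc.fixed_iff.1 e).elim h0 hm
  by_cases h1 : i' = i
  · rw [h1, hself i h0 hm, if_pos rfl, if_neg (fun e => hne e.symm)]
    ring
  by_cases h2 : i' = (a : ZMod (2 * m)) * i
  · rw [h2, Finset.sum_congr rfl fun φ _ => by rw [A.colFun_symm hL], hself i h0 hm,
      if_neg (fun e => hne e), if_pos rfl]
    ring
  rw [if_neg h1, if_neg h2, add_zero, mul_zero]
  have hm0 : (2 * m : ℂ) ≠ 0 := by
    have := A.mc.m_pos
    exact mul_ne_zero two_ne_zero (Nat.cast_ne_zero.2 (by omega))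
  have hex : ∀ k : ZMod (2 * m), k ≠ 0 → k ≠ (m : ZMod (2 * m)) →
      ∃ χ, colFun L χ k ≠ 0 := fun k k0 km => by
    by_contra hc
    push Not at hc
    have := hself k k0 km
    rw [Finset.sum_eq_zero fun φ _ => by rw [hc φ, zero_mul]] at this
    exact hm0 this.symm
  obtain ⟨χ, hχ⟩ := hex i h0 hm
  obtain ⟨ψ, hψ⟩ := hex i' h0' hm'
  have h := secMat_orth A.modular A.max (A.mc.rot_mem i) (A.mc.rot_mem i')
    (fun hf => (A.fused_rot h0 hm hf).elim h1 h2) χ ψ
  have h' : colFun L χ i * (∑ φ ∈ B.toFinset, conj (colFun L φ i) * colFun L φ i') *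
      conj (colFun L ψ i') = 0 := by
    rw [Finset.mul_sum, Finset.sum_mul]
    calc _ = ∑ φ ∈ B.toFinset, ((2 * m : ℂ) * secMat 2 M b (rot x i) χ φ) *
          ((2 * m : ℂ) * secMat 2 M b (rot x i') φ ψ) := Finset.sum_congr rfl fun φ _ => by
            rw [hL.form i h0 hm, hL.form i' h0' hm']; ring
      _ = (2 * m : ℂ) * (2 * m : ℂ) * ∑ φ ∈ B.toFinset,
          secMat 2 M b (rot x i) χ φ * secMat 2 M b (rot x i') φ ψ := by
            rw [Finset.mul_sum]; exact Finset.sum_congr rfl fun φ _ => by ring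
      _ = 0 := by rw [h, mul_zero]
  have hz := (mul_eq_zero.1 ((mul_eq_zero.1 h').resolve_right
    ((map_ne_zero _).2 hψ))).resolve_left hχ
  have := congrArg (starRingEnd ℂ) hz
  simpa [map_sum] using this

/-- The rotations are orthogonal to the regular elements. -/
theorem sum_col_reg {i : ZMod (2 * m)} (h0 : i ≠ 0) (hm : i ≠ (m : ZMod (2 * m)))
    (ψ : IrrCharacter G) :
    ∑ φ ∈ B.toFinset, colFun L φ i * BrauerFeit.regCoef 2 φ ψ = 0 := by
  haveI := Fact.mk Nat.prime_two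
  have hne : ¬ Fused 2 M b (rot x i) 1 := by
    rintro ⟨g, hg, -⟩
    rw [conj_eq_one_iff] at hg
    exact h0 (A.mc.rot_injective (hg.trans A.mc.rot_zero.symm))
  obtain ⟨χ, hχ⟩ : ∃ χ, colFun L χ i ≠ 0 := by
    by_contra hc
    push Not at hc
    have h := A.sum_col_mul hL h0 hm h0 hm
    rw [Finset.sum_eq_zero fun φ _ => by rw [hc φ, zero_mul], if_pos rfl,
      if_neg (fun e => (A.mc.fixed_iff.1 e.symm).elim h0 hm)] at h
    have := A.mc.m_pos
    simp at h
    omega
  have h := secMat_orth A.modular A.max (A.mc.rot_mem i) (one_mem _) hne χ ψ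
  have h' : colFun L χ i * ∑ φ ∈ B.toFinset, conj (colFun L φ i) * BrauerFeit.regCoef 2 φ ψ = 0 := by
    rw [Finset.mul_sum]
    calc _ = ∑ φ ∈ B.toFinset, ((2 * m : ℂ) * secMat 2 M b (rot x i) χ φ) *
          secMat 2 M b 1 φ ψ := Finset.sum_congr rfl fun φ hφ => by
            rw [hL.form i h0 hm, secMat_one A.modular A.max (Set.mem_toFinset.1 hφ)]; ring
      _ = (2 * m : ℂ) * ∑ φ ∈ B.toFinset,
          secMat 2 M b (rot x i) χ φ * secMat 2 M b 1 φ ψ := by
            rw [Finset.mul_sum]; exact Finset.sum_congr rfl fun φ _ => by ring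
      _ = 0 := by rw [h, mul_zero]
  have := congrArg (starRingEnd ℂ) ((mul_eq_zero.1 h').resolve_left hχ)
  simpa [map_sum, BrauerFeit.conj_regCoef] using this

/-- The inversion. -/
theorem two_m_mul_sub (j k : ZMod (2 * m)) (χ : IrrCharacter G) :
    (2 * m : ℂ) * (((L χ j : ℤ) - L χ k : ℤ) : ℂ) = ∑ i : ZMod (2 * m), colFun L χ i *
      ((ZMod.stdAddChar (-(j * i)) : ℂ) - ZMod.stdAddChar (-(k * i))) := by
  have h : ∀ s : ZMod (2 * m), ∑ i : ZMod (2 * m), colFun L χ i * (ZMod.stdAddChar (-(s * i)) : ℂ) =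
      (2 * m : ℂ) * (L χ s : ℂ) := by
    intro s
    simp only [colFun, Finset.sum_mul]
    rw [Finset.sum_comm]
    simp only [mul_assoc, ← Finset.mul_sum]
    rw [Finset.sum_congr rfl fun p _ => by
      rw [Finset.sum_congr rfl fun i _ => mul_comm (ZMod.stdAddChar (p * i) : ℂ) _, sum_char_pair]]
    simp [mul_comm, mul_left_comm, mul_assoc]
  simp only [mul_sub, Finset.sum_sub_distrib, h]
  push_cast
  ring

theorem sum_diff_mul {j k p q : ZMod (2 * m)} (hjk : j * (m : ZMod (2 * m)) = k * m)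
    (hpq : p * (m : ZMod (2 * m)) = q * m) :
    ∑ χ ∈ B.toFinset, ((L χ j : ℤ) - L χ k) * ((L χ p : ℤ) - L χ q) =
      ((if j = p then (1 : ℤ) else 0) + if j = (a : ZMod (2 * m)) * p then 1 else 0) -
        ((if j = q then (1 : ℤ) else 0) + if j = (a : ZMod (2 * m)) * q then 1 else 0) -
        ((if k = p then (1 : ℤ) else 0) + if k = (a : ZMod (2 * m)) * p then 1 else 0) +
        ((if k = q then (1 : ℤ) else 0) + if k = (a : ZMod (2 * m)) * q then 1 else 0) := by
  set g : ZMod (2 * m) → ℂ := fun i =>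
    (ZMod.stdAddChar (-(j * i)) : ℂ) - ZMod.stdAddChar (-(k * i)) with hg
  set g' : ZMod (2 * m) → ℂ := fun i =>
    (ZMod.stdAddChar (p * i) : ℂ) - ZMod.stdAddChar (q * i) with hg'
  have hgz : ∀ i, i = 0 ∨ i = (m : ZMod (2 * m)) → g i = 0 ∧ g' i = 0 := by
    rintro i (rfl | rfl) <;> simp [hg, hg', hjk, hpq]
  have h1 : ∀ χ, (2 * m : ℂ) * (((L χ j : ℤ) - L χ k : ℤ) : ℂ) =
      ∑ i, colFun L χ i * g i := fun χ => A.two_m_mul_sub hL j k χ
  have h2 : ∀ χ, (2 * m : ℂ) * (((L χ p : ℤ) - L χ q : ℤ) : ℂ) =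
      ∑ i, conj (colFun L χ i) * g' i := fun χ => by
    have h := congrArg (starRingEnd ℂ) (A.two_m_mul_sub hL p q χ)
    rw [map_mul, map_mul, map_ofNat, Complex.conj_natCast, map_intCast, map_sum] at h
    rw [h]
    refine Finset.sum_congr rfl fun i _ => ?_
    rw [map_mul, map_sub, conj_stdAddChar, conj_stdAddChar, neg_neg, neg_neg]
  have hsum : ∀ i i' : ZMod (2 * m),
      ∑ χ ∈ B.toFinset, (colFun L χ i * g i) * (conj (colFun L χ i') * g' i') =
        g i * g' i' * ((2 * m : ℂ) * ((if i' = i then 1 else 0) +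
          if i' = (a : ZMod (2 * m)) * i then 1 else 0)) := by
    intro i i'
    rw [Finset.sum_congr rfl fun χ _ => show (colFun L χ i * g i) * (conj (colFun L χ i') * g' i') =
      g i * g' i' * (colFun L χ i * conj (colFun L χ i')) by ring, ← Finset.mul_sum]
    by_cases hi : i = 0 ∨ i = (m : ZMod (2 * m))
    · rw [(hgz i hi).1]; ring
    by_cases hi' : i' = 0 ∨ i' = (m : ZMod (2 * m))
    · rw [(hgz i' hi').2]; ring
    push Not at hi hi'
    rw [A.sum_col_mul hL hi.1 hi.2 hi'.1 hi'.2]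
  have key : ((2 * m : ℂ) * (2 * m : ℂ)) *
      ((∑ χ ∈ B.toFinset, ((L χ j : ℤ) - L χ k) * ((L χ p : ℤ) - L χ q) : ℤ) : ℂ) =
      (2 * m : ℂ) * ∑ i, g i * (g' i + g' ((a : ZMod (2 * m)) * i)) := by
    rw [Int.cast_sum, Finset.mul_sum]
    rw [Finset.sum_congr rfl fun χ _ => by
      rw [Int.cast_mul, mul_mul_mul_comm, h1, h2, Finset.sum_mul_sum]]
    rw [Finset.sum_comm, Finset.mul_sum]
    refine Finset.sum_congr rfl fun i _ => ?_
    rw [Finset.sum_comm, Finset.sum_congr rfl fun i' _ => hsum i i']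
    simp only [mul_add, Finset.sum_add_distrib, mul_ite, mul_one, mul_zero, Finset.sum_ite_eq',
      Finset.mem_univ, if_true]
    ring
  have hval : ∑ i, g i * (g' i + g' ((a : ZMod (2 * m)) * i)) = (2 * m : ℂ) *
      ((((if j = p then (1 : ℤ) else 0) + if j = (a : ZMod (2 * m)) * p then 1 else 0) -
        ((if j = q then (1 : ℤ) else 0) + if j = (a : ZMod (2 * m)) * q then 1 else 0) -
        ((if k = p then (1 : ℤ) else 0) + if k = (a : ZMod (2 * m)) * p then 1 else 0) +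
        ((if k = q then (1 : ℤ) else 0) + if k = (a : ZMod (2 * m)) * q then 1 else 0) : ℤ) : ℂ) := by
    have ht : ∀ (t i : ZMod (2 * m)), t * ((a : ZMod (2 * m)) * i) = (a : ZMod (2 * m)) * t * i :=
      fun t i => by ring
    simp only [hg, hg', ht, sub_mul, mul_add, mul_sub, Finset.sum_add_distrib,
      Finset.sum_sub_distrib, sum_char_pair]
    push_cast
    simp only [← mul_boole _ (2 * (m : ℂ))]
    ring
  rw [hval, ← mul_assoc (2 * m : ℂ) (2 * m : ℂ)] at key
  have hm0 : (2 * m : ℂ) * (2 * m : ℂ) ≠ 0 := by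
    have := A.mc.m_pos
    exact mul_self_ne_zero.2 (mul_ne_zero two_ne_zero (Nat.cast_ne_zero.2 (by omega)))
  exact_mod_cast mul_left_cancel₀ hm0 key

theorem sum_diff_reg {j k : ZMod (2 * m)} (hjk : j * (m : ZMod (2 * m)) = k * m)
    (ψ : IrrCharacter G) :
    ∑ χ ∈ B.toFinset, (((L χ j : ℤ) - L χ k : ℤ) : ℂ) * BrauerFeit.regCoef 2 χ ψ = 0 := by
  have hm0 : (2 * m : ℂ) ≠ 0 := by
    have := A.mc.m_pos
    exact mul_ne_zero two_ne_zero (Nat.cast_ne_zero.2 (by omega))
  refine (mul_eq_zero.1 (show (2 * m : ℂ) * _ = 0 from ?_)).resolve_left hm0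
  rw [Finset.mul_sum, Finset.sum_congr rfl fun χ _ => by
    rw [← mul_assoc, A.two_m_mul_sub hL, Finset.sum_mul], Finset.sum_comm]
  refine Finset.sum_eq_zero fun i _ => ?_
  by_cases hi : i = 0 ∨ i = (m : ZMod (2 * m))
  · refine Finset.sum_eq_zero fun χ _ => ?_
    rcases hi with rfl | rfl <;> simp [hjk]
  push Not at hi
  rw [Finset.sum_congr rfl fun χ _ => mul_right_comm _ _ _, ← Finset.sum_mul,
    A.sum_col_reg hL hi.1 hi.2, zero_mul]

/-- The difference at the fixed residues is odd at height zero. -/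
theorem odd_dl {χ : IrrCharacter G} (hχ : χ ∈ B) (h0 : blockHeight 2 B (χ : G → ℂ) = 0) :
    Odd (dl L χ) := by
  haveI := Fact.mk Nat.prime_two
  obtain ⟨h1, h1m⟩ := A.mc.one_ne
  have hnot := A.not_memLocalIdeal_secMat (A.mc.rot_mem 1)
    (fun g hg _ => A.card_le_rot h1 h1m g hg) hχ h0
  rw [A.mc.centralizer_rot h1 h1m, (Nat.card_zpowers x).trans A.mc.orderx, Nat.cast_mul,
    Nat.cast_ofNat, hL.form 1 h1 h1m] at hnot
  obtain ⟨e, he⟩ := A.mc.isPow
  have hroot : ∀ k : ZMod (2 * m), MemLocalIdeal M ((ZMod.stdAddChar k : ℂ) - 1) := fun k =>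
    Blocks.memLocalIdeal_sub_one_of_pow_eq_one A.modular (k := e + 1) (by
      rw [← AddChar.map_nsmul_eq_pow, pow_succ', ← he, nsmul_eq_mul, ZMod.natCast_self, zero_mul,
        AddChar.map_zero_eq_one])
  set S : ℤ := ∑ j : ZMod (2 * m), (L χ j : ℤ) with hS
  have hF : MemLocalIdeal M (colFun L χ 1 - (S : ℂ)) := by
    rw [colFun, hS, Int.cast_sum, ← Finset.sum_sub_distrib]
    refine Blocks.memLocalIdeal_sum _ _ fun j _ => ?_
    rw [show (L χ j : ℂ) * (ZMod.stdAddChar (j * 1) : ℂ) - ((L χ j : ℤ) : ℂ) =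
      (L χ j : ℂ) * ((ZMod.stdAddChar (j * 1) : ℂ) - 1) by push_cast; ring]
    exact Blocks.memLocalIdeal_mul_left (Blocks.mem_localRing.1 (natCast_mem _ _)) (hroot _)
  have hF' : MemLocalIdeal M (conj (colFun L χ 1) - (S : ℂ)) := by
    rw [colFun, hS, Int.cast_sum, map_sum, ← Finset.sum_sub_distrib]
    refine Blocks.memLocalIdeal_sum _ _ fun j _ => ?_
    rw [map_mul, Complex.conj_natCast, conj_stdAddChar,
      show (L χ j : ℂ) * (ZMod.stdAddChar (-(j * 1)) : ℂ) - ((L χ j : ℤ) : ℂ) =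
        (L χ j : ℂ) * ((ZMod.stdAddChar (-(j * 1)) : ℂ) - 1) by push_cast; ring]
    exact Blocks.memLocalIdeal_mul_left (Blocks.mem_localRing.1 (natCast_mem _ _)) (hroot _)
  have hodd : Odd S := by
    by_contra hev
    have hSI : MemLocalIdeal M (S : ℂ) := (Blocks.memLocalIdeal_intCast_iff A.modular S).2 (by
      simpa [Int.not_odd_iff_even, even_iff_two_dvd] using hev)
    have h1 : MemLocalIdeal M (colFun L χ 1) := by simpa using Blocks.memLocalIdeal_add hF hSI
    have h2 : MemLocalIdeal M (conj (colFun L χ 1)) := by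
      simpa using Blocks.memLocalIdeal_add hF' hSI
    exact hnot (Blocks.memLocalIdeal_mul_right h1 (Blocks.memLocalIdeal_memLocalRing h2))
  rw [hS, A.sum_orbits, Finset.sum_congr rfl fun i _ => by rw [hL.symm, ← two_mul],
    ← Finset.mul_sum] at hodd
  rw [dl, Int.odd_iff] at *
  omega

/-- The Gram data. -/
theorem gram {v : IrrCharacter G → ℤ} {h : IrrCharacter G}
    (hv : ∀ χ ∈ B, (4 * m : ℂ) * BrauerFeit.regCoef 2 χ h = v χ ∧
      (2 : ℤ) ^ blockHeight 2 B (χ : G → ℂ) ∣ v χ ∧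
      ¬ (2 : ℤ) ^ (blockHeight 2 B (χ : G → ℂ) + 1) ∣ v χ) :
    Gram B.toFinset (evenReps m a) (oddReps m a) (dl L) (wv L) (ov L) v := by
  haveI := Fact.mk Nat.prime_two
  have he : ∀ i ∈ evenReps m a, i ≠ 0 ∧ i ≠ (m : ZMod (2 * m)) ∧
      (0 : ZMod (2 * m)) * m = i * m ∧ i ∈ orbitReps m a := fun i hi => by
    obtain ⟨h1, h2⟩ := A.mem_evenReps.1 hi
    exact ⟨(A.orbitReps_ne h1).1, (A.orbitReps_ne h1).2, by rw [h2, zero_mul], h1⟩
  have ho : ∀ i ∈ oddReps m a, i ≠ 0 ∧ i ≠ (m : ZMod (2 * m)) ∧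
      i * (m : ZMod (2 * m)) = m ∧ i ∈ orbitReps m a := fun i hi => by
    obtain ⟨h1, h2⟩ := A.mem_oddReps.1 hi
    exact ⟨(A.orbitReps_ne h1).1, (A.orbitReps_ne h1).2, h2, h1⟩
  have hne : ∀ i ∈ orbitReps m a, ∀ k ∈ orbitReps m a, i ≠ (a : ZMod (2 * m)) * k :=
    fun i hi k hk e => A.twist_notMem hk (e ▸ hi)
  have hdis : ∀ p ∈ oddReps m a, ∀ i ∈ evenReps m a, p ≠ i := fun p hp i hi e => by
    refine A.mc.m_ne_zero ?_
    rw [← (ho p hp).2.2.1, e, (A.mem_evenReps.1 hi).2]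
  have h0m : (0 : ZMod (2 * m)) * m = (m : ZMod (2 * m)) * m := by rw [zero_mul, A.mc.m_mul_m]
  have hmz := A.mc.m_ne_zero
  have hz0 : ∀ i : ZMod (2 * m), i ≠ 0 → (a : ZMod (2 * m)) * i ≠ 0 := fun i hi e =>
    hi (by rw [← A.mc.twist_twist i, e, mul_zero])
  have htm := A.mc.twist_m
  constructor
  · exact hdis
  · simp only [dl]
    rw [A.sum_diff_mul hL h0m h0m]
    simp [hmz, Ne.symm hmz, htm]
  · obtain ⟨χ, hχ, hχ0⟩ := Blocks.exists_height_zero (p := 2) A.max.1.2.1
    exact ⟨χ, Set.mem_toFinset.2 hχ, A.odd_dl hL hχ hχ0⟩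
  · intro i hi
    obtain ⟨n0, nm, hp, hiJ⟩ := he i hi
    simp only [wv]
    rw [A.sum_diff_mul hL hp hp]
    simp [n0, Ne.symm n0, hne i hiJ i hiJ, Ne.symm (hz0 i n0)]
  · intro i hi k hk hik
    obtain ⟨n0, nm, hp, hiJ⟩ := he i hi
    obtain ⟨k0, km, hq, hkJ⟩ := he k hk
    simp only [wv]
    rw [A.sum_diff_mul hL hp hq]
    simp [n0, Ne.symm k0, hik, hne i hiJ k hkJ, Ne.symm (hz0 k k0)]
  · intro i hi
    obtain ⟨n0, nm, hp, hiJ⟩ := he i hi
    simp only [wv, dl]
    rw [A.sum_diff_mul hL hp h0m]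
    simp [n0, nm, Ne.symm hmz, htm]
  · intro p hp q hq r hr s hs
    simp only [ov]
    rw [A.sum_diff_mul hL ((ho p hp).2.2.1.trans (ho q hq).2.2.1.symm)
      ((ho r hr).2.2.1.trans (ho s hs).2.2.1.symm)]
    simp [hne p (ho p hp).2.2.2 r (ho r hr).2.2.2, hne p (ho p hp).2.2.2 s (ho s hs).2.2.2,
      hne q (ho q hq).2.2.2 r (ho r hr).2.2.2, hne q (ho q hq).2.2.2 s (ho s hs).2.2.2]
  · intro p hp q hq
    simp only [ov, dl]
    rw [A.sum_diff_mul hL ((ho p hp).2.2.1.trans (ho q hq).2.2.1.symm) h0m]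
    simp [(ho p hp).1, (ho p hp).2.1, (ho q hq).1, (ho q hq).2.1, htm]
  · intro p hp q hq i hi
    obtain ⟨n0, nm, hpe, hiJ⟩ := he i hi
    simp only [ov, wv]
    rw [A.sum_diff_mul hL ((ho p hp).2.2.1.trans (ho q hq).2.2.1.symm) hpe]
    simp [(ho p hp).1, (ho q hq).1, hdis p hp i hi, hdis q hq i hi,
      hne p (ho p hp).2.2.2 i hiJ, hne q (ho q hq).2.2.2 i hiJ]
  · intro χ hχ e
    exact (hv χ (Set.mem_toFinset.1 hχ)).2.2 (e ▸ dvd_zero _)
  · intro p hp q hq
    have h' := A.sum_diff_reg hL ((ho p hp).2.2.1.trans (ho q hq).2.2.1.symm) h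
    have : ((∑ χ ∈ B.toFinset, (ov L p χ - ov L q χ) * v χ : ℤ) : ℂ) = 0 := by
      rw [Int.cast_sum, show (0 : ℂ) = (4 * m : ℂ) * 0 by ring, ← h', Finset.mul_sum]
      refine Finset.sum_congr rfl fun χ hχ => ?_
      rw [Int.cast_mul, ← (hv χ (Set.mem_toFinset.1 hχ)).1, ov, ov]
      ring
    exact_mod_cast this

/-- The members of height zero are the four members where the fixed residues differ. -/
theorem zeroSet_eq : zeroSet B = supp4 B.toFinset (dl L) ∧ (zeroSet B).card = 4 := by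
  haveI := Fact.mk Nat.prime_two
  obtain ⟨h, hh, hh0⟩ := Blocks.exists_height_zero (p := 2) A.max.1.2.1
  obtain ⟨v, hv⟩ := A.exists_val hh hh0
  have S := A.gram hL hv
  have hsub : zeroSet B ⊆ supp4 B.toFinset (dl L) := fun χ hχ => by
    obtain ⟨h1, h2⟩ := mem_zeroSet.1 hχ
    refine Finset.mem_filter.2 ⟨Set.mem_toFinset.2 h1, fun e => ?_⟩
    have := A.odd_dl hL h1 h2
    rw [e] at this
    exact absurd this (by decide)
  have hsq : ∑ χ ∈ B.toFinset, v χ * v χ = 4 * m * v h := by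
    have : ((∑ χ ∈ B.toFinset, v χ * v χ : ℤ) : ℂ) = ((4 * m * v h : ℤ) : ℂ) := by
      push_cast
      rw [← (hv h hh).1, ← BrauerFeit.sum_toFinset_regCoef_mul (BrauerFeit.regOrth A.modular)
        A.max.1.2.1 hh, Finset.mul_sum, Finset.mul_sum]
      refine Finset.sum_congr rfl fun χ hχ => ?_
      rw [← (hv χ (Set.mem_toFinset.1 hχ)).1, BrauerFeit.regCoef_comm 2 h χ]
      ring
    exact_mod_cast this
  have hodd : ∀ χ ∈ B.toFinset, (v χ * v χ) % 4 =
      if blockHeight 2 B (χ : G → ℂ) = 0 then 1 else 0 := by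
    intro χ hχ
    obtain ⟨-, hd, hnd⟩ := hv χ (Set.mem_toFinset.1 hχ)
    split_ifs with hz
    · rw [hz, zero_add, pow_one] at hnd
      obtain ⟨k, hk⟩ : Odd (v χ) := by rwa [← Int.not_even_iff_odd, even_iff_two_dvd]
      rw [hk, show (2 * k + 1) * (2 * k + 1) = 4 * (k * k + k) + 1 by ring]
      omega
    · obtain ⟨k, hk⟩ : (2 : ℤ) ∣ v χ := (dvd_pow_self 2 hz).trans hd
      rw [hk, show 2 * k * (2 * k) = 4 * (k * k) by ring]
      omega
  have h4 : ((zeroSet B).card : ℤ) % 4 = 0 := by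
    have h1 : (∑ χ ∈ B.toFinset, v χ * v χ) % 4 = 0 := by
      rw [hsq, mul_assoc]
      exact Int.mul_emod_right 4 _
    rw [Finset.sum_int_mod, Finset.sum_congr rfl hodd, Finset.sum_boole] at h1
    exact h1
  have hpos : 0 < (zeroSet B).card := Finset.card_pos.2 ⟨h, mem_zeroSet.2 ⟨hh, hh0⟩⟩
  have hle := Finset.card_le_card hsub
  rw [S.card_supp4] at hle
  refine ⟨Finset.eq_of_subset_of_card_le hsub ?_, by omega⟩
  rw [S.card_supp4]
  omega

/-- The value at a rotation from the multiplicities up to a change on each parity. -/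
theorem colFun_eq_of_shift {χ : IrrCharacter G} {P Q : ℂ} {d : ZMod (2 * m) → ℂ}
    (h : ∀ j, (L χ j : ℂ) = P + Q * ZMod.stdAddChar (j * (m : ZMod (2 * m))) + d j)
    {i : ZMod (2 * m)} (h0 : i ≠ 0) (hm : i ≠ (m : ZMod (2 * m))) :
    colFun L χ i = ∑ j, d j * ZMod.stdAddChar (j * i) := by
  simp only [colFun, h, add_mul, Finset.sum_add_distrib, mul_assoc, ← Finset.mul_sum,
    ← AddChar.map_add_eq_mul, ← mul_add]
  have h1 : ∑ j : ZMod (2 * m), (ZMod.stdAddChar (j * i) : ℂ) = 0 := by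
    rw [Finset.sum_congr rfl fun j _ => by rw [mul_comm j i], sum_stdAddChar_mul, if_neg h0]
  have h2 : ∑ j : ZMod (2 * m), (ZMod.stdAddChar (j * ((m : ZMod (2 * m)) + i)) : ℂ) = 0 := by
    rw [Finset.sum_congr rfl fun j _ => by rw [mul_comm j _], sum_stdAddChar_mul,
      if_neg fun e => hm ?_]
    rw [← A.mc.neg_m]
    linear_combination e
  rw [h1, h2, mul_zero, mul_zero, zero_add, zero_add]

/-- Every residue has the multiplicity of a fixed residue or of a representative. -/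
theorem residue_cases (χ : IrrCharacter G) (j : ZMod (2 * m)) :
    j = 0 ∨ j = (m : ZMod (2 * m)) ∨
      ∃ r ∈ orbitReps m a, (j = r ∨ j = (a : ZMod (2 * m)) * r) ∧ L χ j = L χ r ∧
        j * (m : ZMod (2 * m)) = r * m := by
  by_cases h0 : j = 0
  · exact Or.inl h0
  by_cases hm : j = (m : ZMod (2 * m))
  · exact Or.inr (Or.inl hm)
  refine Or.inr (Or.inr ?_)
  rcases A.orbit_cases h0 hm with h | h
  · exact ⟨j, h, Or.inl rfl, rfl, rfl⟩
  · exact ⟨_, h, Or.inr (A.mc.twist_twist j).symm, (hL.symm χ j).symm, (A.mc.twist_mul_m j).symm⟩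

/-- A member without variation on the parities. -/
theorem colFun_pure {χ : IrrCharacter G}
    (hw : (∀ i ∈ evenReps m a, wv L i χ = 0) ∨ ∀ i ∈ evenReps m a, wv L i χ = dl L χ)
    (hl : ∀ p ∈ oddReps m a, ∀ q ∈ oddReps m a, ov L p χ = ov L q χ) :
    (∀ i : ZMod (2 * m), i ≠ 0 → i ≠ (m : ZMod (2 * m)) → colFun L χ i = dl L χ) ∨
      ∀ i : ZMod (2 * m), i ≠ 0 → i ≠ (m : ZMod (2 * m)) →
        colFun L χ i = -(dl L χ : ℂ) * ZMod.stdAddChar ((m : ZMod (2 * m)) * i) := by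
  obtain ⟨p₁, hp₁⟩ := Finset.card_pos.1 (show 0 < (oddReps m a).card by
    have := A.card_evenReps.1; omega)
  obtain ⟨-, hp₁m⟩ := A.mem_oddReps.1 hp₁
  rcases hw with hw | hw
  · right
    intro i h0 hm
    rw [A.colFun_eq_of_shift hL (P := ((L χ 0 : ℂ) + L χ p₁) / 2) (Q := ((L χ 0 : ℂ) - L χ p₁) / 2)
      (d := fun j => if j = (m : ZMod (2 * m)) then -(dl L χ : ℂ) else 0) ?_ h0 hm]
    · simp
    intro j
    rcases A.residue_cases hL χ j with rfl | rfl | ⟨r, hr, hjor, hLr, hjr⟩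
    · rw [zero_mul, AddChar.map_zero_eq_one, if_neg (Ne.symm A.mc.m_ne_zero)]
      ring
    · rw [A.mc.m_mul_m, AddChar.map_zero_eq_one, if_pos rfl, dl]
      push_cast
      ring
    · rw [if_neg (fun e => ?_), hLr, hjr]
      · rcases A.mc.mul_m_cases r with hrm | hrm <;> rw [hrm]
        · have h := hw r (A.mem_evenReps.2 ⟨hr, hrm⟩)
          rw [wv, sub_eq_zero] at h
          rw [AddChar.map_zero_eq_one, show (L χ r : ℂ) = L χ 0 by exact_mod_cast h.symm]
          ring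
        · have h := hl r (A.mem_oddReps.2 ⟨hr, hrm⟩) p₁ hp₁
          rw [A.mc.stdAddChar_m, show (L χ r : ℂ) = L χ p₁ by exact_mod_cast (show (L χ r : ℤ) = L χ p₁ from h)]
          ring
      · rcases hjor with e' | e'
        · exact (A.orbitReps_ne hr).2 (e'.symm.trans e)
        · exact (A.orbitReps_ne hr).2 (by rw [← A.mc.twist_twist r, ← e', e, A.mc.twist_m])
  · left
    intro i h0 hm
    rw [A.colFun_eq_of_shift hL (P := ((L χ (m : ZMod (2 * m)) : ℂ) + L χ p₁) / 2)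
      (Q := ((L χ (m : ZMod (2 * m)) : ℂ) - L χ p₁) / 2)
      (d := fun j => if j = 0 then (dl L χ : ℂ) else 0) ?_ h0 hm]
    · simp
    intro j
    rcases A.residue_cases hL χ j with rfl | rfl | ⟨r, hr, hjor, hLr, hjr⟩
    · rw [zero_mul, AddChar.map_zero_eq_one, if_pos rfl, dl]
      push_cast
      ring
    · rw [A.mc.m_mul_m, AddChar.map_zero_eq_one, if_neg A.mc.m_ne_zero]
      ring
    · rw [if_neg (fun e => ?_), hLr, hjr]
      · rcases A.mc.mul_m_cases r with hrm | hrm <;> rw [hrm]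
        · have h := hw r (A.mem_evenReps.2 ⟨hr, hrm⟩)
          rw [wv, dl, sub_right_inj] at h
          rw [AddChar.map_zero_eq_one, show (L χ r : ℂ) = L χ (m : ZMod (2 * m)) by exact_mod_cast h]
          ring
        · have h := hl r (A.mem_oddReps.2 ⟨hr, hrm⟩) p₁ hp₁
          rw [A.mc.stdAddChar_m, show (L χ r : ℂ) = L χ p₁ by exact_mod_cast (show (L χ r : ℤ) = L χ p₁ from h)]
          ring
      · rcases hjor with e' | e'
        · exact (A.orbitReps_ne hr).1 (e'.symm.trans e)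
        · exact (A.orbitReps_ne hr).1 (by rw [← A.mc.twist_twist r, ← e', e, mul_zero])

/-- A member outside the height zero set with one representative. -/
theorem colFun_single {χ : IrrCharacter G} {j₀ : ZMod (2 * m)} {c : ℤ} (hd : dl L χ = 0)
    (hj₀ : j₀ ∈ evenReps m a ∨ j₀ ∈ oddReps m a) (hc : c = 1 ∨ c = -1)
    (hw : ∀ i ∈ evenReps m a, wv L i χ = if i = j₀ then c else 0)
    (hl : ∀ p ∈ oddReps m a, ∀ q ∈ oddReps m a,
      ov L p χ - ov L q χ = (if p = j₀ then c else 0) - if q = j₀ then c else 0) :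
    ∃ t : ℤ, (t = 1 ∨ t = -1) ∧ ∀ i : ZMod (2 * m), i ≠ 0 → i ≠ (m : ZMod (2 * m)) →
      colFun L χ i = (t : ℂ) * ((ZMod.stdAddChar (j₀ * i) : ℂ) +
        ZMod.stdAddChar ((a : ZMod (2 * m)) * j₀ * i)) := by
  obtain ⟨p₁, hp₁⟩ := Finset.card_pos.1 (show 0 < (oddReps m a).card by
    have := A.card_evenReps.1; omega)
  have hj₀J : j₀ ∈ orbitReps m a := hj₀.elim (fun h => (A.mem_evenReps.1 h).1)
    fun h => (A.mem_oddReps.1 h).1
  set t : ℤ := if j₀ ∈ evenReps m a then -c else c with ht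
  refine ⟨t, ?_, fun i h0 hm => ?_⟩
  · rw [ht]; split_ifs <;> omega
  set P0 : ℂ := (L χ 0 : ℂ) with hP0
  set P1 : ℂ := ((ov L p₁ χ - if p₁ = j₀ then c else 0 : ℤ) : ℂ) with hP1
  have hne : (a : ZMod (2 * m)) * j₀ ≠ j₀ := A.twist_ne hj₀J
  rw [A.colFun_eq_of_shift hL (P := (P0 + P1) / 2) (Q := (P0 - P1) / 2)
    (d := fun j => (t : ℂ) * ((if j = j₀ then 1 else 0) +
      if j = (a : ZMod (2 * m)) * j₀ then 1 else 0)) ?_ h0 hm]
  · simp [mul_add, add_mul, Finset.sum_add_distrib]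
  intro j
  rcases A.residue_cases hL χ j with rfl | rfl | ⟨r, hr, hjor, hLr, hjr⟩
  · obtain ⟨n1, n2⟩ := A.orbitReps_ne hj₀J
    rw [zero_mul, AddChar.map_zero_eq_one, if_neg (Ne.symm n1), if_neg fun e => n1 (by
      rw [← A.mc.twist_twist j₀, ← e, mul_zero]), hP0]
    ring
  · obtain ⟨n1, n2⟩ := A.orbitReps_ne hj₀J
    rw [A.mc.m_mul_m, AddChar.map_zero_eq_one, if_neg (Ne.symm n2), if_neg fun e => n2 (by
      rw [← A.mc.twist_twist j₀, ← e, A.mc.twist_m]), hP0]
    rw [dl, sub_eq_zero] at hd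
    rw [show (L χ (m : ZMod (2 * m)) : ℂ) = L χ 0 by exact_mod_cast hd.symm]
    ring
  · have hind : ((if j = j₀ then (1 : ℂ) else 0) + if j = (a : ZMod (2 * m)) * j₀ then 1 else 0) =
        if r = j₀ then 1 else 0 := by
      by_cases e : r = j₀
      · rw [if_pos e]
        rcases hjor with h | h <;> rw [h, e]
        · rw [if_pos rfl, if_neg (Ne.symm hne), add_zero]
        · rw [if_neg hne, if_pos rfl, zero_add]
      · rw [if_neg e]
        rcases hjor with h | h <;> rw [h]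
        · rw [if_neg e, if_neg (fun e' : r = (a : ZMod (2 * m)) * j₀ => A.twist_notMem hj₀J (e' ▸ hr)), add_zero]
        · rw [if_neg (fun e' : (a : ZMod (2 * m)) * r = j₀ => A.twist_notMem hr (e'.symm ▸ hj₀J)),
            if_neg (fun e' : (a : ZMod (2 * m)) * r = (a : ZMod (2 * m)) * j₀ => e (by
              rw [← A.mc.twist_twist r, e', A.mc.twist_twist])), zero_add]
    rw [hind, hLr, hjr]
    rcases A.mc.mul_m_cases r with hrm | hrm <;> rw [hrm]
    · have hre := A.mem_evenReps.2 ⟨hr, hrm⟩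
      have h := hw r hre
      rw [AddChar.map_zero_eq_one, hP0]
      by_cases e : r = j₀
      · rw [if_pos e] at h ⊢
        rw [ht, if_pos (e ▸ hre), show (L χ r : ℂ) = (L χ 0 : ℂ) - (c : ℂ) by
          rw [← h, wv]; push_cast; ring]
        push_cast
        ring
      · rw [if_neg e] at h ⊢
        rw [wv, sub_eq_zero] at h
        rw [show (L χ r : ℂ) = L χ 0 by exact_mod_cast h.symm]
        ring
    · have hro := A.mem_oddReps.2 ⟨hr, hrm⟩
      have h := hl r hro p₁ hp₁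
      rw [A.mc.stdAddChar_m, hP1, show (L χ r : ℂ) = ((ov L r χ : ℤ) : ℂ) by rw [ov]; push_cast; rfl,
        show ov L r χ = ov L p₁ χ - (if p₁ = j₀ then c else 0) + if r = j₀ then c else 0 by omega]
      by_cases e : r = j₀
      · have hnot : j₀ ∉ evenReps m a := fun h' => A.mc.m_ne_zero (by
          rw [← hrm, e, (A.mem_evenReps.1 h').2])
        rw [if_pos e, if_pos e, ht, if_neg hnot]
        push_cast
        ring
      · rw [if_neg e, if_neg e]
        push_cast
        ring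

/-- A member without any variation. -/
theorem colFun_eq_zero {χ : IrrCharacter G} (hd : dl L χ = 0)
    (hw : ∀ i ∈ evenReps m a, wv L i χ = 0)
    (hl : ∀ p ∈ oddReps m a, ∀ q ∈ oddReps m a, ov L p χ = ov L q χ)
    {i : ZMod (2 * m)} (h0 : i ≠ 0) (hm : i ≠ (m : ZMod (2 * m))) : colFun L χ i = 0 := by
  rcases A.colFun_pure hL (Or.inl hw) hl with h | h <;> simp [h i h0 hm, hd]

end Setting

end Cfsg.Agent.Lib.MaxClassDefect
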