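import Cfsg.Agent.Lib.MaxClassDefect.Outer
import Cfsg.Agent.Lib.Chars.Induced
import Cfsg.Agent.Lib.Chars.Ops
import Mathlib

/-!
# A stable character of the defect group
-/

set_option autoImplicit false
set_option linter.unusedSectionVars false
set_option linter.style.haveILetI false

namespace Cfsg.Agent.Lib.MaxClassDefect

open Cfsg
open Cfsg.Agent.Lib
open Cfsg.Agent.Lib.BrauerPairs
open Cfsg.Agent.Lib.NilBlock (bu bu_fst)
open Subgroup (zpowers mem_zpowers)
open scoped ComplexConjugate

universe u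

attribute [local instance] Classical.propDecidable

variable {G : Type u} [Group G] [Fintype G] {M : Ideal AlgInt} [M.IsPrime]
  {B : Set (IrrCharacter G)} {b : BrauerPairIdx G} {x y : G} {m a : ℕ}

/-- One for semidihedral, zero for quaternion coordinates. -/
def sd (m a : ℕ) : ℤ := if a + 1 = m then 1 else 0

/-- A function of the coordinates. -/
noncomputable def byCoord (x y : G) (m : ℕ) (f g : ZMod (2 * m) → ℂ) (u : G) : ℂ :=
  if h : ∃ i : ZMod (2 * m), rot x i = u then f h.choose
  else if h : ∃ i : ZMod (2 * m), rot x i * y = u then g h.choose else 0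

/-- The value of the stable character at a rotation. -/
noncomputable def thetaRot (m a : ℕ) [NeZero (2 * m)] (i : ZMod (2 * m)) : ℂ :=
  (ZMod.stdAddChar i : ℂ) + ZMod.stdAddChar ((a : ZMod (2 * m)) * i) +
    (sd m a : ℂ) * ZMod.stdAddChar ((m : ZMod (2 * m)) * i)

/-- The stable character. -/
noncomputable def theta (x y : G) (m a : ℕ) [NeZero (2 * m)] : G → ℂ :=
  byCoord x y m (thetaRot m a)
    fun i => -((sd m a : ℂ) * ZMod.stdAddChar ((m : ZMod (2 * m)) * i))

/-- The value of the stable character at the central involution. -/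
def thetaInvo (m a : ℕ) : ℤ := -2 + sd m a

namespace MC

variable {P : Subgroup G} (D : MC P x y m a)
include D

theorem byCoord_rot (f g : ZMod (2 * m) → ℂ) (i : ZMod (2 * m)) :
    byCoord x y m f g (rot x i) = f i := by
  have h : ∃ j : ZMod (2 * m), rot x j = rot x i := ⟨i, rfl⟩
  rw [byCoord, dif_pos h, D.rot_injective h.choose_spec]

theorem byCoord_out (f g : ZMod (2 * m) → ℂ) (i : ZMod (2 * m)) :
    byCoord x y m f g (rot x i * y) = g i := by
  have h' : ¬ ∃ j : ZMod (2 * m), rot x j = rot x i * y := fun ⟨j, hj⟩ => D.rot_ne_out j i hj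
  have h : ∃ j : ZMod (2 * m), rot x j * y = rot x i * y := ⟨i, rfl⟩
  rw [byCoord, dif_neg h', dif_pos h, D.out_injective h.choose_spec]

/-- The rotation part of the stable character is induced. -/
theorem isCharacter_ind [NeZero (2 * m)] [Fintype P] :
    IsCharacter P fun u : P => byCoord x y m
      (fun i => (ZMod.stdAddChar i : ℂ) + ZMod.stdAddChar ((a : ZMod (2 * m)) * i))
      (fun _ => 0) (u : G) := by
  set R : Subgroup P := (zpowers x).subgroupOf P with hR
  haveI : Fintype R := Fintype.ofFinite _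
  have hRle : zpowers x ≤ P := Subgroup.zpowers_le.2 D.x_mem
  have hex : ∀ r : R, ∃ i : ZMod (2 * m), rot x i = ((r : P) : G) := fun r =>
    D.exists_rot (Subgroup.mem_subgroupOf.1 r.2)
  choose idx hidx using hex
  let φ : R →* ℂ :=
    { toFun := fun r => (ZMod.stdAddChar (idx r) : ℂ)
      map_one' := by
        rw [D.rot_injective ((hidx 1).trans (by simp [D.rot_zero]) : rot x (idx 1) = rot x 0),
          AddChar.map_zero_eq_one]
      map_mul' := fun r s => by
        rw [← AddChar.map_add_eq_mul]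
        congr 1
        refine D.rot_injective ?_
        rw [hidx, D.rot_add, hidx, hidx, Subgroup.coe_mul, Subgroup.coe_mul] }
  have hlin : IsCharacter R fun r => (φ.toHomUnits r : ℂ) := Chars.isCharacter_hom _
  have hind := Chars.isCharacter_indFun (G := P) R hlin
  convert hind using 1
  funext u
  have hcardR : Nat.card R = 2 * m := by
    rw [hR, Nat.card_congr (Subgroup.subgroupOfEquivOfLe hRle).toEquiv, Nat.card_zpowers, D.orderx]
  have hext : ∀ (i : ZMod (2 * m)) (w : P), (w : G) = rot x i →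
      extendByZero R (fun r => (φ.toHomUnits r : ℂ)) w = (ZMod.stdAddChar i : ℂ) := by
    intro i w hw
    have hwR : w ∈ R := Subgroup.mem_subgroupOf.2 (by rw [hw]; exact D.rot_mem_zpowers i)
    rw [Chars.extendByZero_of_mem _ hwR, MonoidHom.coe_toHomUnits]
    show (ZMod.stdAddChar (idx ⟨w, hwR⟩) : ℂ) = _
    rw [D.rot_injective ((hidx ⟨w, hwR⟩).trans hw)]
  let e : ZMod (2 * m) ⊕ ZMod (2 * m) → P :=
    Sum.elim (fun k => ⟨rot x k, D.rot_mem k⟩) fun k => ⟨rot x k * y, D.out_mem k⟩
  have he : Function.Bijective e := by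
    refine ⟨?_, fun w => ?_⟩
    · rintro (k | k) (l | l) h <;> have h' := congrArg Subtype.val h <;> simp only [e, Sum.elim_inl,
        Sum.elim_inr] at h'
      · rw [D.rot_injective h']
      · exact absurd h' (D.rot_ne_out k l)
      · exact absurd h'.symm (D.rot_ne_out l k)
      · rw [D.out_injective h']
    · rcases D.cases_mem w.2 with ⟨k, hk⟩ | ⟨k, hk⟩
      · exact ⟨Sum.inl k, Subtype.ext hk⟩
      · exact ⟨Sum.inr k, Subtype.ext hk⟩
  rw [indFun, hcardR, ← (Fintype.sum_bijective e he _ _ fun _ => rfl), Fintype.sum_sum_type]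
  rcases D.cases_mem u.2 with ⟨i, hi⟩ | ⟨i, hi⟩
  · rw [← hi, D.byCoord_rot]
    have h1 : ∀ k, extendByZero R (fun r => (φ.toHomUnits r : ℂ))
        ((e (Sum.inl k))⁻¹ * u * e (Sum.inl k)) = (ZMod.stdAddChar i : ℂ) := fun k => hext i _ (by
      show (rot x k)⁻¹ * (u : G) * rot x k = _
      rw [← hi, mul_assoc, D.comm_rot i k, inv_mul_cancel_left])
    have h2 : ∀ k, extendByZero R (fun r => (φ.toHomUnits r : ℂ))
        ((e (Sum.inr k))⁻¹ * u * e (Sum.inr k)) =
          (ZMod.stdAddChar ((a : ZMod (2 * m)) * i) : ℂ) := fun k => hext _ _ (by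
      show (rot x k * y)⁻¹ * (u : G) * (rot x k * y) = _
      have h := D.out_conj_rot k ((a : ZMod (2 * m)) * i)
      rw [D.twist_twist] at h
      rw [← hi, ← h]
      group)
    simp only [h1, h2, Finset.sum_const, Finset.card_univ, ZMod.card, nsmul_eq_mul]
    rw [← mul_add, ← mul_assoc, inv_mul_cancel₀ (by exact_mod_cast (NeZero.ne (2 * m))), one_mul]
  · rw [← hi, D.byCoord_out]
    symm
    rw [← Finset.sum_add_distrib, Finset.sum_eq_zero, mul_zero]
    intro k _
    have hout : ∀ w : P, extendByZero R (fun r => (φ.toHomUnits r : ℂ)) (w⁻¹ * u * w) = 0 := by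
      intro w
      refine Chars.extendByZero_of_not_mem _ fun h => D.out_notMem i ?_
      obtain ⟨l, hl⟩ := D.exists_rot (Subgroup.mem_subgroupOf.1 h)
      rw [hi, show (u : G) = (w : G) * ((w⁻¹ * u * w : P) : G) * (w : G)⁻¹ by push_cast; group,
        ← hl]
      rcases D.cases_mem w.2 with ⟨t, ht⟩ | ⟨t, ht⟩ <;> rw [← ht]
      · rw [D.comm_rot, mul_inv_cancel_right]
        exact D.rot_mem_zpowers _
      · rw [D.out_conj_rot]
        exact D.rot_mem_zpowers _
    rw [hout, hout, add_zero]

/-- The linear character negative at both generators, semidihedral case. -/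
theorem isCharacter_lin [NeZero (2 * m)] (hy : y * y = 1) :
    IsCharacter P fun u : P => byCoord x y m
      (fun i => (ZMod.stdAddChar ((m : ZMod (2 * m)) * i) : ℂ))
      (fun i => -(ZMod.stdAddChar ((m : ZMod (2 * m)) * i) : ℂ)) (u : G) := by
  set f : G → ℂ := byCoord x y m
      (fun i => (ZMod.stdAddChar ((m : ZMod (2 * m)) * i) : ℂ))
      (fun i => -(ZMod.stdAddChar ((m : ZMod (2 * m)) * i) : ℂ)) with hf
  have hma : ∀ j : ZMod (2 * m), (m : ZMod (2 * m)) * ((a : ZMod (2 * m)) * j) = m * j := fun j => by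
    rw [← mul_assoc, mul_comm (m : ZMod (2 * m)) (a : ZMod (2 * m)), D.twist_m]
  have hy' : ∀ j : ZMod (2 * m), y * rot x j = rot x ((a : ZMod (2 * m)) * j) * y := fun j =>
    mul_inv_eq_iff_eq_mul.1 (D.conj_rot j)
  let φ : P →* ℂ :=
    { toFun := fun u => f u
      map_one' := by
        show f 1 = 1
        rw [← D.rot_zero, hf, D.byCoord_rot, mul_zero, AddChar.map_zero_eq_one]
      map_mul' := fun u v => by
        show f ((u : G) * v) = f u * f v
        rcases D.cases_mem u.2 with ⟨i, hi⟩ | ⟨i, hi⟩ <;>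
          rcases D.cases_mem v.2 with ⟨j, hj⟩ | ⟨j, hj⟩ <;> rw [← hi, ← hj, hf]
        · rw [← D.rot_add, D.byCoord_rot, D.byCoord_rot, D.byCoord_rot, mul_add,
            AddChar.map_add_eq_mul]
        · rw [← mul_assoc, ← D.rot_add, D.byCoord_out, D.byCoord_out, D.byCoord_rot, mul_add,
            AddChar.map_add_eq_mul, mul_neg]
        · rw [mul_assoc, hy', ← mul_assoc, ← D.rot_add, D.byCoord_out, D.byCoord_out, D.byCoord_rot,
            mul_add, hma, AddChar.map_add_eq_mul, neg_mul]
        · rw [show rot x i * y * (rot x j * y) = rot x i * (y * rot x j) * y by group, hy',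
            mul_assoc, mul_assoc (rot x ((a : ZMod (2 * m)) * j)), hy, mul_one, ← D.rot_add,
            D.byCoord_rot, D.byCoord_out, D.byCoord_out, mul_add, hma, AddChar.map_add_eq_mul,
            neg_mul_neg] }
  have h := Chars.isCharacter_hom φ.toHomUnits
  exact h

/-- A half of the central residue is moved by it under the twist. -/
theorem twist_half {i : ZMod (2 * m)} (h : 2 * i = (m : ZMod (2 * m))) :
    (a : ZMod (2 * m)) * i = i + m := by
  obtain ⟨c, hc⟩ := D.exists_unit
  have hcm : (c : ZMod (2 * m)) * (m : ZMod (2 * m)) = m := by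
    rcases D.two_mul_eq_zero.1 (show 2 * ((c : ZMod (2 * m)) * m) = 0 by
      rw [mul_left_comm, D.cast_two_m, mul_zero]) with e | e
    · exact absurd ((IsUnit.mul_right_eq_zero c.isUnit).1 e) D.m_ne_zero
    · exact e
  linear_combination -i * hc - (c : ZMod (2 * m)) * h - hcm + D.neg_m

theorem kind_cases : (sd m a = 0 ∧ a + 1 = 2 * m ∧ y * y = x ^ m) ∨
    (sd m a = 1 ∧ a + 1 = m ∧ y * y = 1 ∧ 4 ∣ m) := by
  rcases D.kind with ⟨ha, hy⟩ | ⟨ha, hy, h4⟩
  · left
    refine ⟨if_neg ?_, ha, hy⟩
    have := D.two_le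
    omega
  · exact Or.inr ⟨if_pos ha, ha, hy, h4⟩

end MC

namespace Setting

variable (A : Setting M B b x y m a)
include A

variable [NeZero (2 * m)]

theorem theta_rot (i : ZMod (2 * m)) : theta x y m a (rot x i) = thetaRot m a i :=
  A.mc.byCoord_rot _ _ i

theorem theta_out (i : ZMod (2 * m)) : theta x y m a (rot x i * y) =
    -((sd m a : ℂ) * ZMod.stdAddChar ((m : ZMod (2 * m)) * i)) := A.mc.byCoord_out _ _ i

theorem theta_invo : theta x y m a (invo x m) = thetaInvo m a := by
  rw [invo, A.theta_rot, thetaRot, A.mc.twist_m, A.mc.m_mul_m, AddChar.map_zero_eq_one,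
    A.mc.stdAddChar_m, thetaInvo]
  push_cast
  ring

theorem theta_one : theta x y m a 1 - theta x y m a (invo x m) = 4 := by
  rw [A.theta_invo, ← A.mc.rot_zero (x := x), A.theta_rot, thetaRot, mul_zero, mul_zero,
    AddChar.map_zero_eq_one, thetaInvo]
  push_cast
  ring

theorem isCharacter_theta : IsCharacter b.1 fun u : b.1 => theta x y m a u := by
  haveI : Fintype b.1 := Fintype.ofFinite _
  rcases A.mc.kind_cases with ⟨hs, -, -⟩ | ⟨hs, -, hy, -⟩
  · convert A.mc.isCharacter_ind using 1
    funext u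
    rcases A.mc.cases_mem u.2 with ⟨i, hi⟩ | ⟨i, hi⟩ <;> rw [← hi]
    · rw [A.theta_rot, A.mc.byCoord_rot, thetaRot, hs]
      simp
    · rw [A.theta_out, A.mc.byCoord_out, hs]
      simp
  · convert Chars.isCharacter_add A.mc.isCharacter_ind (A.mc.isCharacter_lin hy) using 1
    funext u
    rw [Pi.add_apply]
    rcases A.mc.cases_mem u.2 with ⟨i, hi⟩ | ⟨i, hi⟩ <;> rw [← hi]
    · rw [A.theta_rot, A.mc.byCoord_rot, A.mc.byCoord_rot, thetaRot, hs]
      simp
    · rw [A.theta_out, A.mc.byCoord_out, A.mc.byCoord_out, hs]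
      simp

theorem theta_val_sq {u : G} (hu : u ∈ b.1) (hne : u ≠ 1) :
    (u * u = 1 → theta x y m a u = thetaInvo m a) ∧
      (u * u = invo x m → theta x y m a u = sd m a) := by
  have hone : invo x m ≠ 1 := A.invo_ne_one
  rcases A.mc.cases_mem hu with ⟨i, rfl⟩ | ⟨i, rfl⟩
  · refine ⟨fun h => ?_, fun h => ?_⟩
    · rw [← A.mc.rot_add, ← two_mul, ← A.mc.rot_zero (x := x)] at h
      rcases A.mc.two_mul_eq_zero.1 (A.mc.rot_injective h) with rfl | rfl
      · exact absurd A.mc.rot_zero hne
      · exact A.theta_invo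
    · rw [← A.mc.rot_add, ← two_mul, invo] at h
      have h2 := A.mc.rot_injective h
      rw [A.theta_rot, thetaRot, A.mc.twist_half h2, AddChar.map_add_eq_mul, A.mc.stdAddChar_m]
      rcases A.mc.kind_cases with ⟨hs, -, -⟩ | ⟨hs, -, -, h4⟩ <;> rw [hs]
      · push_cast; ring
      · obtain ⟨q, hq⟩ := h4
        have hmi : (m : ZMod (2 * m)) * i = 0 := by
          have hm : (m : ZMod (2 * m)) = 4 * (q : ZMod (2 * m)) := by
            have := congrArg (Nat.cast : ℕ → ZMod (2 * m)) hq
            push_cast at this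
            exact this
          linear_combination i * hm +
            2 * (q : ZMod (2 * m)) * h2 + (q : ZMod (2 * m)) * A.mc.cast_two_m
        rw [hmi, AddChar.map_zero_eq_one]
        push_cast
        ring
  · rw [A.theta_out]
    rcases A.mc.kind_cases with ⟨hs, ha, hy⟩ | ⟨hs, ha, hy, -⟩
    · refine ⟨fun h => ?_, fun _ => by rw [hs]; simp⟩
      exfalso
      have hz : ((1 : ZMod (2 * m)) + a) = 0 := by
        rw [← Nat.cast_one, ← Nat.cast_add, add_comm 1 a, ha, ZMod.natCast_self]
      rw [A.mc.out_sq, hz, zero_mul, A.mc.rot_zero, one_mul, hy] at h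
      exact hone (by rw [invo, A.mc.rot_natCast, h])
    · have hz : ((1 : ZMod (2 * m)) + a) = (m : ZMod (2 * m)) := by
        rw [← Nat.cast_one, ← Nat.cast_add, add_comm 1 a, ha]
      rw [A.mc.out_sq, hz, hy, mul_one, hs, mul_comm (m : ZMod (2 * m)) i, invo,
        ← A.mc.rot_zero (x := x)]
      refine ⟨fun h => ?_, fun h => ?_⟩
      · rw [A.mc.rot_injective h, AddChar.map_zero_eq_one, thetaInvo, hs]
        push_cast
        ring
      · rw [A.mc.rot_injective h, A.mc.stdAddChar_m]
        push_cast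
        ring

theorem theta_stable {u v : G} (hu : u ∈ b.1) (hv : v ∈ b.1) (h : Fused 2 M b u v) :
    theta x y m a u = theta x y m a v := by
  haveI := Fact.mk Nat.prime_two
  -- elements whose square is central
  have small : ∀ {u v : G}, u ∈ b.1 → v ∈ b.1 → Fused 2 M b u v →
      (u * u = 1 ∨ u * u = invo x m) → theta x y m a u = theta x y m a v := by
    intro u v hu hv ⟨g, hg, _⟩ hsq
    have hvv : v * v = g * (u * u) * g⁻¹ := by rw [← hg]; group
    by_cases h1 : u = 1
    · rw [h1, mul_one, mul_inv_cancel] at hg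
      rw [h1, hg]
    have hv1 : v ≠ 1 := fun e => h1 (by rwa [e, conj_eq_one_iff] at hg)
    rcases hsq with hs | hs
    · rw [(A.theta_val_sq hu h1).1 hs, (A.theta_val_sq hv hv1).1 (by rw [hvv, hs]; group)]
    · have hord : orderOf (v * v) = 2 := by
        rw [hvv, hs, ← A.orderOf_invo]
        exact (MulAut.conj g).orderOf_eq _
      have hzv : v * v = invo x m := by
        rcases A.mc.cases_mem hv with ⟨j, rfl⟩ | ⟨j, rfl⟩
        · rw [← A.mc.rot_add] at hord ⊢
          rcases A.orderOf_rot_eq_one_or hord.dvd with e | e <;> rw [e] at hord ⊢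
          · rw [A.mc.rot_zero, orderOf_one] at hord
            omega
          · rfl
        · refine (A.mc.out_sq_cases j).resolve_left fun e => ?_
          rw [e, orderOf_one] at hord
          omega
      rw [(A.theta_val_sq hu h1).2 hs, (A.theta_val_sq hv hv1).2 hzv]
  rcases A.mc.cases_mem hu with ⟨i, rfl⟩ | ⟨i, rfl⟩
  swap
  · exact small hu hv h (A.mc.out_sq_cases i)
  by_cases hi : i = 0 ∨ i = (m : ZMod (2 * m))
  · refine small hu hv h (Or.inl ?_)
    rw [← A.mc.rot_add, ← two_mul, A.mc.two_mul_eq_zero.2 hi, A.mc.rot_zero]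
  push Not at hi
  rcases A.mc.cases_mem hv with ⟨j, rfl⟩ | ⟨j, rfl⟩
  · rcases A.fused_rot hi.1 hi.2 h with rfl | rfl
    · rfl
    · rw [A.theta_rot, A.theta_rot, thetaRot, thetaRot, A.mc.twist_twist,
        ← mul_assoc (m : ZMod (2 * m)), mul_comm (m : ZMod (2 * m)) (a : ZMod (2 * m)), A.mc.twist_m]
      ring
  · exact (small hv hu (A.fused_symm hu h) (A.mc.out_sq_cases j)).symm

/-- The integrality given by the stable character. -/
theorem exists_int_reg {χ : IrrCharacter G} (hχ : χ ∈ B) (ψ : IrrCharacter G) :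
    ∃ N : ℤ, 4 * BrauerFeit.regCoef 2 χ ψ = N - (thetaInvo m a : ℂ) * (if χ = ψ then 1 else 0) -
      ∑ i ∈ orbitReps m a, (thetaRot m a i - thetaInvo m a) * secMat 2 M b (rot x i) χ ψ -
      ∑ u ∈ outReps M b x y, (theta x y m a u - thetaInvo m a) * secMat 2 M b u χ ψ := by
  haveI := Fact.mk Nat.prime_two
  obtain ⟨N, hN⟩ := exists_int_sum_secMat A.modular A.max A.isReps A.isCharacter_theta
    (fun u hu v hv h => A.theta_stable hu hv h) hχ ψ
  refine ⟨N, ?_⟩
  have hsum := sum_secMat A.modular A.max A.isReps hχ ψ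
  rw [A.sum_reps] at hN hsum
  rw [← secMat_one A.modular A.max hχ, ← A.theta_one, ← hN, ← hsum, A.theta_invo]
  simp only [A.theta_rot, sub_mul, Finset.sum_sub_distrib, ← Finset.mul_sum]
  ring

end Setting

end Cfsg.Agent.Lib.MaxClassDefect
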